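import Mathlib
import Cfsg.Agent.Lib.Classical.JordanClasses

/-!
# Invariant complementary pairs of a unipotent map
-/

set_option autoImplicit false
set_option linter.unusedSectionVars false

open Module

namespace Cfsg.Agent.Forms.Elusive

open Cfsg.Agent.Classical.JordanChains

variable {F : Type*} [Field F]

section
variable {V : Type*} [AddCommGroup V] [Module F V] [FiniteDimensional F V] {N : V →ₗ[F] V}

/-- the span of the chains in `S` -/
noncomputable def chainSpan (N : V →ₗ[F] V) {t : ℕ} (d : Fin t → ℕ) (v : Fin t → V) (S : Finset (Fin t)) :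
    Submodule F V :=
  Submodule.span F ((fun i : Idx d => (N ^ (i.2 : ℕ)) (v i.1)) '' {i | i.1 ∈ S})

theorem chainSpan_inv {t : ℕ} {d : Fin t → ℕ} {v : Fin t → V} (h : Chains N d v) (S : Finset (Fin t)) :
    (chainSpan N d v S).map N ≤ chainSpan N d v S := by
  rw [chainSpan, Submodule.map_span, Submodule.span_le]
  rintro _ ⟨_, ⟨⟨k, j⟩, hk, rfl⟩, rfl⟩
  show N ((N ^ (j : ℕ)) (v k)) ∈ chainSpan N d v S
  rw [← Module.End.mul_apply, ← pow_succ']
  rcases Nat.lt_or_ge ((j : ℕ) + 1) (d k) with hj | hj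
  · exact Submodule.subset_span ⟨⟨k, ⟨(j : ℕ) + 1, hj⟩⟩, hk, rfl⟩
  · rw [show (j : ℕ) + 1 = d k by omega, h.kill]
    exact Submodule.zero_mem _

theorem finrank_chainSpan {t : ℕ} {d : Fin t → ℕ} {v : Fin t → V} (h : Chains N d v) (S : Finset (Fin t)) :
    finrank F (chainSpan N d v S) = ∑ k ∈ S, d k := by
  classical
  have hli : LinearIndependent F fun i : {i : Idx d // i.1 ∈ S} => (N ^ (i.1.2 : ℕ)) (v i.1.1) :=
    h.li.comp _ Subtype.val_injective
  have e : chainSpan N d v S = Submodule.span F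
      (Set.range fun i : {i : Idx d // i.1 ∈ S} => (N ^ (i.1.2 : ℕ)) (v i.1.1)) := by
    rw [chainSpan]
    congr 1
    ext x
    simp [Set.mem_image, and_comm]
  rw [e, finrank_span_eq_card hli, Fintype.card_subtype]
  have : (Finset.univ.filter fun i : Idx d => i.1 ∈ S) = S.sigma fun _ => Finset.univ := by ext i; simp
  rw [this, Finset.card_sigma]
  simp

theorem chainSpan_compl {t : ℕ} {d : Fin t → ℕ} {v : Fin t → V} (h : Chains N d v) (S : Finset (Fin t)) :
    IsCompl (chainSpan N d v S) (chainSpan N d v Sᶜ) := by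
  classical
  refine ⟨h.li.disjoint_span_image (Set.disjoint_left.2 fun i hi hi' => ?_), codisjoint_iff.2 ?_⟩
  · exact Finset.mem_compl.1 hi' hi
  · rw [eq_top_iff, chainSpan, chainSpan, ← Submodule.span_union]
    refine h.span.trans (Submodule.span_mono ?_)
    rintro _ ⟨i, rfl⟩
    rcases Classical.em (i.1 ∈ S) with hi | hi
    · exact Or.inl ⟨i, hi, rfl⟩
    · exact Or.inr ⟨i, Finset.mem_compl.2 hi, rfl⟩

theorem exists_finset_of_le {t : ℕ} (d : Fin t → ℕ) {ν : Multiset ℕ} (hν : ν ≤ parts d) :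
    ∃ S : Finset (Fin t), ∑ k ∈ S, d k = ν.sum := by
  classical
  have key : ∀ (ν : Multiset ℕ) (T : Finset (Fin t)), ν ≤ T.val.map d →
      ∃ S ⊆ T, ∑ k ∈ S, d k = ν.sum := by
    intro ν
    induction ν using Multiset.induction_on with
    | empty => exact fun T _ => ⟨∅, Finset.empty_subset _, by simp⟩
    | cons a ν ih =>
      intro T hle
      obtain ⟨k, hk, rfl⟩ := Multiset.mem_map.1 (Multiset.mem_of_le hle (Multiset.mem_cons_self a ν))
      have e : T.val.map d = d k ::ₘ (T.erase k).val.map d := by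
        rw [← Multiset.map_cons, Finset.erase_val, Multiset.cons_erase hk]
      rw [e, Multiset.cons_le_cons_iff] at hle
      obtain ⟨S, hS, hsum⟩ := ih (T.erase k) hle
      refine ⟨insert k S, Finset.insert_subset hk (hS.trans (Finset.erase_subset _ _)), ?_⟩
      rw [Finset.sum_insert fun h => Finset.notMem_erase k T (hS h), hsum, Multiset.sum_cons]
  obtain ⟨S, -, hS⟩ := key ν Finset.univ hν
  exact ⟨S, hS⟩

/-- the chains of an invariant subspace with an invariant complement -/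
theorem parts_le_of_compl {t a b : ℕ} {d : Fin t → ℕ} {v : Fin t → V} (h : Chains N d v)
    {U W : Submodule F V} (hc : IsCompl U W) (hU : U.map N ≤ U) (hW : W.map N ≤ W)
    {d₁ : Fin a → ℕ} {v₁ : Fin a → V} (h₁ : ChainsOn N U d₁ v₁)
    {d₂ : Fin b → ℕ} {v₂ : Fin b → V} (h₂ : ChainsOn N W d₂ v₂) : parts d₁ ≤ parts d := by
  classical
  let d₃ : Fin (a + b) → ℕ := Fin.addCases d₁ d₂
  let v₃ : Fin (a + b) → V := Fin.addCases v₁ v₂
  have hspU : Submodule.span F (Set.range fun i : Idx d₁ => (N ^ (i.2 : ℕ)) (v₁ i.1)) = U :=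
    le_antisymm (Submodule.span_le.2 (by
      rintro _ ⟨i, rfl⟩; exact pow_mem (fun x hx => hU ⟨x, hx, rfl⟩) (h₁.mem _) _)) h₁.span
  have hspW : Submodule.span F (Set.range fun i : Idx d₂ => (N ^ (i.2 : ℕ)) (v₂ i.1)) = W :=
    le_antisymm (Submodule.span_le.2 (by
      rintro _ ⟨i, rfl⟩; exact pow_mem (fun x hx => hW ⟨x, hx, rfl⟩) (h₂.mem _) _)) h₂.span
  let φ : Idx d₁ ⊕ Idx d₂ → Idx d₃ := Sum.elim
    (fun i => ⟨Fin.castAdd b i.1, Fin.cast (by simp [d₃]) i.2⟩)
    (fun i => ⟨Fin.natAdd a i.1, Fin.cast (by simp [d₃]) i.2⟩)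
  have hφ : Function.Surjective φ := by
    rintro ⟨k, j⟩
    revert j
    refine Fin.addCases (fun k => ?_) (fun k => ?_) k
    · exact fun j => ⟨Sum.inl ⟨k, Fin.cast (by simp [d₃]) j⟩, rfl⟩
    · exact fun j => ⟨Sum.inr ⟨k, Fin.cast (by simp [d₃]) j⟩, rfl⟩
  have hcard : Fintype.card (Idx d₁ ⊕ Idx d₂) = Fintype.card (Idx d₃) := by
    simp [Fintype.card_sigma, Fin.sum_univ_add, d₃]
  let e := Equiv.ofBijective φ ((Fintype.bijective_iff_surjective_and_card φ).2 ⟨hφ, hcard⟩)
  have hcomp : (fun i : Idx d₃ => (N ^ (i.2 : ℕ)) (v₃ i.1)) ∘ φ =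
      Sum.elim (fun i : Idx d₁ => (N ^ (i.2 : ℕ)) (v₁ i.1)) (fun i : Idx d₂ => (N ^ (i.2 : ℕ)) (v₂ i.1)) := by
    funext i
    rcases i with i | i <;> simp [φ, v₃]
  have h₃ : Chains N d₃ v₃ := by
    refine ⟨fun k => ?_, fun k => trivial, fun k => ?_, ?_, ?_⟩
    · refine Fin.addCases (fun k => ?_) (fun k => ?_) k
      · simpa [d₃] using h₁.pos k
      · simpa [d₃] using h₂.pos k
    · refine Fin.addCases (fun k => ?_) (fun k => ?_) k
      · simpa [d₃, v₃] using h₁.kill k
      · simpa [d₃, v₃] using h₂.kill k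
    · rw [← linearIndependent_equiv e]
      show LinearIndependent F ((fun i : Idx d₃ => (N ^ (i.2 : ℕ)) (v₃ i.1)) ∘ φ)
      rw [hcomp]
      exact h₁.li.sum_type h₂.li (by rw [hspU, hspW]; exact hc.disjoint)
    · rw [← hφ.range_comp, hcomp, Set.Sum.elim_range, Submodule.span_union, hspU, hspW, hc.sup_eq_top]
  rw [h.parts_eq h₃, Multiset.le_iff_count]
  intro x
  rw [count_parts, count_parts]
  refine (le_of_eq ?_).trans (Finset.card_le_card
    (s := (Finset.univ.filter fun k => d₁ k = x).map (Fin.castAddEmb b)) ?_)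
  · rw [Finset.card_map]
  · intro k hk
    simp only [Finset.mem_map, Finset.mem_filter, Finset.mem_univ, true_and] at hk ⊢
    obtain ⟨k', hk', rfl⟩ := hk
    simpa [d₃] using hk'

/-- complementary invariant pairs and sub-partitions -/
theorem exists_pair_iff {t : ℕ} {d : Fin t → ℕ} {v : Fin t → V} (hN : IsNilpotent N) (h : Chains N d v)
    (m : ℕ) :
    (∃ U W : Submodule F V, IsCompl U W ∧ finrank F U = m ∧ U.map N ≤ U ∧ W.map N ≤ W) ↔
      ∃ ν : Multiset ℕ, ν ≤ parts d ∧ ν.sum = m := by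
  classical
  constructor
  · rintro ⟨U, W, hc, hUm, hU, hW⟩
    obtain ⟨a, d₁, v₁, h₁⟩ := exists_chainsOn N hN U fun x hx => hU ⟨x, hx, rfl⟩
    obtain ⟨b, d₂, v₂, h₂⟩ := exists_chainsOn N hN W fun x hx => hW ⟨x, hx, rfl⟩
    have hspU : Submodule.span F (Set.range fun i : Idx d₁ => (N ^ (i.2 : ℕ)) (v₁ i.1)) = U :=
      le_antisymm (Submodule.span_le.2 (by
        rintro _ ⟨i, rfl⟩; exact pow_mem (fun x hx => hU ⟨x, hx, rfl⟩) (h₁.mem _) _)) h₁.span
    refine ⟨parts d₁, parts_le_of_compl h hc hU hW h₁ h₂, ?_⟩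
    rw [← hUm, ← hspU, finrank_span_eq_card h₁.li, Fintype.card_sigma, parts, Finset.sum_map_val]
    simp
  · rintro ⟨ν, hν, rfl⟩
    obtain ⟨S, hS⟩ := exists_finset_of_le d hν
    exact ⟨_, _, chainSpan_compl h S, by rw [finrank_chainSpan h, hS],
      chainSpan_inv h S, chainSpan_inv h Sᶜ⟩

/-- sub-partitions of a partition into parts at most 2 -/
theorem two_parts (n m : ℕ) (hmn : m ≤ n) :
    (∀ μ : Multiset ℕ, (∀ a ∈ μ, 0 < a ∧ a ≤ 2) → μ.sum = n → ∃ ν : Multiset ℕ, ν ≤ μ ∧ ν.sum = m) ↔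
      (Odd n ∨ Even m) := by
  constructor
  · intro h
    rcases Nat.even_or_odd n with ⟨b, hb⟩ | ho
    · obtain ⟨ν, hν, rfl⟩ := h (Multiset.replicate b 2)
        (fun a ha => by rw [Multiset.eq_of_mem_replicate ha]; omega) (by simp; omega)
      obtain ⟨c, -, rfl⟩ := Multiset.le_replicate_iff.1 hν
      exact Or.inr (by simp)
    · exact Or.inl ho
  · intro h μ hμ hsum
    have e : μ = Multiset.replicate (μ.count 1) 1 + Multiset.replicate (μ.count 2) 2 := by
      ext a
      rw [Multiset.count_add, Multiset.count_replicate, Multiset.count_replicate]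
      by_cases ha : a ∈ μ
      · obtain ⟨h1, h2⟩ := hμ a ha
        interval_cases a <;> simp
      · rw [Multiset.count_eq_zero_of_notMem ha]
        split_ifs <;> subst_vars <;> (try omega) <;> simp [Multiset.count_eq_zero_of_notMem ha]
    rw [e, Multiset.sum_add, Multiset.sum_replicate, Multiset.sum_replicate, smul_eq_mul, smul_eq_mul] at hsum
    have hcond : n % 2 = 1 ∨ m % 2 = 0 := h.imp Nat.odd_iff.1 Nat.even_iff.1
    refine ⟨Multiset.replicate (m - 2 * min (μ.count 2) (m / 2)) 1 +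
      Multiset.replicate (min (μ.count 2) (m / 2)) 2, ?_, ?_⟩
    · rw [e]
      refine add_le_add (Multiset.replicate_le_replicate _ |>.2 ?_) (Multiset.replicate_le_replicate _ |>.2 ?_)
      · rw [← e]; omega
      · rw [← e]; exact min_le_left _ _
    · rw [Multiset.sum_add, Multiset.sum_replicate, Multiset.sum_replicate, smul_eq_mul, smul_eq_mul]
      omega

end

variable [Fintype F] {n : ℕ}

/-- elements of order `p` and invariant complementary pairs -/
theorem char_pairs_iff (p : ℕ) [hp : Fact p.Prime] [CharP F p] (m : ℕ) (hm : m ≤ n) (hn : 0 < n) :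
    (∀ x : Matrix.SpecialLinearGroup (Fin n) F,
      (∃ c : F, ((x ^ p : Matrix.SpecialLinearGroup (Fin n) F) : Matrix (Fin n) (Fin n) F) = c • 1) →
      (∀ c : F, (x : Matrix (Fin n) (Fin n) F) ≠ c • 1) →
      ∃ U W : Submodule F (Fin n → F), IsCompl U W ∧ finrank F U = m ∧
        U.map (Matrix.toLin' (x : Matrix (Fin n) (Fin n) F)) ≤ U ∧
        W.map (Matrix.toLin' (x : Matrix (Fin n) (Fin n) F)) ≤ W) ↔
    ∀ μ : Multiset ℕ, (∀ a ∈ μ, 0 < a ∧ a ≤ p) → μ.sum = n → ∃ ν : Multiset ℕ, ν ≤ μ ∧ ν.sum = m := by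
  classical
  constructor
  · intro h μ hμ hsum
    obtain ⟨g, hg, hpart⟩ := exists_unip (F := F) (n := n) ⟨μ, fun {a} ha => (hμ a ha).1, hsum⟩
    have hparts : (partition g hg).parts = μ := by rw [hpart]
    have hgp : g ^ p = 1 := by
      have := (pow_char_eq_one_iff p g 1).2 ((partition_pow_eq_zero hg (p ^ 1)).2 fun a ha => by
        rw [hparts] at ha; rw [pow_one]; exact (hμ a ha).2)
      rwa [pow_one] at this
    by_cases hone : ∀ a ∈ μ, a = 1
    · have e := Multiset.eq_replicate_card.2 hone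
      refine ⟨Multiset.replicate m 1, ?_, by simp⟩
      rw [e]
      refine (Multiset.replicate_le_replicate _).2 ?_
      rw [e] at hsum
      simp at hsum
      omega
    push Not at hone
    have hdet : (g : Matrix (Fin n) (Fin n) F).det = 1 := by
      have h1 := congrArg (fun u : GL (Fin n) F => (u : Matrix (Fin n) (Fin n) F).det) hgp
      simp only [Units.val_pow_eq_pow_val, Matrix.det_pow, Units.val_one, Matrix.det_one] at h1
      have h2 : ((g : Matrix (Fin n) (Fin n) F).det - 1) ^ p = 0 := by rw [sub_pow_char, h1, one_pow, sub_self]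
      exact sub_eq_zero.1 (eq_zero_of_pow_eq_zero h2)
    obtain ⟨U, W, hc, hUm, hU, hW⟩ := h ⟨g, hdet⟩ ⟨1, by
      refine (Matrix.SpecialLinearGroup.coe_pow _ p).trans ?_
      show (g : Matrix (Fin n) (Fin n) F) ^ p = _
      rw [← Units.val_pow_eq_pow_val, hgp, one_smul, Units.val_one]⟩ (fun c hc => by
        change (g : Matrix (Fin n) (Fin n) F) = c • 1 at hc
        have hc1 : c = 1 := by
          have h1 := congrArg (fun u : GL (Fin n) F => (u : Matrix (Fin n) (Fin n) F) ⟨0, hn⟩ ⟨0, hn⟩) hgp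
          simp only [Units.val_pow_eq_pow_val, hc, _root_.smul_pow, one_pow, Units.val_one] at h1
          simp at h1
          exact sub_eq_zero.1 (eq_zero_of_pow_eq_zero (n := p) (by rw [sub_pow_char, h1, one_pow, sub_self]))
        obtain ⟨a, ha, ha1⟩ := hone
        have h0 : nil g ^ 1 = 0 := by
          rw [pow_one, nil_eq_zero]; exact Units.ext (by rw [hc, hc1, one_smul]; rfl)
        have := (partition_pow_eq_zero hg 1).1 h0 a (hparts.symm ▸ ha)
        have := (hμ a ha).1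
        omega)
    obtain ⟨t, d, v, hch⟩ := exists_chains (nil g) hg
    have hinv : ∀ U : Submodule F (Fin n → F),
        U.map (Matrix.toLin' (g : Matrix (Fin n) (Fin n) F)) ≤ U → U.map (nil g) ≤ U := by
      rintro U hU _ ⟨x, hx, rfl⟩
      rw [nil, map_sub, LinearMap.sub_apply, Matrix.toLin'_one]
      exact sub_mem (hU ⟨x, hx, rfl⟩) hx
    rw [← hparts, partition_eq hg hch]
    exact (exists_pair_iff hg hch m).1 ⟨U, W, hc, hUm, hinv U hU, hinv W hW⟩
  · intro h x ⟨c, hc⟩ _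
    obtain ⟨d, hd⟩ : ∃ d : F, d ^ p = c := surjective_frobenius F p c
    haveI : Nonempty (Fin n) := ⟨⟨0, hn⟩⟩
    have hd0 : d ≠ 0 := by
      rintro rfl
      rw [zero_pow hp.out.ne_zero] at hd
      have hdet := congrArg Matrix.det hc
      rw [(x ^ p).2, ← hd, zero_smul, Matrix.det_zero] at hdet
      exact one_ne_zero hdet
    set N : (Fin n → F) →ₗ[F] (Fin n → F) := Matrix.toLin' (d⁻¹ • (x : Matrix (Fin n) (Fin n) F) - 1) with hN
    have hNp : N ^ p = 0 := by
      rw [hN, ← Matrix.toLin'_pow, LinearEquiv.map_eq_zero_iff]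
      have := sub_one_pow_char p (d⁻¹ • (x : Matrix (Fin n) (Fin n) F)) 1
      rw [pow_one] at this
      rw [this, _root_.smul_pow, inv_pow, hd, ← Matrix.SpecialLinearGroup.coe_pow, hc, smul_smul,
        inv_mul_cancel₀ (by rw [← hd]; exact pow_ne_zero _ hd0), one_smul, sub_self]
    obtain ⟨t, dd, v, hch⟩ := exists_chains N ⟨p, hNp⟩
    obtain ⟨ν, hν⟩ := h (parts dd) (fun a ha => by
      obtain ⟨k, -, rfl⟩ := Multiset.mem_map.1 ha
      exact ⟨hch.pos k, (hch.pow_eq_zero_iff p).1 hNp k⟩) (by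
        rw [parts, Finset.sum_map_val, ← hch.finrank_eq, finrank_fin_fun])
    obtain ⟨U, W, hcpl, hUm, hU, hW⟩ := (exists_pair_iff ⟨p, hNp⟩ hch m).2 ⟨ν, hν⟩
    refine ⟨U, W, hcpl, hUm, ?_, ?_⟩ <;>
    · rintro _ ⟨z, hz, rfl⟩
      have e : Matrix.toLin' (x : Matrix (Fin n) (Fin n) F) z = d • (N z + z) := by
        rw [hN, map_sub, map_smul, LinearMap.sub_apply, Matrix.toLin'_one, LinearMap.id_apply,
          LinearMap.smul_apply, sub_add_cancel, smul_inv_smul₀ hd0]
      rw [e]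
      first
        | exact U.smul_mem _ (add_mem (hU ⟨z, hz, rfl⟩) hz)
        | exact W.smul_mem _ (add_mem (hW ⟨z, hz, rfl⟩) hz)

end Cfsg.Agent.Forms.Elusive
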