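import Mathlib
import Cfsg.Prelude.Def_GeometricClasses
import Cfsg.Agent.Lib.Classical.JordanFormsType
import Cfsg.Agent.Lib.Classical.QuadClass
import Cfsg.Agent.Lib.Forms.Reflections
import Cfsg.Agent.Lib.Forms.Elusive.Unipotent

/-!
# Unipotent elements of prime order in the orthogonal groups of odd characteristic
-/

set_option autoImplicit false
set_option linter.unusedSectionVars false
set_option linter.unusedVariables false

namespace Cfsg.Agent.Forms.Elusive.OrthUnipotent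

open Module Matrix
open Cfsg.Agent.Classical
open Cfsg.Agent.Classical.JordanChains (Idx Chains ChainsOn parts)

variable {F : Type*} [Field F]

/-- chains transported to another space -/
theorem chains_equiv {V V' : Type*} [AddCommGroup V] [Module F V] [FiniteDimensional F V] [AddCommGroup V']
    [Module F V'] [FiniteDimensional F V'] {N : V →ₗ[F] V} {N' : V' →ₗ[F] V'} {t : ℕ} {d : Fin t → ℕ}
    {v : Fin t → V} (h : Chains N d v) (g : V ≃ₗ[F] V') (hg : ∀ x, g (N x) = N' (g x)) :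
    Chains N' d fun k => g (v k) := by
  have hpow : ∀ (j : ℕ) x, g ((N ^ j) x) = (N' ^ j) (g x) := fun j => by
    induction j with
    | zero => simp
    | succ j ih =>
      intro x
      rw [pow_succ', pow_succ', Module.End.mul_apply, Module.End.mul_apply, hg, ih]
  refine ⟨h.pos, fun _ => trivial, fun k => by rw [← hpow, h.kill, map_zero], ?_, ?_⟩
  · simp only [← hpow]
    exact h.li.map' g.toLinearMap g.ker
  · simp only [← hpow]
    rw [show (fun i : Idx d => g ((N ^ (i.2 : ℕ)) (v i.1))) = g ∘ fun i : Idx d => (N ^ (i.2 : ℕ)) (v i.1)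
      from rfl, Set.range_comp, ← LinearEquiv.coe_coe, Submodule.span_image,
      top_le_iff.1 h.span, Submodule.map_top, LinearEquiv.range]

theorem parts_sum {t : ℕ} (d : Fin t → ℕ) : (parts d).sum = ∑ k, d k := by
  rw [parts, Finset.sum_map_val]

/-! ### Forms preserved by a Jordan type -/

/-- an invariant symmetric form, and its twists by a scalar on an odd block -/
theorem exists_gram (h2 : (2 : F) ≠ 0) {t : ℕ} (d : Fin t → ℕ)
    (hev : ∀ e, Even e → Even ((parts d).count e)) :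
    ∃ G : Matrix (Idx d) (Idx d) F, G.det ≠ 0 ∧ Gᵀ = G ∧
      (Cfsg.jordanTypeMatrix d F)ᵀ * G * Cfsg.jordanTypeMatrix d F = G ∧
      ∀ k₀, Odd (d k₀) → ∀ c : F, c ≠ 0 → ∃ G' : Matrix (Idx d) (Idx d) F, G'ᵀ = G' ∧
        (Cfsg.jordanTypeMatrix d F)ᵀ * G' * Cfsg.jordanTypeMatrix d F = G' ∧ G'.det = G.det * c ^ d k₀ := by
  classical
  obtain ⟨π₀, hπ₀, hπ₀d, hfix₀⟩ := JordanFormsExist.exists_involution d
  let g : Fin t → Fin t := fun k => if Odd (d k) then k else π₀ k
  have hg : Function.Involutive g := fun k => by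
    by_cases h : Odd (d k)
    · simp [g, h]
    · simp [g, h, hπ₀d, hπ₀]
  have hgd : ∀ k, d (g k) = d k := fun k => by
    by_cases h : Odd (d k)
    · simp [g, h]
    · simp [g, h, hπ₀d]
  obtain ⟨K, hdet, hinv, hsupp⟩ := JordanFormsExist.exists_formPi d (1 : F) one_ne_zero Odd hg.toPerm
    hg hgd (fun i hi => JordanFormsExist.exists_symmBlock h2 i hi) fun k hk => by
      by_contra hodd
      refine hfix₀ k (by simpa [Function.Involutive.toPerm, g, hodd] using hk) ?_
      rw [← JordanChains.count_parts]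
      exact hev _ (Nat.not_odd_iff_even.1 hodd)
  set G := K + (1 : F) • Kᵀ with hG
  have hsym : Gᵀ = G := by
    rw [hG, one_smul, Matrix.transpose_add, Matrix.transpose_transpose, add_comm]
  refine ⟨G, hdet, hsym, hinv, fun k₀ hk₀ c hc => ?_⟩
  set D : Matrix (Idx d) (Idx d) F := Matrix.diagonal fun a => if a.1 = k₀ then c else 1 with hD
  have hswap : ∀ a b, G a b ≠ 0 → (a.1 = k₀ ↔ b.1 = k₀) := fun a b h => by
    have e := hsupp a b h
    have hk : g k₀ = k₀ := by simp [g, hk₀]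
    rw [e]
    show a.1 = k₀ ↔ g a.1 = k₀
    exact ⟨fun h' => by rw [h', hk], fun h' => hg.injective (h'.trans hk.symm)⟩
  have hGD : G * D = D * G := by
    ext a b
    rw [hD, Matrix.mul_diagonal, Matrix.diagonal_mul]
    by_cases h : G a b = 0
    · simp [h]
    · have := hswap a b h
      by_cases ha : a.1 = k₀
      · rw [if_pos ha, if_pos (this.1 ha), mul_comm]
      · rw [if_neg ha, if_neg (fun hb => ha (this.2 hb)), mul_comm]
  have hJD : Cfsg.jordanTypeMatrix d F * D = D * Cfsg.jordanTypeMatrix d F := by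
    ext a b
    rw [hD, Matrix.mul_diagonal, Matrix.diagonal_mul]
    by_cases h : a.1 = b.1
    · rw [h, mul_comm]
    · obtain ⟨a1, a2⟩ := a
      obtain ⟨b1, b2⟩ := b
      rw [Cfsg.jordanTypeMatrix, Matrix.blockDiagonal'_apply_ne _ _ _ h, zero_mul, mul_zero]
  refine ⟨G * D, ?_, ?_, ?_⟩
  · rw [Matrix.transpose_mul, hsym, show Dᵀ = D from Matrix.diagonal_transpose _, hGD]
  · rw [mul_assoc, mul_assoc G D, ← hJD, ← mul_assoc G, ← mul_assoc, ← mul_assoc, hinv]
  · rw [Matrix.det_mul, hD, Matrix.det_diagonal, Fintype.prod_sigma]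
    congr 1
    rw [Finset.prod_eq_single k₀ (fun k _ hk => by simp [hk]) (by simp)]
    simp

/-- the quadratic form of a symmetric matrix -/
theorem exists_quad_gram (h2 : (2 : F) ≠ 0) {ι : Type*} [Fintype ι] [DecidableEq ι] (G J : Matrix ι ι F)
    (hG : Gᵀ = G) (hJ : Jᵀ * G * J = G) :
    ∃ Q : QuadraticForm F (ι → F), QuadraticMap.polarBilin Q = Matrix.toBilin' G ∧ ∀ x, Q (J *ᵥ x) = Q x := by
  refine ⟨LinearMap.BilinMap.toQuadraticMap (Matrix.toBilin' ((2 : F)⁻¹ • G)), ?_, fun x => ?_⟩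
  · refine LinearMap.ext₂ fun x y => ?_
    rw [LinearMap.BilinMap.polarBilin_toQuadraticMap, LinearMap.add_apply, LinearMap.add_apply,
      LinearMap.flip_apply, map_smul, LinearMap.smul_apply, LinearMap.smul_apply, LinearMap.smul_apply,
      LinearMap.smul_apply, smul_eq_mul, smul_eq_mul]
    have hs : Matrix.toBilin' G y x = Matrix.toBilin' G x y := by
      rw [Matrix.toBilin'_apply', Matrix.toBilin'_apply', dotProduct_comm, ← Matrix.vecMul_transpose,
        ← dotProduct_mulVec, hG]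
    rw [hs]
    linear_combination (Matrix.toBilin' G x y) * mul_inv_cancel₀ h2
  · rw [LinearMap.BilinMap.toQuadraticMap_apply, LinearMap.BilinMap.toQuadraticMap_apply, map_smul,
      LinearMap.smul_apply, LinearMap.smul_apply, ← JordanFormsType.toBilin_congr, hJ]
    rfl

/-- isometric forms have discriminants in the same class -/
theorem isSquare_det {ι : Type*} [Fintype ι] [DecidableEq ι] {G₁ G₂ : Matrix ι ι F} (hG₂ : G₂.det ≠ 0)
    {Q₁ Q₂ : QuadraticForm F (ι → F)} (h₁ : QuadraticMap.polarBilin Q₁ = Matrix.toBilin' G₁)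
    (h₂ : QuadraticMap.polarBilin Q₂ = Matrix.toBilin' G₂) (e : (ι → F) ≃ₗ[F] (ι → F))
    (he : ∀ x, Q₂ (e x) = Q₁ x) : IsSquare (G₁.det / G₂.det) := by
  set C := LinearMap.toMatrix' e.toLinearMap with hC
  have hCe : ∀ x, C *ᵥ x = e x := fun x => by
    rw [hC, ← Matrix.toLin'_apply, Matrix.toLin'_toMatrix']; rfl
  have h : G₁ = Cᵀ * G₂ * C := Matrix.toBilin'.injective (LinearMap.ext₂ fun x y => by
    rw [JordanFormsType.toBilin_congr, hCe, hCe, ← h₁, ← h₂, QuadraticMap.polarBilin_apply_apply,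
      QuadraticMap.polarBilin_apply_apply, QuadraticMap.polar, QuadraticMap.polar, ← map_add, he, he, he])
  exact ⟨C.det, by rw [h, Matrix.det_mul, Matrix.det_mul, Matrix.det_transpose]; field_simp⟩

variable [Fintype F]

/-- there are only two classes of forms in an even dimension -/
theorem two_classes {ι κ μ : Type} [Fintype ι] [Fintype κ] [Fintype μ] {m : ℕ} (hι : Fintype.card ι = 2 * m)
    (hκ : Fintype.card κ = 2 * m) (hμ : Fintype.card μ = 2 * m) (P : QuadraticForm F (ι → F))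
    (R : QuadraticForm F (κ → F)) (T : QuadraticForm F (μ → F))
    (hP : (QuadraticMap.polarBilin P).Nondegenerate) (hR : (QuadraticMap.polarBilin R).Nondegenerate)
    (hT : (QuadraticMap.polarBilin T).Nondegenerate) :
    (∃ e : (ι → F) ≃ₗ[F] (μ → F), ∀ x, T (e x) = P x) ∨ (∃ e : (κ → F) ≃ₗ[F] (μ → F), ∀ x, T (e x) = R x) ∨
      ∃ e : (ι → F) ≃ₗ[F] (κ → F), ∀ x, R (e x) = P x := by
  have key : ∀ {α β : Type} [Fintype α] [Fintype β], Fintype.card α = 2 * m → Fintype.card β = 2 * m →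
      ∀ (A : QuadraticForm F (α → F)) (B : QuadraticForm F (β → F)),
      (QuadraticMap.polarBilin A).Nondegenerate → (QuadraticMap.polarBilin B).Nondegenerate →
      ((∃ e : (α → F) ≃ₗ[F] (Fin m ⊕ Fin m → F), ∀ x, PlusStd.plusQ F m (e x) = A x) ↔
        ∃ e : (β → F) ≃ₗ[F] (Fin m ⊕ Fin m → F), ∀ x, PlusStd.plusQ F m (e x) = B x) →
      ∃ e : (α → F) ≃ₗ[F] (β → F), ∀ x, B (e x) = A x := by
    intro α β _ _ hα hβ A B hA hB hiff
    by_cases h : ∃ e : (α → F) ≃ₗ[F] (Fin m ⊕ Fin m → F), ∀ x, PlusStd.plusQ F m (e x) = A x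
    · obtain ⟨e', he'⟩ := hiff.1 h
      obtain ⟨e, he⟩ := h
      exact ⟨e.trans e'.symm, fun x => by rw [← he', LinearEquiv.trans_apply, e'.apply_symm_apply, he]⟩
    · obtain ⟨hm, ζ, e, hζ, he⟩ :=
        (QuadClass.classify_even m (V := α → F) (by simpa using hα) A hA).resolve_left h
      obtain ⟨hm', ζ', e', hζ', he'⟩ :=
        (QuadClass.classify_even m (V := β → F) (by simpa using hβ) B hB).resolve_left (mt hiff.2 h)
      obtain ⟨c, hc⟩ := QuadClass.minQ_isometric (m - 1) hζ' hζ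
      exact ⟨e.trans (c.trans e'.symm), fun x => by
        rw [← he', LinearEquiv.trans_apply, LinearEquiv.trans_apply, e'.apply_symm_apply, hc, he]⟩
  by_cases a : ∃ e : (ι → F) ≃ₗ[F] (Fin m ⊕ Fin m → F), ∀ x, PlusStd.plusQ F m (e x) = P x <;>
    by_cases b : ∃ e : (κ → F) ≃ₗ[F] (Fin m ⊕ Fin m → F), ∀ x, PlusStd.plusQ F m (e x) = R x
  · exact Or.inr (Or.inr (key hι hκ P R hP hR (iff_of_true a b)))
  · by_cases c : ∃ e : (μ → F) ≃ₗ[F] (Fin m ⊕ Fin m → F), ∀ x, PlusStd.plusQ F m (e x) = T x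
    · exact Or.inl (key hι hμ P T hP hT (iff_of_true a c))
    · exact Or.inr (Or.inl (key hκ hμ R T hR hT (iff_of_false b c)))
  · by_cases c : ∃ e : (μ → F) ≃ₗ[F] (Fin m ⊕ Fin m → F), ∀ x, PlusStd.plusQ F m (e x) = T x
    · exact Or.inr (Or.inl (key hκ hμ R T hR hT (iff_of_true b c)))
    · exact Or.inl (key hι hμ P T hP hT (iff_of_false a c))
  · exact Or.inr (Or.inr (key hι hκ P R hP hR (iff_of_false a b)))

/-- forms of equal odd dimension are similar -/
theorem odd_similar {ι κ : Type} [Fintype ι] [Fintype κ] {m : ℕ} (hι : Fintype.card ι = 2 * m + 1)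
    (hκ : Fintype.card κ = 2 * m + 1) (P : QuadraticForm F (ι → F)) (R : QuadraticForm F (κ → F))
    (hP : (QuadraticMap.polarBilin P).Nondegenerate) (hR : (QuadraticMap.polarBilin R).Nondegenerate) :
    ∃ c : F, c ≠ 0 ∧ ∃ e : (ι → F) ≃ₗ[F] (κ → F), ∀ x, R (e x) = c * P x := by
  obtain ⟨a, ha, e, he⟩ := QuadClass.classify_odd m (V := ι → F) (by simpa using hι) P hP
  obtain ⟨b, hb, e', he'⟩ := QuadClass.classify_odd m (V := κ → F) (by simpa using hκ) R hR
  let s : Unit ⊕ (Fin m ⊕ Fin m) → F := Sum.elim (fun _ => 1) (Sum.elim (fun _ => b / a) fun _ => 1)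
  have hs : ∀ i, s i ≠ 0 := by
    rintro (i | i | i) <;> simp [s, ha, hb]
  let D : (Unit ⊕ (Fin m ⊕ Fin m) → F) ≃ₗ[F] (Unit ⊕ (Fin m ⊕ Fin m) → F) :=
    LinearEquiv.piCongrRight fun i => LinearEquiv.smulOfNeZero F F (s i) (hs i)
  refine ⟨b / a, div_ne_zero hb ha, e.trans (D.trans e'.symm), fun x => ?_⟩
  rw [← he', LinearEquiv.trans_apply, LinearEquiv.trans_apply, e'.apply_symm_apply, ← he]
  have hD : ∀ z i, D z i = s i * z i := fun z i => rfl
  have hplus : PlusStd.plusQ F m (D (e x) ∘ Sum.inr) = b / a * PlusStd.plusQ F m (e x ∘ Sum.inr) := by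
    rw [PlusStd.plusQ_apply, PlusStd.plusQ_apply, Cfsg.quadFormPlus, Cfsg.quadFormPlus, Finset.mul_sum]
    refine Finset.sum_congr rfl fun i _ => ?_
    simp [hD, s]
    ring
  rw [hplus, hD, mul_add]
  congr 1
  simp only [s, Sum.elim_inl, one_mul]
  field_simp

variable {ι : Type} [Fintype ι] [DecidableEq ι]

/-- elements of odd order lie in the commutator subgroup -/
theorem mem_omega (Q : QuadraticForm F (ι → F)) (hQ : (QuadraticMap.polarBilin Q).Nondegenerate)
    (hF : Fintype.card F ≠ 2) {g : Cfsg.isometryGroup F ⇑Q} {r : ℕ} (hr : Odd r) (hg : g ^ r = 1) :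
    g ∈ Cfsg.Omega F ⇑Q := by
  have key : ∀ h : Cfsg.isometryGroup F ⇑Q, Abelianization.of h * Abelianization.of h = 1 := by
    intro h
    have hh : h ∈ Reflections.refGroup Q := by rw [Reflections.refGroup_eq_top hQ (Or.inl hF)]; trivial
    induction hh using Subgroup.closure_induction with
    | mem x hx =>
      obtain ⟨v, hv, rfl⟩ := hx
      rw [← map_mul, Reflections.reflect_sq, map_one]
    | one => rw [map_one, mul_one]
    | mul x y _ _ hx hy => rw [map_mul, mul_mul_mul_comm, hx, hy, mul_one]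
    | inv x _ hx => rw [map_inv, ← mul_inv, hx, inv_one]
  obtain ⟨k, rfl⟩ := hr
  show g ∈ commutator (Cfsg.isometryGroup F ⇑Q)
  rw [← Abelianization.ker_of, MonoidHom.mem_ker]
  have h1 := congrArg Abelianization.of hg
  rwa [map_pow, map_one, pow_succ, pow_mul, sq, key, one_pow, one_mul] at h1

/-- `Q` has an element of Ω of exponent `p` with Jordan type `μ` -/
def Realized (p : ℕ) (Q : QuadraticForm F (ι → F)) (μ : Multiset ℕ) : Prop :=
  ∃ x : GL ι F, x ∈ Cfsg.Geo.omegaGL ⇑Q ∧ x ^ p = 1 ∧ ∃ (t : ℕ) (d : Fin t → ℕ) (v : Fin t → ι → F),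
    parts d = μ ∧ Chains (Matrix.toLin' (x : Matrix ι ι F) - 1) d v

theorem realize_of (p : ℕ) [hp : Fact p.Prime] [CharP F p] (hp2 : p ≠ 2) (T : QuadraticForm F (ι → F))
    (hT : (QuadraticMap.polarBilin T).Nondegenerate) {t : ℕ} (d : Fin t → ℕ) (hd : ∀ k, 1 ≤ d k)
    (hdp : ∀ k, d k ≤ p) (Q : QuadraticForm F (Idx d → F))
    (hQ : ∀ x, Q (Cfsg.jordanTypeMatrix d F *ᵥ x) = Q x)
    (e : (Idx d → F) ≃ₗ[F] (ι → F)) (he : ∀ x, T (e x) = Q x) : Realized p T (parts d) := by
  classical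
  set J := Cfsg.jordanTypeMatrix d F with hJ
  set N := Matrix.toLin' (J - 1) with hN
  have hch := JordanFormsExist.jordan_shift (F := F) hd
  rw [← hJ, ← hN] at hch
  have hNp : N ^ p = 0 := (hch.pow_eq_zero_iff p).2 hdp
  haveI : CharP (Matrix (Idx d) (Idx d) F) p ∨ IsEmpty (Idx d) := by
    rcases isEmpty_or_nonempty (Idx d) with h | h
    · exact Or.inr h
    · exact Or.inl inferInstance
  have hJp : J ^ p = 1 := by
    have h1 : (J - 1) ^ p = 0 := Matrix.toLin'.injective (by rw [Matrix.toLin'_pow, ← hN, hNp, map_zero])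
    rcases this with h | h
    · rw [sub_pow_char_of_commute p (Commute.one_right J), one_pow, sub_eq_zero] at h1
      exact h1
    · exact Subsingleton.elim _ _
  have hJinj : Function.Injective (Matrix.toLin' J) := fun u w huw => by
    have := congrArg (fun z => (J ^ (p - 1)) *ᵥ z) huw
    simp only [Matrix.toLin'_apply, Matrix.mulVec_mulVec, ← pow_succ,
      Nat.sub_add_cancel hp.out.one_lt.le, hJp, Matrix.one_mulVec] at this
    exact this
  let Je := LinearEquiv.ofBijective (Matrix.toLin' J) ⟨hJinj, LinearMap.injective_iff_surjective.1 hJinj⟩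
  let f : (ι → F) ≃ₗ[F] (ι → F) := e.symm.trans (Je.trans e)
  have hf : ∀ u, T (f u) = T u := fun u => by
    show T (e (Matrix.toLin' J (e.symm u))) = T u
    rw [he, Matrix.toLin'_apply, hQ, ← he, e.apply_symm_apply]
  let g := QuadStd.isoOfEquiv ⇑T f hf
  have hgv : ∀ u, ((g : GL ι F) : Matrix ι ι F) *ᵥ u = e (J *ᵥ e.symm u) := fun u =>
    (QuadStd.isoOfEquiv_mulVec ⇑T f hf u).trans (congrArg e (Matrix.toLin'_apply J (e.symm u)))
  have hpow : ∀ (j : ℕ) u, ((g : GL ι F) : Matrix ι ι F) ^ j *ᵥ u = e (J ^ j *ᵥ e.symm u) := fun j => by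
    induction j with
    | zero => simp
    | succ j ih =>
      intro u
      rw [pow_succ', ← Matrix.mulVec_mulVec, ih, hgv, e.symm_apply_apply, Matrix.mulVec_mulVec, ← pow_succ']
  have hgp : g ^ p = 1 := Subtype.ext (Units.ext (Matrix.ext_iff_mulVec.2 fun u => by
    rw [SubmonoidClass.coe_pow, Units.val_pow_eq_pow_val, hpow, hJp, Matrix.one_mulVec, e.apply_symm_apply,
      OneMemClass.coe_one, Units.val_one, Matrix.one_mulVec]))
  have hF : Fintype.card F ≠ 2 := fun h => by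
    have hcp : CharP F p := inferInstance
    exact hp2 (CharP.eq F hcp (charP_of_card_eq_prime (R := F) h))
  refine ⟨g, ⟨g, mem_omega T hT hF (hp.out.odd_of_ne_two hp2) hgp, rfl⟩,
    by rw [← SubmonoidClass.coe_pow, hgp, OneMemClass.coe_one], t, d, _, rfl,
    chains_equiv hch e fun z => ?_⟩
  rw [hN, LinearMap.sub_apply, Matrix.toLin'_apply, Matrix.toLin'_apply, hgv, e.symm_apply_apply,
    Matrix.sub_mulVec, Matrix.one_mulVec, map_sub]
  rfl

/-- Jordan types occurring in Ω in odd characteristic -/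
theorem exists_element (p : ℕ) [hp : Fact p.Prime] [CharP F p] (hp2 : p ≠ 2) (T : QuadraticForm F (ι → F))
    (hT : (QuadraticMap.polarBilin T).Nondegenerate) (μ : Multiset ℕ) (hμ : ∀ e ∈ μ, 0 < e ∧ e ≤ p)
    (hev : ∀ e, Even e → Even (μ.count e)) (hsum : μ.sum = Fintype.card ι)
    (hodd : ∃ e ∈ μ, Odd e) : Realized p T μ := by
  classical
  have h2 : (2 : F) ≠ 0 := Ring.two_ne_zero (by rw [ringChar.eq F p]; exact hp2)
  let d : Fin μ.toList.length → ℕ := μ.toList.get
  have hd : parts d = μ := by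
    rw [parts, Fin.univ_val_map, List.ofFn_get, Multiset.coe_toList]
  have hmem : ∀ k, d k ∈ μ := fun k => hd ▸ Multiset.mem_map_of_mem d (Finset.mem_univ k)
  have hd1 : ∀ k, 1 ≤ d k := fun k => (hμ _ (hmem k)).1
  have hdp : ∀ k, d k ≤ p := fun k => (hμ _ (hmem k)).2
  have hcard : Fintype.card (Idx d) = Fintype.card ι := by
    have hs := congrArg Multiset.sum hd
    rw [parts_sum, hsum] at hs
    rw [← hs, Fintype.card_sigma]; simp
  rw [← hd]
  obtain ⟨G, hG, hGs, hGi, htw⟩ := exists_gram h2 d (hd.symm ▸ hev)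
  obtain ⟨Q₁, hQ₁, hQ₁J⟩ := exists_quad_gram h2 G _ hGs hGi
  have hnd₁ : (QuadraticMap.polarBilin Q₁).Nondegenerate := by
    rw [hQ₁]; exact LinearMap.BilinForm.nondegenerate_toBilin'_iff_det_ne_zero.2 hG
  rcases Nat.even_or_odd (Fintype.card ι) with ⟨m, hm⟩ | ⟨m, hm⟩
  · obtain ⟨e₀, he₀, hoe⟩ := hodd
    obtain ⟨k₀, rfl⟩ : ∃ k, d k = e₀ := by
      rw [← hd] at he₀
      obtain ⟨k, -, hk⟩ := Multiset.mem_map.1 he₀
      exact ⟨k, hk⟩
    obtain ⟨c, hc⟩ := FiniteField.exists_nonsquare (by rw [ringChar.eq F p]; exact hp2 : ringChar F ≠ 2)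
    have hc0 : c ≠ 0 := fun h => hc (h ▸ ⟨0, by simp⟩)
    obtain ⟨G', hG's, hG'i, hdet⟩ := htw k₀ hoe c hc0
    have hG' : G'.det ≠ 0 := by rw [hdet]; exact mul_ne_zero hG (pow_ne_zero _ hc0)
    obtain ⟨Q₂, hQ₂, hQ₂J⟩ := exists_quad_gram h2 G' _ hG's hG'i
    have hnd₂ : (QuadraticMap.polarBilin Q₂).Nondegenerate := by
      rw [hQ₂]; exact LinearMap.BilinForm.nondegenerate_toBilin'_iff_det_ne_zero.2 hG'
    rcases two_classes (m := m) (by omega) (by omega) (by omega) Q₁ Q₂ T hnd₁ hnd₂ hT with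
      ⟨e, he⟩ | ⟨e, he⟩ | ⟨e, he⟩
    · exact realize_of p hp2 T hT d hd1 hdp Q₁ hQ₁J e he
    · exact realize_of p hp2 T hT d hd1 hdp Q₂ hQ₂J e he
    · exfalso
      have h := isSquare_det hG' hQ₁ hQ₂ e he
      rw [hdet] at h
      obtain ⟨k, hk⟩ := hoe
      rw [hk] at h
      have h' : IsSquare (c ^ (2 * k + 1)) := by
        rw [div_mul_cancel_left₀ hG] at h
        obtain ⟨s, hs⟩ := h
        exact ⟨s⁻¹, by rw [← mul_inv, ← hs, inv_inv]⟩
      refine hc ?_
      obtain ⟨s, hs⟩ := h'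
      refine ⟨s / c ^ k, ?_⟩
      field_simp
      linear_combination hs
  · obtain ⟨c, hc, e, he⟩ := odd_similar (m := m) (by omega) (by omega) Q₁ T hnd₁ hT
    refine realize_of p hp2 T hT d hd1 hdp (c • Q₁) (fun x => ?_) e fun x => ?_
    · show c * Q₁ _ = c * Q₁ x
      rw [hQ₁J]
    · exact he x

/-- an invariant non-degenerate subspace splits the Jordan type -/
theorem sub_parts (h2 : (2 : F) ≠ 0) (Q : QuadraticForm F (ι → F)) (hQ : (QuadraticMap.polarBilin Q).Nondegenerate)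
    {x : GL ι F} (hx : ∀ u, Q ((x : Matrix ι ι F) *ᵥ u) = Q u) {t : ℕ} {d : Fin t → ℕ} {v : Fin t → ι → F}
    (h : Chains (Matrix.toLin' (x : Matrix ι ι F) - 1) d v) {W : Submodule F (ι → F)}
    (hW : Cfsg.Geo.IsNondegenerateOn (QuadraticMap.polar ⇑Q) W)
    (hinv : W.map (Matrix.toLin' (x : Matrix ι ι F)) ≤ W) :
    ∃ ν : Multiset ℕ, ν ≤ parts d ∧ ν.sum = finrank F W ∧ (∀ e, Even e → Even (ν.count e)) ∧
      ((∀ e ∈ ν, e = 2) → Cfsg.Geo.IsPlusTypeOn ⇑Q W) := by
  classical
  set f := Matrix.toLin' (x : Matrix ι ι F) with hf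
  set N := f - 1 with hN
  set B := Reflections.polB Q with hB
  have hfQ : ∀ u, Q (f u) = Q u := fun u => by rw [hf, Matrix.toLin'_apply, hx]
  have hBf : ∀ u w, B (f u) (f w) = B u w := fun u w => by
    simp only [hB, Reflections.polB_apply, QuadraticMap.polar, ← map_add, hfQ]
  have hinj : Function.Injective f := fun u w e => by
    have := congrArg (fun z => (↑x⁻¹ : Matrix ι ι F) *ᵥ z) e
    simpa [hf, Matrix.mulVec_mulVec] using this
  set P := B.orthogonal W with hP
  have hWeq : W.map f = W := Submodule.eq_of_le_of_finrank_eq hinv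
    (Submodule.equivMapOfInjective f hinj W).finrank_eq.symm
  have hPinv : P.map f ≤ P := by
    rintro _ ⟨y, hy, rfl⟩ w hw
    rw [← hWeq] at hw
    obtain ⟨w', hw', rfl⟩ := hw
    show B (f w') (f y) = 0
    rw [hBf]
    exact hy w' hw'
  have hdisj : Disjoint W P := by
    rw [Submodule.disjoint_def]
    intro w hw hwP
    by_contra h0
    obtain ⟨⟨y, hy, hne⟩, -⟩ := hW w hw h0
    exact hne (hwP y hy)
  have hc : IsCompl W P := ⟨hdisj, codisjoint_iff.2 (Submodule.eq_top_of_finrank_eq (by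
    have h1 := Submodule.finrank_sup_add_finrank_inf_eq W P
    rw [hdisj.eq_bot, finrank_bot, add_zero] at h1
    have h3 := Submodule.finrank_le W
    rw [Module.finrank_pi] at h3
    rw [h1, hP, hB, Reflections.finrank_orth hQ, Module.finrank_pi]
    omega))⟩
  have hNW : W.map N ≤ W := by
    rintro _ ⟨w, hw, rfl⟩; exact W.sub_mem (hinv ⟨w, hw, rfl⟩) hw
  have hNP : P.map N ≤ P := by
    rintro _ ⟨w, hw, rfl⟩; exact P.sub_mem (hPinv ⟨w, hw, rfl⟩) hw
  have hNnil : IsNilpotent N := by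
    obtain ⟨b, hb⟩ : ∃ b, ∀ k, d k ≤ b := ⟨∑ k, d k, fun k => Finset.single_le_sum (fun j _ => Nat.zero_le _) (Finset.mem_univ k)⟩
    exact ⟨b, (h.pow_eq_zero_iff b).2 hb⟩
  set NW := N.restrict (fun w (hw : w ∈ W) => hNW ⟨w, hw, rfl⟩) with hNW'
  have hpow : ∀ (j : ℕ) (w : W), (((NW ^ j) w : W) : ι → F) = (N ^ j) (w : ι → F) := fun j => by
    induction j with
    | zero => simp
    | succ j ih => intro w; rw [pow_succ', pow_succ', Module.End.mul_apply, Module.End.mul_apply, ← ih]; rfl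
  have hNWnil : IsNilpotent NW := by
    obtain ⟨b, hb⟩ := hNnil
    exact ⟨b, LinearMap.ext fun w => Subtype.ext (by rw [hpow, hb]; rfl)⟩
  obtain ⟨a, d₁, v₁, h₁⟩ := JordanChains.exists_chains NW hNWnil
  have h₁' : ChainsOn N W d₁ fun k => (v₁ k : ι → F) := by
    refine ⟨h₁.pos, fun k => (v₁ k).2, fun k => by rw [← hpow, h₁.kill]; rfl, ?_, ?_⟩
    · simp only [← hpow]
      exact h₁.li.map' W.subtype W.ker_subtype
    · simp only [← hpow]
      intro w hw
      have := Submodule.mem_map_of_mem (f := W.subtype) (h₁.span (Submodule.mem_top : (⟨w, hw⟩ : W) ∈ ⊤))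
      rw [Submodule.map_span, ← Set.range_comp] at this
      exact this
  obtain ⟨b, d₂, v₂, h₂⟩ := JordanChains.exists_chainsOn N hNnil P fun y hy => hNP ⟨y, hy, rfl⟩
  set C : W →ₗ[F] W →ₗ[F] F := LinearMap.compl₁₂ B W.subtype W.subtype with hC
  have hCinv : JordanForms.Inv (σ := RingHom.id F) C NW := fun u w => by
    show B ((u + NW u : W) : ι → F) ((w + NW w : W) : ι → F) = B u w
    rw [← hBf (u : ι → F) (w : ι → F)]
    congr 2 <;> simp [NW, N]
  have hCnd : ∀ u : W, (∀ w, C u w = 0) → u = 0 := fun u hu => by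
    by_contra h0
    obtain ⟨-, y, hy, hne⟩ := hW u u.2 fun e => h0 (Subtype.ext e)
    exact hne (hu ⟨y, hy⟩)
  refine ⟨parts d₁, parts_le_of_compl h hc hNW hNP h₁' h₂, ?_, fun e he => ?_, fun hall => ?_⟩
  · rw [parts_sum, ← JordanChains.Chains.finrank_eq h₁]
  · rcases Nat.eq_zero_or_pos e with rfl | he0
    · rw [Multiset.count_eq_zero.2]
      · exact (Even.zero : Even (0 : ℕ))
      · intro hmem
        obtain ⟨k, -, hk⟩ := Multiset.mem_map.1 hmem
        have := h₁.pos k
        omega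
    · rw [JordanChains.count_parts]
      exact JordanForms.even_count_of_symm h₁ hCinv hCnd
        (fun u w => by simp [C, hB, Reflections.polB_apply, QuadraticMap.polar_comm]) h2 he he0
  · have hd2 : ∀ k, d₁ k = 2 := fun k => hall _ (Multiset.mem_map_of_mem d₁ (Finset.mem_univ k))
    refine ⟨(LinearMap.range NW).map W.subtype, Submodule.map_subtype_le _ _, ?_, ?_⟩
    · rintro _ ⟨_, ⟨z, rfl⟩, rfl⟩
      show Q ((NW z : W) : ι → F) = 0
      have hzz : NW (NW z) = 0 := by
        have h0 := (JordanChains.Chains.pow_eq_zero_iff h₁ 2).2 fun k => (hd2 k).le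
        rw [← Module.End.mul_apply, ← sq, h0]; rfl
      have hs := hCinv z (NW z)
      rw [hzz, add_zero, map_add, LinearMap.add_apply, add_eq_left] at hs
      have hs' : QuadraticMap.polar ⇑Q ((NW z : W) : ι → F) ((NW z : W) : ι → F) = 0 := hs
      rw [QuadraticMap.polar_self, nsmul_eq_mul, Nat.cast_ofNat] at hs'
      exact (mul_eq_zero.1 hs').resolve_left h2
    · rw [Submodule.finrank_map_subtype_eq, JordanChains.Chains.finrank_eq h₁]
      have hr := JordanChains.Chains.finrank_range_pow h₁ 1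
      rw [pow_one] at hr
      rw [hr, Finset.mul_sum]
      exact Finset.sum_congr rfl fun k _ => by norm_num [hd2]

/-- every Jordan type of Ω has a part of size `m` when every element of order `p` fixes a suitable subspace -/
theorem split_of_fixes (p : ℕ) [hp : Fact p.Prime] [CharP F p] (hp2 : p ≠ 2) (Q : QuadraticForm F (ι → F))
    (hQ : (QuadraticMap.polarBilin Q).Nondegenerate) (P : Submodule F (ι → F) → Prop) {m : ℕ}
    (hP : ∀ W, P W → finrank F W = m ∧ Cfsg.Geo.IsNondegenerateOn (QuadraticMap.polar ⇑Q) W)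
    (H : ∀ x : GL ι F, x ∈ Cfsg.Geo.omegaGL ⇑Q → x ^ p = 1 → x ≠ 1 →
      ∃ W, P W ∧ W.map (Matrix.toLin' (x : Matrix ι ι F)) ≤ W)
    (μ : Multiset ℕ) (hR : Realized p Q μ) (h1 : ∃ e ∈ μ, e ≠ 1) :
    ∃ ν : Multiset ℕ, ν ≤ μ ∧ ν.sum = m ∧ (∀ e, Even e → Even (ν.count e)) ∧
      ((∀ e ∈ ν, e = 2) → ∃ W, P W ∧ Cfsg.Geo.IsPlusTypeOn ⇑Q W) := by
  obtain ⟨x, hx, hxp, t, d, v, rfl, hch⟩ := hR
  have hne : x ≠ 1 := fun e => by
    subst e
    have h0 : (Matrix.toLin' ((1 : GL ι F) : Matrix ι ι F) - 1) ^ 1 = 0 := by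
      rw [pow_one, Units.val_one, Matrix.toLin'_one, sub_eq_zero]; rfl
    obtain ⟨e, he, he1⟩ := h1
    obtain ⟨k, -, rfl⟩ := Multiset.mem_map.1 he
    have h2 := (hch.pow_eq_zero_iff 1).1 h0 k
    have h3 := hch.pos k
    omega
  obtain ⟨W, hW, hinv⟩ := H x hx hxp hne
  have hxQ : ∀ u, Q ((x : Matrix ι ι F) *ᵥ u) = Q u := by
    obtain ⟨g, -, rfl⟩ := hx
    exact fun u => g.2 u u
  obtain ⟨ν, hν, hsum, hev, hplus⟩ := sub_parts (Ring.two_ne_zero (by rw [ringChar.eq F p]; exact hp2)) Q hQ hxQ hch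
    (hP W hW).2 hinv
  exact ⟨ν, hν, hsum.trans (hP W hW).1, hev, fun h => ⟨W, hW, hplus h⟩⟩

/-- it is enough to treat the partitions with an odd part -/
theorem odd_reduce {p m n : ℕ} (hp : Odd p) (hm : Even m) (hmn : m ≤ n) (hn : 0 < n)
    (h : ∀ μ : Multiset ℕ, (∀ e ∈ μ, 0 < e ∧ e ≤ p) → (∀ e : ℕ, Even e → Even (μ.count e)) → μ.sum = n →
      (∃ e ∈ μ, Odd e) → (∃ e ∈ μ, e ≠ 1) →
      ∃ ν : Multiset ℕ, ν ≤ μ ∧ ν.sum = m ∧ ∀ e, Even e → Even (ν.count e)) :
    ∀ μ : Multiset ℕ, (∀ e ∈ μ, 0 < e ∧ e ≤ p) → (∀ e : ℕ, Even e → Even (μ.count e)) → μ.sum = n →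
      ∃ ν : Multiset ℕ, ν ≤ μ ∧ ν.sum = m ∧ ∀ e, Even e → Even (ν.count e) := by
  intro μ hμ hev hsum
  by_cases hone : ∀ e ∈ μ, e = 1
  · have e := Multiset.eq_replicate_card.2 hone
    refine ⟨Multiset.replicate m 1, ?_, by simp, fun a ha => ?_⟩
    · rw [e]
      refine (Multiset.replicate_le_replicate _).2 ?_
      rw [e] at hsum
      simp at hsum
      omega
    · rw [Multiset.count_replicate, if_neg]
      · exact (Even.zero : Even (0 : ℕ))
      · rintro rfl; exact Nat.not_even_one ha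
  push Not at hone
  by_cases hodd : ∃ e ∈ μ, Odd e
  · exact h μ hμ hev hsum hodd hone
  push Not at hodd
  obtain ⟨a, ha, -⟩ := hone
  obtain ⟨k, rfl⟩ : Even a := Nat.not_odd_iff_even.1 (hodd a ha)
  obtain ⟨hk0, hkp⟩ := hμ _ ha
  have h2 : 2 ≤ μ.count (k + k) := by
    obtain ⟨j, hj⟩ := hev (k + k) ⟨k, rfl⟩
    have := Multiset.count_pos.2 ha
    omega
  set pr : Multiset ℕ := {k + k, k + k} with hpr
  have hle : pr ≤ μ := by
    rw [hpr, show ({k + k, k + k} : Multiset ℕ) = Multiset.replicate 2 (k + k) from rfl]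
    exact Multiset.le_count_iff_replicate_le.1 h2
  obtain ⟨rest, rfl⟩ := Multiset.le_iff_exists_add.1 hle
  have hrest : ∀ e ∈ rest, Even e := fun e he =>
    Nat.not_odd_iff_even.1 (hodd e (Multiset.mem_add.2 (Or.inr he)))
  set po : Multiset ℕ := {2 * k - 1, 2 * k + 1} with hpo
  have hpo_odd : ∀ e ∈ po, Odd e := by
    intro e he
    simp only [hpo, Multiset.insert_eq_cons, Multiset.mem_cons, Multiset.mem_singleton] at he
    rcases he with rfl | rfl <;> rw [Nat.odd_iff] <;> omega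
  have hcpo : ∀ e, Even e → po.count e = 0 := fun e he => Multiset.count_eq_zero.2 fun h' =>
    Nat.not_even_iff_odd.2 (hpo_odd e h') he
  have hcpr : ∀ e, Even (pr.count e) := fun e => by
    rw [hpr, show ({k + k, k + k} : Multiset ℕ) = Multiset.replicate 2 (k + k) from rfl, Multiset.count_replicate]
    split_ifs <;> simp
  have hp' := Nat.odd_iff.1 hp
  obtain ⟨ν, hν, hνs, hνev⟩ := h (po + rest) (fun e he => by
      rcases Multiset.mem_add.1 he with he | he
      · simp only [hpo, Multiset.insert_eq_cons, Multiset.mem_cons, Multiset.mem_singleton] at he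
        omega
      · exact hμ e (Multiset.mem_add.2 (Or.inr he)))
    (fun e he => by
      have := hev e he
      rw [Multiset.count_add, Nat.even_add] at this
      rw [Multiset.count_add, hcpo e he, zero_add]
      exact this.1 (hcpr e))
    (by rw [← hsum]; simp [hpo, hpr]; omega)
    ⟨2 * k + 1, by simp [hpo], ⟨k, rfl⟩⟩ ⟨2 * k + 1, by simp [hpo], by omega⟩
  set νr := ν.filter (fun e => Even e) with hνr
  set νo := ν.filter (fun e => ¬ Even e) with hνo
  have hsplit : νr + νo = ν := Multiset.filter_add_not _ ν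
  have hr_le : νr ≤ rest := by
    have := Multiset.filter_le_filter (fun e => Even e) hν
    rwa [Multiset.filter_add, Multiset.filter_eq_nil.2 (fun e he => Nat.not_even_iff_odd.2 (hpo_odd e he)),
      Multiset.filter_eq_self.2 hrest, zero_add] at this
  have ho_le : νo ≤ po := by
    have := Multiset.filter_le_filter (fun e => ¬ Even e) hν
    rwa [Multiset.filter_add, Multiset.filter_eq_self.2 (fun e he => Nat.not_even_iff_odd.2 (hpo_odd e he)),
      Multiset.filter_eq_nil.2 (fun e he => not_not_intro (hrest e he)), add_zero] at this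
  have hre : ∀ e, Even e → Even (νr.count e) := fun e he => by
    rw [hνr, Multiset.count_filter_of_pos he]; exact hνev e he
  have hrs : Even νr.sum := by
    rw [hνr]
    exact Multiset.sum_induction Even _ (fun _ _ ha hb => ha.add hb) (Even.zero : Even (0 : ℕ)) fun e he => (Multiset.mem_filter.1 he).2
  have hos : νr.sum + νo.sum = m := by rw [← Multiset.sum_add, hsplit, hνs]
  have hval : νo.sum = 0 ∨ νo.sum = (k + k) + (k + k) := by
    have hev' : Even νo.sum := by
      rw [← hos, Nat.even_add] at hm; exact hm.1 hrs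
    have hcard : νo.card ≤ 2 := le_of_le_of_eq (Multiset.card_le_card ho_le) (by simp [hpo])
    interval_cases hc : νo.card
    · rw [Multiset.card_eq_zero.1 hc]; exact Or.inl rfl
    · obtain ⟨e, he⟩ := Multiset.card_eq_one.1 hc
      rw [he, Multiset.sum_singleton] at hev'
      exact absurd hev' (Nat.not_even_iff_odd.2 (hpo_odd e (Multiset.mem_of_le ho_le (he ▸ Multiset.mem_singleton_self e))))
    · rw [Multiset.eq_of_le_of_card_le ho_le (by simp [hpo, hc])]
      right
      simp [hpo]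
      omega
  rcases hval with h0 | h0
  · exact ⟨νr, hr_le.trans (Multiset.le_add_left _ _), by omega, hre⟩
  · refine ⟨pr + νr, add_le_add_right hr_le pr, ?_, fun e he => ?_⟩
    · rw [Multiset.sum_add, ← hos, h0]; simp [hpr]; omega
    · rw [Multiset.count_add]; exact (hcpr e).add (hre e he)

/-- partitions with parts two and one further pair -/
theorem two_three_parts {m c : ℕ} {rest ν : Multiset ℕ} (hν : ν ≤ Multiset.replicate c 2 + rest)
    (hsum : ν.sum = m) (hev : ∀ e, Even e → Even (ν.count e)) :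
    ∃ j : ℕ, ∃ S : Multiset ℕ, S ≤ rest ∧ m = 4 * j + S.sum ∧ ((S = 0) → ∀ e ∈ ν, e = 2) := by
  classical
  set T := ν.filter (fun e => e = 2) with hT
  have hTs : T.sum = 2 * ν.count 2 := by
    rw [hT, Multiset.filter_eq', Multiset.sum_replicate, smul_eq_mul, mul_comm]
  obtain ⟨j, hj⟩ := hev 2 even_two
  refine ⟨j, ν.filter (fun e => ¬ e = 2), ?_, ?_, fun h e he => ?_⟩
  · have := Multiset.filter_le_filter (fun e => ¬ e = 2) hν
    rw [Multiset.filter_add, Multiset.filter_eq_nil.2 (fun e he => not_not_intro (Multiset.eq_of_mem_replicate he)),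
      zero_add] at this
    exact this.trans (Multiset.filter_le _ _)
  · rw [← hsum]
    conv_lhs => rw [← Multiset.filter_add_not (fun e => e = 2) ν, Multiset.sum_add, ← hT, hTs, hj]
    ring
  · by_contra hne
    have : e ∈ ν.filter (fun e => ¬ e = 2) := Multiset.mem_filter.2 ⟨he, hne⟩
    rw [h] at this
    simp at this

end Cfsg.Agent.Forms.Elusive.OrthUnipotent
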