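import Mathlib
import Cfsg.Agent.Lib.Forms.Witt
import Cfsg.Agent.Lib.Forms.SympStd
import Cfsg.Agent.Lib.Classical.Symplectic
import Cfsg.Agent.Lib.Classical.Linear

/-!
# Pairs of complementary Lagrangian subspaces
-/

set_option autoImplicit false
set_option linter.unusedSectionVars false

open Module Matrix

namespace Cfsg.Agent.Forms.Elusive

section
variable {F : Type*} [Field F] {V : Type*} [AddCommGroup V] [Module F V] [FiniteDimensional F V]
  {B : LinearMap.BilinForm F V}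

/-- the form vanishes on `U` -/
def IsoOn (B : LinearMap.BilinForm F V) (U : Submodule F V) : Prop := ∀ u ∈ U, ∀ v ∈ U, B u v = 0

/-- an isometry moves a pair of Lagrangians onto another, inducing a given map on the first member -/
theorem exists_pair_move (hnd : B.Nondegenerate) (halt : B.IsAlt) {U W U' W' : Submodule F V}
    (hU : IsoOn B U) (hW : IsoOn B W) (hc : IsCompl U W) (hU' : IsoOn B U') (hW' : IsoOn B W')
    (hc' : IsCompl U' W') (a : U ≃ₗ[F] U') :
    ∃ g : V ≃ₗ[F] V, (∀ u v, B (g u) (g v) = B u v) ∧ (∀ u : U, g u = a u) ∧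
      U.map (g : V →ₗ[F] V) = U' ∧ W.map (g : V →ₗ[F] V) = W' := by
  obtain ⟨g, hg, hgu⟩ := Witt.witt_alt B hnd halt U (U'.subtype.comp (a : U →ₗ[F] U'))
    (Subtype.val_injective.comp a.injective) fun x x' => by
      rw [hU _ x.2 _ x'.2]; exact hU' _ (a x).2 _ (a x').2
  have hgU : U.map (g : V →ₗ[F] V) = U' := le_antisymm
    (by rintro _ ⟨u, hu, rfl⟩; exact (hgu ⟨u, hu⟩).symm ▸ (a ⟨u, hu⟩).2)
    (fun u hu => ⟨a.symm ⟨u, hu⟩, (a.symm ⟨u, hu⟩).2, by
      rw [LinearEquiv.coe_coe, hgu]; simp⟩)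
  set W₁ : Submodule F V := W.map (g : V →ₗ[F] V) with hW₁d
  have hW₁ : IsoOn B W₁ := by
    rintro _ ⟨u, hu, rfl⟩ _ ⟨v, hv, rfl⟩
    exact (hg u v).trans (hW u hu v hv)
  have hc₁ : IsCompl U' W₁ := by
    rw [← hgU, hW₁d]
    refine ⟨(Submodule.disjoint_map g.injective hc.disjoint), codisjoint_iff.2 ?_⟩
    rw [← Submodule.map_sup, hc.sup_eq_top, Submodule.map_top, LinearEquiv.range]
  let h : V →ₗ[F] V := LinearMap.ofIsCompl hc₁ U'.subtype (W'.subtype.comp
    ((W'.projectionOnto U' hc'.symm).comp W₁.subtype))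
  have hhU : ∀ u ∈ U', h u = u := fun u hu => LinearMap.ofIsCompl_left_apply hc₁ ⟨u, hu⟩
  have hhW : ∀ w ∈ W₁, h w ∈ W' ∧ w - h w ∈ U' := fun w hw => by
    have e : h w = (W'.projectionOnto U' hc'.symm w : V) :=
      LinearMap.ofIsCompl_right_apply hc₁ ⟨w, hw⟩
    rw [e]
    refine ⟨Submodule.coe_mem _, ?_⟩
    obtain ⟨u, hu, w', hw', rfl⟩ := Submodule.mem_sup.1
      (hc'.sup_eq_top.symm ▸ Submodule.mem_top : w ∈ U' ⊔ W')
    rw [map_add, Submodule.projectionOnto_apply_of_mem_right hc'.symm hu,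
      show W'.projectionOnto U' hc'.symm w' = ⟨w', hw'⟩ from
        Submodule.projectionOnto_apply_left hc'.symm ⟨w', hw'⟩, zero_add]
    simpa using hu
  have hhiso : ∀ x y, B (h x) (h y) = B x y := by
    intro x y
    obtain ⟨u, hu, w, hw, rfl⟩ := Submodule.mem_sup.1 (hc₁.sup_eq_top.symm ▸ Submodule.mem_top : x ∈ U' ⊔ W₁)
    obtain ⟨u', hu', w', hw', rfl⟩ := Submodule.mem_sup.1 (hc₁.sup_eq_top.symm ▸ Submodule.mem_top : y ∈ U' ⊔ W₁)
    obtain ⟨h1, h2⟩ := hhW w hw
    obtain ⟨h3, h4⟩ := hhW w' hw'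
    have e1 : B u (h w') = B u w' := by
      have := hU' u hu _ h4
      rw [map_sub, sub_eq_zero] at this
      exact this.symm
    have e2 : B (h w) u' = B w u' := by
      have := hU' _ h2 u' hu'
      rw [map_sub, LinearMap.sub_apply, sub_eq_zero] at this
      exact this.symm
    simp only [map_add, LinearMap.add_apply, hhU u hu, hhU u' hu', e1, e2, hU' u hu u' hu',
      hW₁ w hw w' hw', hW' _ h1 _ h3]
  have hhinj : Function.Injective h := by
    rw [← LinearMap.ker_eq_bot, LinearMap.ker_eq_bot']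
    intro x hx
    by_contra hne
    exact hne (hnd.1 x fun y => by rw [← hhiso, hx, map_zero, LinearMap.zero_apply])
  let he : V ≃ₗ[F] V := LinearEquiv.ofBijective h ⟨hhinj, LinearMap.injective_iff_surjective.1 hhinj⟩
  have hW'eq : W.map ((g.trans he) : V →ₗ[F] V) ≤ W' := by
    rintro _ ⟨w, hw, rfl⟩
    exact (hhW (g w) ⟨w, hw, rfl⟩).1
  have hU'eq : ∀ u : U, (g.trans he) u = a u := fun u => by
    show h (g u) = a u
    rw [hgu]
    exact hhU _ (a u).2
  have hU'map : U.map ((g.trans he) : V →ₗ[F] V) = U' := le_antisymm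
    (by rintro _ ⟨u, hu, rfl⟩; exact (hU'eq ⟨u, hu⟩).symm ▸ (a ⟨u, hu⟩).2)
    (fun u hu => ⟨a.symm ⟨u, hu⟩, (a.symm ⟨u, hu⟩).2, by
      rw [LinearEquiv.coe_coe, hU'eq]; simp⟩)
  refine ⟨g.trans he, fun u v => (hhiso _ _).trans (hg u v), hU'eq, hU'map,
    Submodule.eq_of_le_of_finrank_le hW'eq ?_⟩
  have h1 := Submodule.finrank_add_eq_of_isCompl hc
  have h2 := Submodule.finrank_add_eq_of_isCompl hc'
  have h3 := a.finrank_eq
  rw [LinearEquiv.finrank_map_eq]
  omega

theorem finrank_of_pair (hnd : B.Nondegenerate) (halt : B.IsAlt) {U W : Submodule F V}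
    (hU : IsoOn B U) (hW : IsoOn B W) (hc : IsCompl U W) : 2 * finrank F U = finrank F V := by
  have hle : ∀ S : Submodule F V, IsoOn B S → 2 * finrank F S ≤ finrank F V := fun S hS => by
    have h1 : S ≤ B.orthogonal S := fun v hv => fun n hn => hS n hn v hv
    have h2 := Submodule.finrank_mono h1
    have h3 := LinearMap.BilinForm.finrank_orthogonal hnd S
    have h4 := Submodule.finrank_le S
    omega
  have h1 := Submodule.finrank_add_eq_of_isCompl hc
  have h2 := hle U hU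
  have h3 := hle W hW
  omega

/-- an isometry fixing both members and trivial on the first is trivial -/
theorem eq_id_of_pair (hnd : B.Nondegenerate) {U W : Submodule F V} (hW : IsoOn B W) (hc : IsCompl U W)
    (g : V →ₗ[F] V) (hg : ∀ u v, B (g u) (g v) = B u v) (hgU : ∀ u ∈ U, g u = u) (hgW : W.map g ≤ W)
    (v : V) : g v = v := by
  have hinW : ∀ w ∈ W, g w = w := fun w hw => by
    have h0 : g w - w = 0 := hnd.2 _ fun y => by
      obtain ⟨u, hu, w', hw', rfl⟩ := Submodule.mem_sup.1 (hc.sup_eq_top.symm ▸ Submodule.mem_top : y ∈ U ⊔ W)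
      have e1 : B u (g w) = B u w := by
        have := hg u w
        rwa [hgU u hu] at this
      simp [map_sub, e1, hW w' hw' _ (hgW ⟨w, hw, rfl⟩), hW w' hw' w hw]
    exact sub_eq_zero.1 h0
  obtain ⟨u, hu, w, hw, rfl⟩ := Submodule.mem_sup.1 (hc.sup_eq_top.symm ▸ Submodule.mem_top : v ∈ U ⊔ W)
  rw [map_add, hgU u hu, hinW w hw]

end

section count
variable {F : Type*} [Field F] [Fintype F] {d : ℕ}

local notation "Vec" => (Fin d ⊕ Fin d → F)

/-- the pairs of complementary totally isotropic `d`-spaces -/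
def LPairs (d : ℕ) (F : Type*) [Field F] :=
  {P : Submodule F (Fin d ⊕ Fin d → F) × Submodule F (Fin d ⊕ Fin d → F) //
    IsCompl P.1 P.2 ∧ (∀ u ∈ P.1, ∀ v ∈ P.1, Cfsg.sympForm d F u v = 0) ∧
      (∀ u ∈ P.2, ∀ v ∈ P.2, Cfsg.sympForm d F u v = 0)}

theorem isoOn_iff (U : Submodule F Vec) :
    IsoOn (SympStd.sympB d F) U ↔ ∀ u ∈ U, ∀ v ∈ U, Cfsg.sympForm d F u v = 0 := by
  simp [IsoOn, SympStd.sympB_apply]

/-- the number of pairs times `|GL_d|` is `|Sp_2d|` -/
theorem natCard_pairs_mul :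
    Nat.card (LPairs d F) * Nat.card (GL (Fin d) F) = Nat.card (symplecticGroup (Fin d) F) := by
  classical
  let B := SympStd.sympB d F
  let f : symplecticGroup (Fin d) F → Vec →ₗ[F] Vec := fun A =>
    Matrix.toLin' (A : Matrix (Fin d ⊕ Fin d) (Fin d ⊕ Fin d) F)
  have hf : ∀ A u v, B (f A u) (f A v) = B u v := fun A u v => by
    simp only [B, f, Matrix.toLin'_apply, SympStd.sympB_apply, SympStd.sympForm_mulVec]
  have hfinj : ∀ A, Function.Injective (f A) := fun A => by
    rw [← LinearMap.ker_eq_bot, LinearMap.ker_eq_bot']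
    intro x hx
    exact SympStd.sympB_nondegenerate.1 x fun y => by
      rw [← hf A, hx, map_zero, LinearMap.zero_apply]
  -- the standard pair
  let U₀ : Submodule F Vec := LinearMap.ker (LinearMap.pi fun i : Fin d => LinearMap.proj (Sum.inr i))
  let W₀ : Submodule F Vec := LinearMap.ker (LinearMap.pi fun i : Fin d => LinearMap.proj (Sum.inl i))
  have hU₀m : ∀ v, v ∈ U₀ ↔ ∀ i, v (Sum.inr i) = 0 := fun v => by
    simp [U₀, LinearMap.mem_ker, funext_iff]
  have hW₀m : ∀ v, v ∈ W₀ ↔ ∀ i, v (Sum.inl i) = 0 := fun v => by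
    simp [W₀, LinearMap.mem_ker, funext_iff]
  have hU₀ : IsoOn B U₀ := fun u hu v hv => by
    simp [B, SympStd.sympB_apply, SympStd.sympForm_eq, (hU₀m u).1 hu, (hU₀m v).1 hv]
  have hW₀ : IsoOn B W₀ := fun u hu v hv => by
    simp [B, SympStd.sympB_apply, SympStd.sympForm_eq, (hW₀m u).1 hu, (hW₀m v).1 hv]
  have hc₀ : IsCompl U₀ W₀ := by
    refine ⟨Submodule.disjoint_def.2 fun v h1 h2 => funext ?_, codisjoint_iff.2 (eq_top_iff.2 fun v _ => ?_)⟩
    · rintro (i | i)
      · exact (hW₀m v).1 h2 i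
      · exact (hU₀m v).1 h1 i
    · refine Submodule.mem_sup.2 ⟨Sum.elim (fun i => v (Sum.inl i)) 0, (hU₀m _).2 fun i => rfl,
        Sum.elim 0 (fun i => v (Sum.inr i)), (hW₀m _).2 fun i => rfl, ?_⟩
      funext i; rcases i with i | i <;> simp
  have hdim : ∀ P : LPairs d F, finrank F P.1.1 = d := fun P => by
    have := finrank_of_pair SympStd.sympB_nondegenerate SympStd.sympB_isAlt ((isoOn_iff _).2 P.2.2.1)
      ((isoOn_iff _).2 P.2.2.2) P.2.1
    rw [SympStd.finrank_vec] at this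
    omega
  let p₀ : LPairs d F := ⟨(U₀, W₀), hc₀, (isoOn_iff _).1 hU₀, (isoOn_iff _).1 hW₀⟩
  let φ : symplecticGroup (Fin d) F → LPairs d F := fun A =>
    ⟨(U₀.map (f A), W₀.map (f A)), ⟨Submodule.disjoint_map (hfinj A) hc₀.disjoint, codisjoint_iff.2 (by
      show U₀.map (f A) ⊔ W₀.map (f A) = ⊤
      rw [← Submodule.map_sup, hc₀.sup_eq_top, Submodule.map_top, LinearMap.range_eq_top]
      exact LinearMap.injective_iff_surjective.1 (hfinj A))⟩,
      (isoOn_iff _).1 (by rintro _ ⟨u, hu, rfl⟩ _ ⟨v, hv, rfl⟩; exact (hf A u v).trans (hU₀ u hu v hv)),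
      (isoOn_iff _).1 (by rintro _ ⟨u, hu, rfl⟩ _ ⟨v, hv, rfl⟩; exact (hf A u v).trans (hW₀ u hu v hv))⟩
  have hfib : ∀ P : LPairs d F, Nat.card {A // φ A = P} = Nat.card (GL (Fin d) F) := by
    intro P
    have hGL : Nat.card (GL (Fin d) F) = Nat.card (U₀ ≃ₗ[F] P.1.1) := by
      let e₀ : (Fin d → F) ≃ₗ[F] U₀ := LinearEquiv.ofFinrankEq _ _ (by
        rw [show finrank F U₀ = d from hdim p₀]; simp)
      let e₁ : (Fin d → F) ≃ₗ[F] P.1.1 := LinearEquiv.ofFinrankEq _ _ (by rw [hdim P]; simp)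
      refine Nat.card_congr ((Matrix.GeneralLinearGroup.toLin.toEquiv.trans
        (LinearMap.GeneralLinearGroup.generalLinearEquiv F (Fin d → F)).toEquiv).trans
        { toFun := fun g => (e₀.symm.trans g).trans e₁
          invFun := fun g => (e₀.trans g).trans e₁.symm
          left_inv := fun g => by ext; simp
          right_inv := fun g => by ext; simp })
    rw [hGL]
    have hmem : ∀ A, φ A = P → ∀ u : U₀, f A u ∈ P.1.1 := fun A hA u => by
      subst hA; exact ⟨u, u.2, rfl⟩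
    refine Nat.card_congr (Equiv.ofBijective (fun A =>
      LinearEquiv.ofBijective (LinearMap.codRestrict P.1.1 ((f A.1).comp U₀.subtype) (hmem A.1 A.2))
        ⟨fun u v huv => Subtype.ext (hfinj A.1 (congrArg Subtype.val huv)), fun w => by
          obtain ⟨u, hu, e⟩ : (w : Vec) ∈ U₀.map (f A.1) := by
            have h : U₀.map (f A.1) = P.1.1 := congrArg (fun Q : LPairs d F => Q.1.1) A.2
            rw [h]
            exact w.2
          exact ⟨⟨u, hu⟩, Subtype.ext e⟩⟩) ⟨?_, ?_⟩)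
    · rintro ⟨A, hA⟩ ⟨A', hA'⟩ h
      have h1 : ∀ u ∈ U₀, f A u = f A' u := fun u hu =>
        congrArg (fun e : U₀ ≃ₗ[F] P.1.1 => (e ⟨u, hu⟩ : Vec)) h
      refine Subtype.ext (SympStd.sp_ext fun v => ?_)
      let g := LinearEquiv.ofBijective (f A') ⟨hfinj A', LinearMap.injective_iff_surjective.1 (hfinj A')⟩
      have hgap : ∀ z, g z = f A' z := fun z => rfl
      have h2 := eq_id_of_pair (U := U₀) (W := W₀) SympStd.sympB_nondegenerate hW₀ hc₀
        ((g.symm : Vec →ₗ[F] Vec).comp (f A)) (fun u w => by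
          show B (g.symm (f A u)) (g.symm (f A w)) = B u w
          rw [← hf A', ← hgap, ← hgap, g.apply_symm_apply, g.apply_symm_apply, hf])
        (fun u hu => by
          show g.symm (f A u) = u
          rw [h1 u hu, ← hgap, g.symm_apply_apply])
        (by
          rintro _ ⟨w, hw, rfl⟩
          obtain ⟨w', hw', e⟩ : f A w ∈ W₀.map (f A') := by
            rw [show W₀.map (f A') = W₀.map (f A) from
              (congrArg (fun Q : LPairs d F => Q.1.2) (hA'.trans hA.symm))]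
            exact ⟨w, hw, rfl⟩
          show g.symm (f A w) ∈ W₀
          rw [← e, ← hgap, g.symm_apply_apply]
          exact hw') v
      have h3 : g.symm (f A v) = v := h2
      rw [LinearEquiv.symm_apply_eq] at h3
      simpa only [hgap, f, Matrix.toLin'_apply] using h3
    · intro a
      obtain ⟨g, hg, hga, hgU, hgW⟩ := exists_pair_move SympStd.sympB_nondegenerate SympStd.sympB_isAlt
        hU₀ hW₀ hc₀ ((isoOn_iff _).2 P.2.2.1) ((isoOn_iff _).2 P.2.2.2) P.2.1 a
      let A := SympStd.ofEquiv g fun u v => by rw [← SympStd.sympB_apply, ← SympStd.sympB_apply]; exact hg u v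
      have hA : f A = (g : Vec →ₗ[F] Vec) := LinearMap.ext fun v => by
        simp [f, A, SympStd.ofEquiv_mulVec]
      refine ⟨⟨A, Subtype.ext (Prod.ext (by show U₀.map (f A) = _; rw [hA, hgU])
        (by show W₀.map (f A) = _; rw [hA, hgW]))⟩, LinearEquiv.ext fun u => Subtype.ext ?_⟩
      show f A u = _
      rw [hA]
      exact hga u
  haveI : Finite (LPairs d F) := by unfold LPairs; infer_instance
  haveI := Fintype.ofFinite (LPairs d F)
  rw [← Nat.card_congr (Equiv.sigmaFiberEquiv φ), Nat.card_sigma,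
    Finset.sum_congr rfl fun P _ => hfib P, Finset.sum_const, smul_eq_mul, Finset.card_univ,
    ← Nat.card_eq_fintype_card]

/-- the number of pairs, up to a power of `q` -/
theorem natCard_pairs : ∃ e : ℕ, Nat.card (LPairs d F) * Fintype.card F ^ e =
    Fintype.card F ^ (d ^ 2) * ∏ i ∈ Finset.range d, (Fintype.card F ^ (i + 1) + 1) := by
  set q := Fintype.card F
  have hq : 1 < q := Fintype.one_lt_card
  refine ⟨∑ i ∈ Finset.range d, i, ?_⟩
  have h := natCard_pairs_mul (F := F) (d := d)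
  rw [Classical.Linear.natCard_GL_fin, Classical.Symplectic.natCard_sp,
    Fin.prod_univ_eq_prod_range (fun i => q ^ d - q ^ i) d] at h
  have e1 : ∏ i ∈ Finset.range d, (q ^ d - q ^ i) =
      q ^ (∑ i ∈ Finset.range d, i) * ∏ i ∈ Finset.range d, (q ^ (i + 1) - 1) := by
    rw [← Finset.prod_range_reflect (fun i => q ^ (i + 1) - 1) d, ← Finset.prod_pow_eq_pow_sum,
      ← Finset.prod_mul_distrib]
    refine Finset.prod_congr rfl fun i hi => ?_
    have hi' := Finset.mem_range.1 hi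
    rw [Nat.mul_sub, mul_one, ← pow_add, show i + (d - 1 - i + 1) = d by omega]
  have e2 : ∏ i ∈ Finset.range d, (q ^ (2 * (i + 1)) - 1) =
      (∏ i ∈ Finset.range d, (q ^ (i + 1) + 1)) * ∏ i ∈ Finset.range d, (q ^ (i + 1) - 1) := by
    rw [← Finset.prod_mul_distrib]
    refine Finset.prod_congr rfl fun i _ => ?_
    rw [← Nat.sq_sub_sq, ← pow_mul, one_pow, mul_comm 2]
  have hpos : 0 < ∏ i ∈ Finset.range d, (q ^ (i + 1) - 1) := by
    refine Finset.prod_pos fun i _ => Nat.sub_pos_of_lt ?_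
    exact Nat.one_lt_pow (by omega) hq
  rw [e1, e2, ← mul_assoc, ← mul_assoc] at h
  exact Nat.eq_of_mul_eq_mul_right hpos h

end count

end Cfsg.Agent.Forms.Elusive
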