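import Mathlib

/-!
# Invariant subspaces of linear maps of prime order
-/

set_option autoImplicit false
set_option linter.unusedSectionVars false

open Polynomial Module

namespace Cfsg.Agent.Forms.Elusive

variable {F : Type*} [Field F] {V : Type*} [AddCommGroup V] [Module F V] [FiniteDimensional F V]

theorem aeval_mem {f : V →ₗ[F] V} {W : Submodule F V} (hW : W.map f ≤ W) (P : F[X]) {v : V}
    (hv : v ∈ W) : aeval f P v ∈ W := by
  induction P using Polynomial.induction_on' with
  | add P Q hP hQ => rw [map_add]; exact add_mem hP hQ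
  | monomial l a =>
    rw [aeval_monomial, Module.End.mul_apply, Module.algebraMap_end_apply]
    refine W.smul_mem a ?_
    induction l with
    | zero => simpa using hv
    | succ l ih => rw [pow_succ', Module.End.mul_apply]; exact hW ⟨_, ih, rfl⟩

theorem inv_inf {f : V →ₗ[F] V} {A B : Submodule F V} (hA : A.map f ≤ A) (hB : B.map f ≤ B) :
    (A ⊓ B).map f ≤ A ⊓ B :=
  le_inf ((Submodule.map_mono inf_le_left).trans hA) ((Submodule.map_mono inf_le_right).trans hB)

theorem inv_sup {f : V →ₗ[F] V} {A B : Submodule F V} (hA : A.map f ≤ A) (hB : B.map f ≤ B) :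
    (A ⊔ B).map f ≤ A ⊔ B := by
  rw [Submodule.map_sup]; exact sup_le_sup hA hB

theorem finrank_sup_of_disjoint {A B : Submodule F V} (h : Disjoint A B) :
    finrank F ↥(A ⊔ B) = finrank F A + finrank F B := by
  have := Submodule.finrank_sup_add_finrank_inf_eq A B
  rw [disjoint_iff.1 h, finrank_bot] at this
  omega

/-- a relative invariant complement -/
theorem exists_compl {f : V →ₗ[F] V} (hss : Module.End.IsSemisimple f) {U W : Submodule F V}
    (hU : U.map f ≤ U) (hW : W.map f ≤ W) (hUW : U ≤ W) :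
    ∃ U' : Submodule F V, U'.map f ≤ U' ∧ U' ≤ W ∧ Disjoint U U' ∧ U ⊔ U' = W ∧
      finrank F U + finrank F U' = finrank F W := by
  obtain ⟨q, hq, hc⟩ := Module.End.isSemisimple_iff.1 hss U
    ((Module.End.mem_invtSubmodule_iff_map_le f).2 hU)
  have hsup : U ⊔ (q ⊓ W) = W := by
    rw [← sup_inf_assoc_of_le q hUW, hc.sup_eq_top, top_inf_eq]
  have hd : Disjoint U (q ⊓ W) := hc.disjoint.mono_right inf_le_left
  exact ⟨q ⊓ W, inv_inf ((Module.End.mem_invtSubmodule_iff_map_le f).1 hq) hW, inf_le_right, hd, hsup,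
    by rw [← finrank_sup_of_disjoint hd, hsup]⟩

theorem isSemisimple_of_pow {f : V →ₗ[F] V} {r : ℕ} {c : F} (hf : ∀ v, (f ^ r) v = c • v)
    (hr : (r : F) ≠ 0) (hc : c ≠ 0) : Module.End.IsSemisimple f := by
  refine Module.End.isSemisimple_of_squarefree_aeval_eq_zero
    (separable_X_pow_sub_C c hr hc).squarefree (LinearMap.ext fun v => ?_)
  simp [hf]

/-- `gs` annihilates `W` and has degrees at most `a` -/
def Killed (f : V →ₗ[F] V) (a : ℕ) (W : Submodule F V) : Prop :=
  ∃ gs : List F[X], (∀ g ∈ gs, g.Monic ∧ g.natDegree ≤ a) ∧ ∀ v ∈ W, aeval f gs.prod v = 0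

theorem Killed.mono {f : V →ₗ[F] V} {a : ℕ} {U W : Submodule F V} (h : Killed f a W) (hUW : U ≤ W) :
    Killed f a U := by
  obtain ⟨gs, h1, h2⟩ := h
  exact ⟨gs, h1, fun v hv => h2 v (hUW hv)⟩

/-- enlarge an invariant subspace by at most `a` dimensions -/
theorem exists_step {f : V →ₗ[F] V} {a : ℕ} {U W : Submodule F V} (hU : U.map f ≤ U)
    (hW : W.map f ≤ W) (hUW : U < W) (h : Killed f a W) :
    ∃ U' : Submodule F V, U'.map f ≤ U' ∧ U < U' ∧ U' ≤ W ∧ finrank F U' ≤ finrank F U + a := by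
  obtain ⟨gs, hdeg, hkill⟩ := h
  have key : ∀ gs : List F[X], (∀ g ∈ gs, g.Monic ∧ g.natDegree ≤ a) → ∀ v ∈ W, v ∉ U →
      aeval f gs.prod v ∈ U → ∃ (g : F[X]) (u : V), g.Monic ∧ g.natDegree ≤ a ∧ u ∈ W ∧ u ∉ U ∧
        aeval f g u ∈ U := by
    intro gs
    induction gs with
    | nil => intro _ v _ hv h; simp at h; exact absurd h hv
    | cons g gs ih =>
      intro hd v hvW hvU h
      by_cases hin : aeval f gs.prod v ∈ U
      · exact ih (fun g hg => hd g (List.mem_cons_of_mem _ hg)) v hvW hvU hin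
      · rw [List.prod_cons, map_mul, Module.End.mul_apply] at h
        exact ⟨g, _, (hd g List.mem_cons_self).1, (hd g List.mem_cons_self).2,
          aeval_mem hW _ hvW, hin, h⟩
  obtain ⟨v, hvW, hvU⟩ := SetLike.exists_of_lt hUW
  obtain ⟨g, u, hg, hga, huW, huU, hgu⟩ := key gs hdeg v hvW hvU (by
    rw [hkill v hvW]; exact U.zero_mem)
  set d := g.natDegree with hd
  set S := Submodule.span F (Set.range fun l : Fin d => (f ^ (l : ℕ)) u) with hS
  have hSW : S ≤ W := by
    rw [hS, Submodule.span_le]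
    rintro _ ⟨l, rfl⟩
    simpa [aeval_X_pow] using aeval_mem hW (X ^ (l : ℕ)) huW
  have hlast : (f ^ d) u ∈ U ⊔ S := by
    have e : g = X ^ d + g.eraseLead := by
      conv_lhs => rw [← g.eraseLead_add_monomial_natDegree_leadingCoeff]
      rw [hg.leadingCoeff, monomial_one_right_eq_X_pow, add_comm, hd]
    have h2 : aeval f g.eraseLead u ∈ U ⊔ S := by
      refine Submodule.mem_sup_right ?_
      rw [aeval_eq_sum_range' (n := d + 1) (Nat.lt_succ_of_le g.eraseLead_natDegree_le_aux),
        LinearMap.sum_apply]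
      refine S.sum_mem fun l hl => ?_
      rw [LinearMap.smul_apply]
      rcases Nat.lt_or_ge l d with hld | hld
      · exact S.smul_mem _ (Submodule.subset_span ⟨⟨l, hld⟩, rfl⟩)
      · obtain rfl : l = d := by have := Finset.mem_range.1 hl; omega
        rw [hd, g.eraseLead_coeff_natDegree, zero_smul]; exact S.zero_mem
    have h3 := Submodule.sub_mem _ (Submodule.mem_sup_left (T := S) hgu) h2
    rw [e, map_add, LinearMap.add_apply, aeval_X_pow] at h3
    simpa [← e] using h3
  have hdpos : 0 < d := by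
    by_contra h0
    have : d = 0 := by omega
    rw [hd, hg.natDegree_eq_zero] at this
    rw [this, map_one] at hgu
    exact huU hgu
  refine ⟨U ⊔ S, ?_, lt_of_le_of_ne le_sup_left fun e => huU ?_, sup_le hUW.le hSW, ?_⟩
  · rw [Submodule.map_sup]
    refine sup_le (hU.trans le_sup_left) ?_
    rw [hS, Submodule.map_span, Submodule.span_le]
    rintro _ ⟨_, ⟨l, rfl⟩, rfl⟩
    show f ((f ^ (l : ℕ)) u) ∈ U ⊔ S
    rw [← Module.End.mul_apply, ← pow_succ']
    rcases Nat.lt_or_ge ((l : ℕ) + 1) d with hl | hl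
    · exact Submodule.mem_sup_right (Submodule.subset_span ⟨⟨_, hl⟩, rfl⟩)
    · rwa [show (l : ℕ) + 1 = d by omega]
  · rw [e]
    exact Submodule.mem_sup_right (Submodule.subset_span ⟨⟨0, hdpos⟩, by simp⟩)
  · have h1 : finrank F S ≤ d := by
      have := finrank_range_le_card (R := F) fun l : Fin d => (f ^ (l : ℕ)) u
      rwa [Fintype.card_fin] at this
    have := Submodule.finrank_add_le_finrank_add_finrank U S
    omega

/-- the dimensions of invariant subspaces of `W` are multiples of `a`, and it is `Killed` -/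
structure Homog (f : V →ₗ[F] V) (a : ℕ) (W : Submodule F V) : Prop where
  pos : 0 < a
  inv : W.map f ≤ W
  kill : Killed f a W
  dvd : ∀ U : Submodule F V, U.map f ≤ U → U ≤ W → a ∣ finrank F U

theorem Homog.mono {f : V →ₗ[F] V} {a : ℕ} {U W : Submodule F V} (h : Homog f a W)
    (hU : U.map f ≤ U) (hUW : U ≤ W) : Homog f a U :=
  ⟨h.pos, hU, h.kill.mono hUW, fun U' h1 h2 => h.dvd U' h1 (h2.trans hUW)⟩

theorem Homog.exists_sub {f : V →ₗ[F] V} {a : ℕ} {W : Submodule F V} (h : Homog f a W) :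
    ∀ j : ℕ, j * a ≤ finrank F W → ∃ U : Submodule F V, U.map f ≤ U ∧ U ≤ W ∧ finrank F U = j * a := by
  intro j
  induction j with
  | zero => exact fun _ => ⟨⊥, by simp, bot_le, by simp⟩
  | succ j ih =>
    intro hj
    rw [add_mul, one_mul] at hj
    obtain ⟨U, hU, hUW, hUd⟩ := ih (by omega)
    have hlt : U < W := lt_of_le_of_ne hUW fun e => by rw [e] at hUd; have := h.pos; omega
    obtain ⟨U', hU', hlt', hU'W, hle⟩ := exists_step hU h.inv hlt h.kill
    refine ⟨U', hU', hU'W, ?_⟩
    obtain ⟨t, ht⟩ := h.dvd U' hU' hU'W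
    have h1 := Submodule.finrank_lt_finrank_of_lt hlt'
    have h3 : j < t := Nat.lt_of_mul_lt_mul_left (a := a) (by rw [← ht, mul_comm a]; omega)
    have h4 : t ≤ j + 1 := Nat.le_of_mul_le_mul_left (by rw [← ht, mul_add, mul_one, mul_comm a]; omega) h.pos
    obtain rfl : t = j + 1 := by omega
    rw [ht, mul_comm]

theorem Homog.exists_pair {f : V →ₗ[F] V} (hss : Module.End.IsSemisimple f) {a : ℕ} {W : Submodule F V}
    (h : Homog f a W) {j j' : ℕ} (hj : (j + j') * a ≤ finrank F W) :
    ∃ U U' : Submodule F V, U.map f ≤ U ∧ U'.map f ≤ U' ∧ U ≤ W ∧ U' ≤ W ∧ Disjoint U U' ∧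
      finrank F U = j * a ∧ finrank F U' = j' * a := by
  rw [add_mul] at hj
  obtain ⟨U, hU, hUW, hUd⟩ := h.exists_sub j (by omega)
  obtain ⟨Q, hQ, hQW, hd, -, hsum⟩ := exists_compl hss hU h.inv hUW
  obtain ⟨U', hU', hU'Q, hU'd⟩ := (h.mono hQ hQW).exists_sub j' (by omega)
  exact ⟨U, U', hU, hU', hUW, hU'Q.trans hQW, hd.mono_right hU'Q, hUd, hU'd⟩

variable [Fintype F]

/-- an element of prime order without fixed points: dimensions are multiples of the order of `q` -/
theorem dvd_finrank_of_free {f : V →ₗ[F] V} {r : ℕ} [hr : Fact r.Prime] {W : Submodule F V}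
    (hW : W.map f ≤ W) (hf : ∀ v ∈ W, (f ^ r) v = v) (hfree : ∀ v ∈ W, f v = v → v = 0) :
    orderOf ((Fintype.card F : ℕ) : ZMod r) ∣ finrank F W := by
  classical
  haveI : Finite V := Module.finite_of_finite F
  haveI : Fintype V := Fintype.ofFinite V
  set g : W →ₗ[F] W := f.restrict fun v hv => hW ⟨v, hv, rfl⟩ with hg
  have hgr : ∀ v : W, (g ^ r) v = v := by
    intro v
    refine Subtype.ext ?_
    have : ∀ l, (((g ^ l) v : W) : V) = (f ^ l) v := by
      intro l
      induction l with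
      | zero => rfl
      | succ l ih =>
        rw [pow_succ', pow_succ', Module.End.mul_apply, Module.End.mul_apply]
        show f (((g ^ l) v : W) : V) = _
        rw [ih]
    rw [this, hf v v.2]
  have hginj : Function.Injective g := fun a b e => by
    have := congrArg (g ^ (r - 1)) e
    rwa [← Module.End.mul_apply, ← Module.End.mul_apply, ← pow_succ,
      Nat.sub_add_cancel hr.out.one_lt.le, hgr, hgr] at this
  let σ : Equiv.Perm {v : W // v ≠ 0} := Equiv.Perm.subtypePerm
    (Equiv.ofBijective g ⟨hginj, Finite.injective_iff_surjective.1 hginj⟩) fun v => by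
      show g v ≠ 0 ↔ v ≠ 0
      exact map_ne_zero_iff _ hginj
  have hσ : σ ^ r ^ 1 = 1 := by
    refine Equiv.ext fun v => Subtype.ext ?_
    have : ∀ l, (((σ ^ l) v : {v : W // v ≠ 0}) : W) = (g ^ l) (v : W) := by
      intro l
      induction l with
      | zero => rfl
      | succ l ih => rw [pow_succ', pow_succ', Equiv.Perm.mul_apply, Module.End.mul_apply, ← ih]; rfl
    rw [pow_one, this, hgr]; rfl
  have hdvd : r ∣ Fintype.card {v : W // v ≠ 0} := by
    by_contra hnd
    obtain ⟨v, hv⟩ := Equiv.Perm.exists_fixed_point_of_prime (n := 1) hnd hσ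
    have e : g (v : W) = (v : W) := congrArg Subtype.val hv
    exact v.2 (Subtype.ext (hfree _ (v : W).2 (congrArg Subtype.val e)))
  refine orderOf_dvd_of_pow_eq_one ?_
  rw [Fintype.card_subtype_compl, Fintype.card_subtype_eq, Module.card_eq_pow_finrank (K := F),
    ← Nat.modEq_iff_dvd' (Nat.one_le_pow _ _ Fintype.card_pos), ← ZMod.natCast_eq_natCast_iff] at hdvd
  push_cast at hdvd
  exact hdvd.symm

/-- `f ^ r` a scalar which is no `r`-th power: dimensions are multiples of `r` -/
theorem dvd_finrank_of_not_pow {f : V →ₗ[F] V} {r : ℕ} [hr : Fact r.Prime] {c : F}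
    (hf : ∀ v, (f ^ r) v = c • v) (hc : ∀ d : F, d ^ r ≠ c) {W : Submodule F V} (hW : W.map f ≤ W) :
    r ∣ finrank F W := by
  by_contra hnd
  have hc0 : c ≠ 0 := fun e => hc 0 (by rw [e, zero_pow hr.out.ne_zero])
  set g : W →ₗ[F] W := f.restrict fun v hv => hW ⟨v, hv, rfl⟩ with hg
  have hgr : g ^ r = c • 1 := by
    refine LinearMap.ext fun v => Subtype.ext ?_
    have : ∀ l, (((g ^ l) v : W) : V) = (f ^ l) v := by
      intro l
      induction l with
      | zero => rfl
      | succ l ih =>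
        rw [pow_succ', pow_succ', Module.End.mul_apply, Module.End.mul_apply]
        show f (((g ^ l) v : W) : V) = _
        rw [ih]
    rw [this, hf]; rfl
  have hdet := congrArg LinearMap.det hgr
  rw [map_pow, LinearMap.det_smul, map_one, mul_one] at hdet
  obtain ⟨u, v, huv⟩ := (Int.isCoprime_iff_gcd_eq_one.2 (by
    exact_mod_cast (hr.out.coprime_iff_not_dvd.2 hnd).symm) :
      IsCoprime ((finrank F W : ℕ) : ℤ) (r : ℤ))
  have hdet0 : LinearMap.det g ≠ 0 := fun e => by
    rw [e, zero_pow hr.out.ne_zero] at hdet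
    exact hc0 (eq_zero_of_pow_eq_zero hdet.symm)
  refine hc (LinearMap.det g ^ u * c ^ v) ?_
  rw [mul_pow, ← zpow_natCast, ← zpow_natCast, ← zpow_mul, ← zpow_mul, mul_comm u, zpow_mul,
    zpow_natCast, hdet, ← zpow_natCast, ← zpow_mul, ← zpow_add₀ hc0, mul_comm _ u, huv, zpow_one]

theorem homog_of_not_pow {f : V →ₗ[F] V} {r : ℕ} [hr : Fact r.Prime] {c : F}
    (hf : ∀ v, (f ^ r) v = c • v) (hc : ∀ d : F, d ^ r ≠ c) : Homog f r ⊤ where
  pos := hr.out.pos
  inv := le_top
  kill := ⟨[X ^ r - C c], by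
    intro g hg
    rw [List.mem_singleton] at hg
    subst hg
    exact ⟨monic_X_pow_sub_C c hr.out.ne_zero, (natDegree_X_pow_sub_C).le⟩, fun v _ => by simp [hf]⟩
  dvd U hU _ := dvd_finrank_of_not_pow hf hc hU

/-- a fixed-point-free invariant subspace -/
theorem homog_of_free {f : V →ₗ[F] V} {r : ℕ} [hr : Fact r.Prime] (hr0 : (r : F) ≠ 0)
    {W : Submodule F V} (hW : W.map f ≤ W) (hf : ∀ v ∈ W, (f ^ r) v = v)
    (hfree : ∀ v ∈ W, f v = v → v = 0) : Homog f (orderOf ((Fintype.card F : ℕ) : ZMod r)) W := by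
  classical
  obtain ⟨p, hp⟩ := CharP.exists F
  haveI := hp
  haveI : Fact p.Prime := ⟨CharP.char_is_prime F p⟩
  obtain ⟨k, -, hk⟩ := FiniteField.card F p
  have hpr : p ≠ r := fun e => hr0 (e ▸ CharP.cast_eq_zero F p)
  have hcop : p.Coprime r := (Nat.coprime_primes Fact.out hr.out).2 hpr
  have hu : orderOf ((Fintype.card F : ℕ) : ZMod r) =
      orderOf (ZMod.unitOfCoprime _ (hcop.pow_left (k : ℕ))) := by
    rw [← orderOf_units, ZMod.coe_unitOfCoprime, hk]
  refine ⟨?_, hW, ?_, fun U hU hUW => dvd_finrank_of_free hU (fun v hv => hf v (hUW hv))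
    fun v hv => hfree v (hUW hv)⟩
  · rw [hu]; exact orderOf_pos _
  · refine ⟨((UniqueFactorizationMonoid.normalizedFactors (cyclotomic r F)).toList), ?_, fun v hv => ?_⟩
    · intro g hg
      rw [Multiset.mem_toList] at hg
      refine ⟨?_, le_of_eq ?_⟩
      · have hne := (UniqueFactorizationMonoid.irreducible_of_normalized_factor g hg).ne_zero
        exact UniqueFactorizationMonoid.normalize_normalized_factor g hg ▸ monic_normalize hne
      · rw [hu]
        exact natDegree_of_mem_normalizedFactors_cyclotomic hk hcop hg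
    · rw [Multiset.prod_toList]
      obtain ⟨w, hw⟩ := UniqueFactorizationMonoid.prod_normalizedFactors (cyclotomic_ne_zero r F)
      have hfix : f (aeval f (cyclotomic r F) v) = aeval f (cyclotomic r F) v := by
        have e := congrArg (fun P => aeval f P v) (cyclotomic_prime_mul_X_sub_one F r)
        simp only [map_mul, map_sub, map_one, aeval_X, aeval_X_pow, Module.End.mul_apply,
          LinearMap.sub_apply, Module.End.one_apply, hf v hv, sub_self] at e
        rw [← sub_eq_zero]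
        have hcomm : Commute (aeval f (cyclotomic r F)) (f - 1) := by
          have := (Commute.all (cyclotomic r F) (X - 1)).map (aeval f)
          rwa [map_sub, map_one, aeval_X] at this
        have e2 : aeval f (cyclotomic r F) ((f - 1) v) = (f - 1) (aeval f (cyclotomic r F) v) :=
          congrArg (fun T : Module.End F V => T v) hcomm.eq
        rw [LinearMap.sub_apply, Module.End.one_apply, map_sub, e] at e2
        exact e2.symm
      have h0 := hfree _ (aeval_mem hW _ hv) hfix
      rw [← hw, mul_comm, map_mul, Module.End.mul_apply] at h0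
      have := congrArg (aeval f (↑w⁻¹ : F[X])) h0
      rwa [map_zero, ← Module.End.mul_apply, ← map_mul, Units.inv_mul, map_one, Module.End.one_apply] at this

theorem homog_of_fixed {f : V →ₗ[F] V} {W : Submodule F V} (hf : ∀ v ∈ W, f v = v) : Homog f 1 W where
  pos := one_pos
  inv := by rintro _ ⟨v, hv, rfl⟩; rw [hf v hv]; exact hv
  kill := ⟨[X - C 1], by
    intro g hg
    rw [List.mem_singleton] at hg
    subst hg
    exact ⟨monic_X_sub_C _, natDegree_X_sub_C_le _⟩, fun v hv => by simp [hf v hv]⟩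
  dvd U _ _ := one_dvd _

/-- the fixed space of `f` -/
noncomputable def fixSp (f : V →ₗ[F] V) : Submodule F V := LinearMap.ker (f - 1)

theorem mem_fixSp {f : V →ₗ[F] V} {v : V} : v ∈ fixSp f ↔ f v = v := by
  simp [fixSp, sub_eq_zero]

theorem fixSp_inv (f : V →ₗ[F] V) : (fixSp f).map f ≤ fixSp f := by
  rintro _ ⟨v, hv, rfl⟩
  rw [mem_fixSp.1 hv]; exact hv

/-- the decomposition: fixed space and free part -/
theorem exists_free_part {f : V →ₗ[F] V} {r : ℕ} [hr : Fact r.Prime] (hr0 : (r : F) ≠ 0)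
    (hf : ∀ v, (f ^ r) v = v) {W : Submodule F V} (hW : W.map f ≤ W) :
    ∃ D : Submodule F V, D ≤ W ∧ Disjoint (fixSp f ⊓ W) D ∧ Disjoint (fixSp f) D ∧
      Homog f (orderOf ((Fintype.card F : ℕ) : ZMod r)) D ∧
      finrank F ↥(fixSp f ⊓ W) + finrank F D = finrank F W := by
  have hss : Module.End.IsSemisimple f := isSemisimple_of_pow (c := 1) (fun v => by rw [hf, one_smul]) hr0 one_ne_zero
  obtain ⟨D, hD, hDW, hd, -, hsum⟩ := exists_compl hss (inv_inf (fixSp_inv f) hW) hW inf_le_right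
  have hd' : Disjoint (fixSp f) D := by
    rw [Submodule.disjoint_def] at hd ⊢
    exact fun v hv hvD => hd v ⟨hv, hDW hvD⟩ hvD
  refine ⟨D, hDW, hd, hd', homog_of_free hr0 hD (fun v _ => hf v) fun v hv hfv => ?_, hsum⟩
  exact Submodule.disjoint_def.1 hd' v (mem_fixSp.2 hfv) hv

/-- dimensions of invariant subspaces -/
theorem dim_of_inv {f : V →ₗ[F] V} {r : ℕ} [hr : Fact r.Prime] (hr0 : (r : F) ≠ 0)
    (hf : ∀ v, (f ^ r) v = v) {W : Submodule F V} (hW : W.map f ≤ W) :
    ∃ t j : ℕ, finrank F W = t + j * orderOf ((Fintype.card F : ℕ) : ZMod r) ∧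
      t ≤ finrank F (fixSp f) ∧
      finrank F (fixSp f) + j * orderOf ((Fintype.card F : ℕ) : ZMod r) ≤ finrank F V := by
  obtain ⟨D, -, -, hd', hD, hsum⟩ := exists_free_part hr0 hf hW
  obtain ⟨j, hj⟩ := hD.dvd D hD.inv le_rfl
  refine ⟨_, j, by rw [← hsum, hj, mul_comm j], Submodule.finrank_mono inf_le_left, ?_⟩
  rw [mul_comm j, ← hj, ← finrank_sup_of_disjoint hd']
  exact Submodule.finrank_le _

/-- two disjoint invariant subspaces with prescribed shapes -/
theorem exists_pair_inv {f : V →ₗ[F] V} {r : ℕ} [hr : Fact r.Prime] (hr0 : (r : F) ≠ 0)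
    (hf : ∀ v, (f ^ r) v = v) {t t' j j' : ℕ} (ht : t + t' ≤ finrank F (fixSp f))
    (hj : finrank F (fixSp f) + (j + j') * orderOf ((Fintype.card F : ℕ) : ZMod r) ≤ finrank F V) :
    ∃ U U' : Submodule F V, U.map f ≤ U ∧ U'.map f ≤ U' ∧ Disjoint U U' ∧
      finrank F U = t + j * orderOf ((Fintype.card F : ℕ) : ZMod r) ∧
      finrank F U' = t' + j' * orderOf ((Fintype.card F : ℕ) : ZMod r) := by
  have hss : Module.End.IsSemisimple f := isSemisimple_of_pow (c := 1) (fun v => by rw [hf, one_smul]) hr0 one_ne_zero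
  obtain ⟨D, -, -, hd', hD, hsum⟩ := exists_free_part hr0 hf (W := ⊤) le_top
  rw [inf_top_eq, finrank_top] at hsum
  obtain ⟨A, A', hA, hA', hAC, hA'C, hdA, hAd, hA'd⟩ :=
    (homog_of_fixed (W := fixSp f) fun v hv => mem_fixSp.1 hv).exists_pair hss (j := t) (j' := t')
      (by rwa [mul_one])
  obtain ⟨B, B', hB, hB', hBD, hB'D, hdB, hBd, hB'd⟩ := hD.exists_pair hss (j := j) (j' := j') (by omega)
  refine ⟨A ⊔ B, A' ⊔ B', inv_sup hA hB, inv_sup hA' hB', ?_, ?_, ?_⟩
  · rw [Submodule.disjoint_def]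
    intro v hv hv'
    obtain ⟨a, ha, b, hb, rfl⟩ := Submodule.mem_sup.1 hv
    obtain ⟨a', ha', b', hb', e⟩ := Submodule.mem_sup.1 hv'
    have h1 : a - a' = b' - b := by rw [sub_eq_sub_iff_add_eq_add, ← e, add_comm b' a']
    have h2 := Submodule.disjoint_def.1 hd' (a - a') (sub_mem (hAC ha) (hA'C ha'))
      (h1 ▸ sub_mem (hB'D hb') (hBD hb))
    rw [h2, eq_comm, sub_eq_zero] at h1
    rw [sub_eq_zero] at h2
    rw [Submodule.disjoint_def.1 hdA a ha (h2 ▸ ha'), Submodule.disjoint_def.1 hdB b hb (h1 ▸ hb'),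
      add_zero]
  · rw [finrank_sup_of_disjoint (hd'.mono hAC hBD), hAd, hBd, mul_one]
  · rw [finrank_sup_of_disjoint (hd'.mono hA'C hB'D), hA'd, hB'd, mul_one]

/-- a flag from a pair of disjoint invariant subspaces -/
theorem exists_flag_of_pair {f : V →ₗ[F] V} (hss : Module.End.IsSemisimple f) {U U' : Submodule F V}
    (hU : U.map f ≤ U) (hU' : U'.map f ≤ U') (hd : Disjoint U U') :
    ∃ W : Submodule F V, W.map f ≤ W ∧ U ≤ W ∧ IsCompl W U' ∧
      finrank F W + finrank F U' = finrank F V := by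
  obtain ⟨Q, hQ, -, hdQ, hsup, -⟩ := exists_compl hss (inv_sup hU hU') (le_top : (⊤ : Submodule F V).map f ≤ ⊤) le_top
  have hc : IsCompl (U ⊔ Q) U' := by
    refine ⟨?_, codisjoint_iff.2 ?_⟩
    · rw [Submodule.disjoint_def]
      intro v hv hvU'
      obtain ⟨u, hu, z, hz, rfl⟩ := Submodule.mem_sup.1 hv
      have hz' : z = 0 := Submodule.disjoint_def.1 hdQ z (by
        have := sub_mem (Submodule.mem_sup_right (S := U) hvU') (Submodule.mem_sup_left (T := U') hu)
        rwa [add_sub_cancel_left] at this) hz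
      rw [hz', add_zero] at hvU' ⊢
      exact Submodule.disjoint_def.1 hd u hu hvU'
    · rw [sup_right_comm, hsup]
  exact ⟨U ⊔ Q, inv_sup hU hQ, le_sup_left, hc, Submodule.finrank_add_eq_of_isCompl hc⟩

end Cfsg.Agent.Forms.Elusive
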