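import Mathlib
import Cfsg.Agent.Lib.Forms.Elusive.Semisimple
import Cfsg.Agent.Lib.Forms.Elusive.Unipotent
import Cfsg.Prelude.Def_GeometricClasses

/-!
# Involutions as monomial maps; block systems of involutions
-/

set_option autoImplicit false
set_option linter.unusedSectionVars false

open Module

namespace Cfsg.Agent.Forms.Elusive

open Cfsg.Agent.Classical.JordanChains

/-- an involution with `k` transpositions -/
theorem cycleType_of_involutive {α : Type*} [Fintype α] [DecidableEq α] (π : Equiv.Perm α)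
    (hπ : ∀ a, π (π a) = a) : π.cycleType = Multiset.replicate (π.support.card / 2) 2 := by
  have hsq : π ^ 2 = 1 := Equiv.ext fun a => by rw [pow_two]; exact hπ a
  have h2 : ∀ n ∈ π.cycleType, n = 2 := fun n hn =>
    le_antisymm (Nat.le_of_dvd two_pos ((Equiv.Perm.dvd_of_mem_cycleType hn).trans
      (orderOf_dvd_of_pow_eq_one hsq))) (Equiv.Perm.two_le_of_mem_cycleType hn)
  have h3 := π.sum_cycleType
  rw [Multiset.eq_replicate_card.2 h2, Multiset.sum_replicate, smul_eq_mul] at h3
  refine Multiset.eq_replicate.2 ⟨?_, h2⟩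
  omega

/-- flip the last bit -/
def flip2 (x : ℕ) : ℕ := if x % 2 = 0 then x + 1 else x - 1

theorem flip2_flip2 (x : ℕ) : flip2 (flip2 x) = x := by unfold flip2; split_ifs <;> omega

/-- a block-preserving involution with `k` transpositions on `Fin t × Fin a` -/
theorem exists_block_involution (a t k : ℕ) (hk : 2 * k ≤ t * a) :
    ∃ (τ : Equiv.Perm (Fin t × Fin a)) (σ : Equiv.Perm (Fin t)), (∀ x, τ (τ x) = x) ∧
      (∀ x, (τ x).1 = σ x.1) ∧ τ.support.card = 2 * k := by
  classical
  -- `h`: the even part of `a`; `s`: the number of swapped pairs of blocks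
  obtain ⟨g, hg⟩ : ∃ g, g = a / 2 := ⟨_, rfl⟩
  obtain ⟨h, hh⟩ : ∃ h, h = 2 * g := ⟨_, rfl⟩
  obtain ⟨s, k', hs, hk', hsum⟩ : ∃ s k', 2 * s ≤ t ∧ 2 * k' ≤ (t - 2 * s) * h ∧ s * a + k' = k := by
    rcases Nat.mod_two_eq_zero_or_one a with ha | ha
    · refine ⟨0, k, by omega, ?_, by omega⟩
      rw [show h = a by omega, Nat.mul_zero, Nat.sub_zero]
      exact hk
    · obtain rfl : a = 2 * g + 1 := by omega
      have e1 : t * (2 * g + 1) = 2 * (t * g) + t := by ring
      rw [e1] at hk
      by_cases hle : k ≤ t * g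
      · refine ⟨0, k, by omega, ?_, by omega⟩
        rw [hh, Nat.mul_zero, Nat.sub_zero, ← mul_assoc, mul_comm t 2, mul_assoc]
        omega
      · obtain ⟨s, rfl⟩ : ∃ s, k = t * g + s := ⟨k - t * g, by omega⟩
        obtain ⟨u, rfl⟩ : ∃ u, t = 2 * s + u := ⟨t - 2 * s, by omega⟩
        refine ⟨s, u * g, by omega, ?_, by ring⟩
        rw [Nat.add_sub_cancel_left, hh]
        exact (le_of_eq (by ring))
  have hha : h ≤ a := by omega
  let F1 : Fin t × Fin a → ℕ := fun x => if (x.1 : ℕ) < 2 * s then flip2 x.1 else x.1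
  let C : Fin t × Fin a → Prop := fun x => ¬ (x.1 : ℕ) < 2 * s ∧ (x.2 : ℕ) < h ∧
    ((x.1 : ℕ) - 2 * s) * h + x.2 < 2 * k'
  let F2 : Fin t × Fin a → ℕ := fun x => if C x then flip2 x.2 else x.2
  have hpar : ∀ j : ℕ, j * h % 2 = 0 := fun j => by rw [hh]; simp [Nat.mul_mod]
  have b1 : ∀ x, F1 x < t := fun x => by
    have := x.1.2
    simp only [F1, flip2]
    split_ifs <;> omega
  have b2 : ∀ x, F2 x < a := fun x => by
    have := x.2.2
    simp only [F2, flip2, C]
    split_ifs <;> omega
  let f : Fin t × Fin a → Fin t × Fin a := fun x => (⟨F1 x, b1 x⟩, ⟨F2 x, b2 x⟩)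
  have hfj : ∀ x, ((f x).1 : ℕ) < 2 * s ↔ (x.1 : ℕ) < 2 * s := fun x => by
    show F1 x < 2 * s ↔ _
    simp only [F1, flip2]
    split_ifs <;> omega
  have hfC : ∀ x, C (f x) ↔ C x := fun x => by
    by_cases hj : (x.1 : ℕ) < 2 * s
    · exact iff_of_false (fun hc => hc.1 ((hfj x).2 hj)) (fun hc => hc.1 hj)
    · show (¬ F1 x < 2 * s ∧ F2 x < h ∧ (F1 x - 2 * s) * h + F2 x < 2 * k') ↔ _
      have e : F1 x = (x.1 : ℕ) := if_neg hj
      rw [e]
      simp only [F2, C, flip2]
      have := hpar ((x.1 : ℕ) - 2 * s)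
      generalize ((x.1 : ℕ) - 2 * s) * h = P at this ⊢
      split_ifs <;> omega
  have hinv : ∀ x, f (f x) = x := by
    intro x
    refine Prod.ext (Fin.ext ?_) (Fin.ext ?_)
    · show (if ((f x).1 : ℕ) < 2 * s then flip2 ((f x).1 : ℕ) else ((f x).1 : ℕ)) = _
      by_cases hj : (x.1 : ℕ) < 2 * s
      · rw [if_pos ((hfj x).2 hj)]
        show flip2 (F1 x) = _
        simp only [F1, if_pos hj, flip2_flip2]
      · rw [if_neg (mt (hfj x).1 hj)]
        exact if_neg hj
    · show (if C (f x) then flip2 ((f x).2 : ℕ) else ((f x).2 : ℕ)) = _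
      by_cases hc : C x
      · rw [if_pos ((hfC x).2 hc)]
        show flip2 (F2 x) = _
        simp only [F2, if_pos hc, flip2_flip2]
      · rw [if_neg (mt (hfC x).1 hc)]
        exact if_neg hc
  let σ : Fin t → Fin t := fun j => ⟨if (j : ℕ) < 2 * s then flip2 j else j, by
    have := j.2; simp only [flip2]; split_ifs <;> omega⟩
  have hσ : Function.Involutive σ := fun j => by
    refine Fin.ext ?_
    show (if (σ j : ℕ) < 2 * s then flip2 (σ j) else (σ j : ℕ)) = j
    simp only [σ, flip2]
    split_ifs <;> omega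
  refine ⟨Function.Involutive.toPerm f hinv, hσ.toPerm, hinv, fun x => rfl, ?_⟩
  have hsupp : (Function.Involutive.toPerm f hinv).support =
      (Finset.univ.filter fun x : Fin t × Fin a => (x.1 : ℕ) < 2 * s) ∪ Finset.univ.filter C := by
    ext x
    simp only [Equiv.Perm.mem_support, Finset.mem_union, Finset.mem_filter, Finset.mem_univ, true_and,
      Function.Involutive.coe_toPerm, Ne, Prod.ext_iff, Fin.ext_iff]
    show ¬ (F1 x = (x.1 : ℕ) ∧ F2 x = (x.2 : ℕ)) ↔ _
    simp only [F1, F2, flip2]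
    by_cases hj : (x.1 : ℕ) < 2 * s
    · simp only [hj, if_true, true_or, iff_true]
      split_ifs <;> omega
    · simp only [hj, if_false, false_or, true_and]
      by_cases hc : C x
      · simp only [hc, if_true, iff_true]; split_ifs <;> omega
      · simp [hc]
  have hd : Disjoint (Finset.univ.filter fun x : Fin t × Fin a => (x.1 : ℕ) < 2 * s) (Finset.univ.filter C) :=
    Finset.disjoint_filter.2 fun x _ hx hc => hc.1 hx
  rw [hsupp, Finset.card_union_of_disjoint hd]
  have h1 : (Finset.univ.filter fun x : Fin t × Fin a => (x.1 : ℕ) < 2 * s).card = 2 * s * a := by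
    have e : (Finset.univ.filter fun x : Fin t × Fin a => (x.1 : ℕ) < 2 * s) =
        (Finset.univ.filter fun j : Fin t => (j : ℕ) < 2 * s) ×ˢ (Finset.univ : Finset (Fin a)) := by
      ext x; simp
    rw [e, Finset.card_product, Finset.card_univ, Fintype.card_fin, Fin.card_filter_val_lt,
      min_eq_right hs]
  have h2 : (Finset.univ.filter C).card = 2 * k' := by
    have hpos : ∀ l : Fin (2 * k'), 0 < h := fun l => by
      rcases Nat.eq_zero_or_pos h with h0 | h0
      · have := l.2; rw [h0, Nat.mul_zero] at hk'; omega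
      · exact h0
    have hk0 : ∀ x ∈ Finset.univ.filter C, 0 < 2 * k' := fun x hx => by
      have := (Finset.mem_filter.1 hx).2.2.2; omega
    refine Eq.trans (Finset.card_bij' (t := (Finset.univ : Finset (Fin (2 * k'))))
      (fun x hx => (⟨(((x.1 : ℕ) - 2 * s) * h + x.2) % (2 * k'), Nat.mod_lt _ (hk0 x hx)⟩ : Fin (2 * k')))
      (fun l _ => (⟨2 * s + (l : ℕ) / h, ?_⟩, ⟨(l : ℕ) % h, (Nat.mod_lt _ (hpos l)).trans_le hha⟩))
      (fun _ _ => Finset.mem_univ _) ?_ ?_ ?_) (by rw [Finset.card_univ, Fintype.card_fin])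
    · have h3 : (l : ℕ) / h < t - 2 * s :=
        Nat.div_lt_of_lt_mul (lt_of_lt_of_eq (l.2.trans_le hk') (mul_comm _ _))
      omega
    · intro l _
      simp only [Finset.mem_filter, Finset.mem_univ, true_and, C]
      refine ⟨Nat.not_lt.2 (Nat.le_add_right _ _), Nat.mod_lt _ (hpos l), ?_⟩
      rw [Nat.add_sub_cancel_left, Nat.div_add_mod']
      exact l.2
    · intro x hx
      obtain ⟨hc1, hc2, hc3⟩ := (Finset.mem_filter.1 hx).2
      refine Prod.ext (Fin.ext ?_) (Fin.ext ?_)
      · show 2 * s + (((x.1 : ℕ) - 2 * s) * h + x.2) % (2 * k') / h = x.1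
        rw [Nat.mod_eq_of_lt hc3, Nat.add_comm _ (x.2 : ℕ), Nat.add_mul_div_right _ _ (by omega),
          Nat.div_eq_of_lt hc2]
        omega
      · show (((x.1 : ℕ) - 2 * s) * h + x.2) % (2 * k') % h = x.2
        rw [Nat.mod_eq_of_lt hc3, Nat.add_comm _ (x.2 : ℕ), Nat.add_mul_mod_self_right,
          Nat.mod_eq_of_lt hc2]
    · intro l _
      refine Fin.ext ?_
      show (((2 * s + (l : ℕ) / h) - 2 * s) * h + (l : ℕ) % h) % (2 * k') = l
      rw [Nat.add_sub_cancel_left, Nat.div_add_mod', Nat.mod_eq_of_lt l.2]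
  rw [h1, h2, ← hsum]
  ring

/-- a colouring of an involution with colour classes of size `a` -/
theorem exists_colouring {ι : Type*} [Fintype ι] [DecidableEq ι] (π : Equiv.Perm ι)
    (hπ : ∀ x, π (π x) = x) (a t : ℕ) (hn : Fintype.card ι = t * a) :
    ∃ (c : ι → Fin t) (σ : Equiv.Perm (Fin t)),
      (∀ j, Nat.card {x // c x = j} = a) ∧ ∀ x, c (π x) = σ (c x) := by
  classical
  obtain ⟨τ, σ, hτ, hτσ, hcard⟩ := exists_block_involution a t (π.support.card / 2) (by
    rw [← hn]; exact (Nat.mul_div_le _ 2).trans (Finset.card_le_univ _))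
  let e : ι ≃ Fin t × Fin a := Fintype.equivOfCardEq (by simp [hn])
  let π' : Equiv.Perm (Fin t × Fin a) := e.permCongr π
  have hπ' : ∀ x, π' (π' x) = x := fun x => by simp [π', hπ]
  have hsupp : π'.support.card = π.support.card := by
    rw [← Fintype.card_coe, ← Fintype.card_coe]
    refine Fintype.card_congr ((e.symm.subtypeEquiv fun x => ?_))
    simp [π', Equiv.eq_symm_apply]
  obtain ⟨d, hd⟩ := isConj_iff.1 (Equiv.Perm.isConj_iff_cycleType_eq.2
    (show π'.cycleType = τ.cycleType by
      rw [cycleType_of_involutive _ hπ', cycleType_of_involutive _ hτ, hsupp, hcard,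
        Nat.mul_div_cancel_left _ two_pos]))
  refine ⟨fun x => (d (e x)).1, σ, fun j => ?_, fun x => ?_⟩
  · rw [Nat.card_congr ((e.trans d).subtypeEquiv (p := fun x => (d (e x)).1 = j)
      (q := fun z => z.1 = j) fun x => Iff.rfl)]
    rw [Nat.card_congr
      { toFun := fun z : {z : Fin t × Fin a // z.1 = j} => z.1.2
        invFun := fun i => ⟨(j, i), rfl⟩
        left_inv := fun z => Subtype.ext (Prod.ext z.2.symm rfl)
        right_inv := fun i => rfl }, Nat.card_fin]
  · show (d (e (π x))).1 = σ (d (e x)).1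
    have h1 : d (π' (e x)) = τ (d (e x)) := by
      rw [← hd]; simp
    rw [show π' (e x) = e (π x) by simp [π']] at h1
    rw [h1, hτσ]

variable {F : Type*} [Field F] {V : Type*} [AddCommGroup V] [Module F V]

/-- a monomial map permutes a decomposition -/
theorem exists_decomp {n : ℕ} {ι : Type*} [Fintype ι] [DecidableEq ι] (b : Basis ι F (Fin n → F))
    (f : (Fin n → F) →ₗ[F] (Fin n → F)) (π : Equiv.Perm ι) (hπ : ∀ x, π (π x) = x)
    (hf : ∀ i, ∃ c : F, c ≠ 0 ∧ f (b i) = c • b (π i)) (a t : ℕ) (hat : n = a * t) (ha : 0 < a)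
    (ht : 2 ≤ t) :
    ∃ D : Fin t → Submodule F (Fin n → F), Cfsg.Geo.IsMDecomposition a D ∧
      ∃ σ : Equiv.Perm (Fin t), ∀ j, (D j).map f = D (σ j) := by
  classical
  have hn : Fintype.card ι = t * a := by
    rw [← finrank_eq_card_basis b, finrank_fin_fun, hat, mul_comm]
  obtain ⟨c, σ, hc, hcσ⟩ := exists_colouring π hπ a t hn
  let D : Fin t → Submodule F (Fin n → F) := fun j => Submodule.span F (b '' {i | c i = j})
  refine ⟨D, ⟨ht, ha, fun j => ?_, ?_, ?_⟩, σ, fun j => ?_⟩
  · show finrank F (Submodule.span F (b '' {i | c i = j})) = a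
    rw [Set.image_eq_range]
    refine (finrank_span_eq_card (b.linearIndependent.comp _ Subtype.val_injective)).trans ?_
    rw [← hc j, Nat.card_eq_fintype_card]
    rfl
  · refine iSupIndep_def.2 fun j => ?_
    refine Disjoint.mono_right ?_ (b.linearIndependent.disjoint_span_image
      (s := {i | c i = j}) (t := {i | c i ≠ j}) (Set.disjoint_left.2 fun i hi hi' => hi' hi))
    refine iSup₂_le fun l hl => Submodule.span_mono (Set.image_mono fun i hi => ?_)
    show c i ≠ j
    rw [show c i = l from hi]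
    exact hl
  · rw [eq_top_iff, ← b.span_eq, Submodule.span_le]
    rintro _ ⟨i, rfl⟩
    exact (le_iSup D (c i)) (Submodule.subset_span ⟨i, rfl, rfl⟩)
  · refine le_antisymm ?_ ?_
    · rw [Submodule.map_span, Submodule.span_le]
      rintro _ ⟨_, ⟨i, hi, rfl⟩, rfl⟩
      obtain ⟨z, -, hz⟩ := hf i
      rw [hz]
      exact Submodule.smul_mem _ _ (Submodule.subset_span ⟨π i, by
        show c (π i) = σ j; rw [hcσ, show c i = j from hi], rfl⟩)
    · rw [Submodule.span_le]
      rintro _ ⟨i, hi, rfl⟩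
      obtain ⟨z, hz0, hz⟩ := hf (π i)
      rw [hπ] at hz
      refine ⟨z⁻¹ • b (π i), Submodule.smul_mem _ _ (Submodule.subset_span ⟨π i, ?_, rfl⟩), ?_⟩
      · show c (π i) = j
        have h1 := hcσ (π i)
        rw [hπ, show c i = σ j from hi] at h1
        exact (σ.injective h1).symm
      · rw [map_smul, hz, inv_smul_smul₀ hz0]

variable [FiniteDimensional F V] [Fintype F]

/-- a fixed-point-free involution up to a non-square scalar -/
theorem exists_pairs {f : V →ₗ[F] V} (hss : Module.End.IsSemisimple f) {z : F}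
    (hf : ∀ v, f (f v) = z • v) (hz : ∀ d : F, d * d ≠ z) :
    ∀ (W : Submodule F V), W.map f ≤ W →
      ∃ (k : ℕ) (v : Fin k → V), LinearIndependent F (Sum.elim v fun i => f (v i)) ∧
        Submodule.span F (Set.range (Sum.elim v fun i => f (v i))) = W := by
  intro W
  induction hW : finrank F W using Nat.strong_induction_on generalizing W with
  | _ m ih =>
    intro hinv
    by_cases hb : W = ⊥
    · subst hb
      exact ⟨0, Fin.elim0, linearIndependent_empty_type, by
        rw [Set.range_eq_empty, Submodule.span_empty]⟩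
    obtain ⟨v, hv, hv0⟩ := W.exists_mem_ne_zero_of_ne_bot hb
    set P := Submodule.span F (Set.range (Sum.elim (fun _ : Fin 1 => v) fun _ => f v)) with hP
    have hli : LinearIndependent F (Sum.elim (fun _ : Fin 1 => v) fun _ : Fin 1 => f v) := by
      rw [Fintype.linearIndependent_iff]
      intro g hg
      simp only [Fintype.sum_sum_type, Finset.univ_unique, Finset.sum_singleton, Sum.elim_inl,
        Sum.elim_inr] at hg
      by_cases hb' : g (Sum.inr default) = 0
      · rw [hb', zero_smul, add_zero, smul_eq_zero] at hg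
        rintro (i | i) <;> rw [Subsingleton.elim i default]
        · exact hg.resolve_right hv0
        · exact hb'
      · exfalso
        set μ := -(g (Sum.inl default) / g (Sum.inr default)) with hμ
        have e : f v = μ • v := by
          rw [hμ, neg_smul, div_eq_inv_mul, mul_smul, eq_neg_iff_add_eq_zero, add_comm]
          have := congrArg (fun u => (g (Sum.inr default))⁻¹ • u) hg
          simpa only [smul_add, smul_zero, inv_smul_smul₀ hb'] using this
        have := hf v
        rw [e, map_smul, e, smul_smul] at this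
        exact hz μ (smul_left_injective F hv0 this)
    have hPinv : P.map f ≤ P := by
      rw [hP, Submodule.map_span, Submodule.span_le]
      rintro _ ⟨_, ⟨i | i, rfl⟩, rfl⟩
      · exact Submodule.subset_span ⟨Sum.inr i, rfl⟩
      · show f (f v) ∈ P
        rw [hf]
        exact Submodule.smul_mem _ _ (Submodule.subset_span ⟨Sum.inl i, rfl⟩)
    have hPW : P ≤ W := by
      rw [hP, Submodule.span_le]
      rintro _ ⟨i | i, rfl⟩
      · exact hv
      · exact hinv ⟨v, hv, rfl⟩
    have hPd : finrank F P = 2 := by rw [hP, finrank_span_eq_card hli]; simp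
    obtain ⟨Q, hQ, -, hd, hsup, hsum⟩ := exists_compl hss hPinv hinv hPW
    obtain ⟨k, w, hwli, hwspan⟩ := ih (finrank F Q) (by omega) Q rfl hQ
    have e1 : Submodule.span F (Set.range (Sum.elim w fun i => f (w i))) = Q := hwspan
    let u : Fin (k + 1) → V := Fin.cons v w
    let φ : (Fin 1 ⊕ Fin 1) ⊕ (Fin k ⊕ Fin k) → Fin (k + 1) ⊕ Fin (k + 1) :=
      Sum.elim (Sum.map (fun _ => 0) fun _ => 0) (Sum.map Fin.succ Fin.succ)
    have hφ : Function.Bijective φ := by
      refine (Fintype.bijective_iff_surjective_and_card φ).2 ⟨?_, by simp; omega⟩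
      rintro (i | i) <;> refine Fin.cases ?_ (fun j => ?_) i
      exacts [⟨Sum.inl (Sum.inl 0), rfl⟩, ⟨Sum.inr (Sum.inl j), rfl⟩,
        ⟨Sum.inl (Sum.inr 0), rfl⟩, ⟨Sum.inr (Sum.inr j), rfl⟩]
    have hcomp : (Sum.elim u fun i => f (u i)) ∘ φ =
        Sum.elim (Sum.elim (fun _ : Fin 1 => v) fun _ => f v) (Sum.elim w fun i => f (w i)) := by
      funext i
      rcases i with (i | i) | (i | i) <;> simp [φ, u]
    refine ⟨k + 1, u, ?_, ?_⟩
    · rw [← linearIndependent_equiv (Equiv.ofBijective φ hφ)]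
      show LinearIndependent F ((Sum.elim u fun i => f (u i)) ∘ φ)
      rw [hcomp]
      exact hli.sum_type hwli (by rw [e1, ← hP]; exact hd)
    · rw [← hφ.2.range_comp, hcomp, Set.Sum.elim_range, Submodule.span_union, e1, ← hP, hsup]

/-- eigenbasis of a map with `f ^ 2 = 1` in odd characteristic -/
theorem exists_eigenbasis {f : V →ₗ[F] V} (h2 : (2 : F) ≠ 0) (hf : ∀ v, f (f v) = v) :
    ∃ b : Basis (Fin (finrank F (fixSp f)) ⊕ Fin (finrank F (fixSp (-f)))) F V,
      ∀ i, ∃ c : F, c ≠ 0 ∧ f (b i) = c • b i := by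
  have hc : IsCompl (fixSp f) (fixSp (-f)) := by
    refine ⟨?_, codisjoint_iff.2 (eq_top_iff.2 fun v _ => ?_)⟩
    · rw [Submodule.disjoint_def]
      intro v h1 h2'
      rw [mem_fixSp] at h1 h2'
      rw [LinearMap.neg_apply, h1, neg_eq_iff_add_eq_zero, ← two_smul F v, smul_eq_zero] at h2'
      exact h2'.resolve_left h2
    · rw [Submodule.mem_sup]
      refine ⟨(2 : F)⁻¹ • (v + f v), Submodule.smul_mem _ _ (mem_fixSp.2 ?_), (2 : F)⁻¹ • (v - f v),
        Submodule.smul_mem _ _ (mem_fixSp.2 ?_), ?_⟩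
      · rw [map_add, hf, add_comm]
      · rw [LinearMap.neg_apply, map_sub, hf, neg_sub]
      · rw [← smul_add, add_add_sub_cancel, ← two_smul F v, inv_smul_smul₀ h2]
  refine ⟨((Module.finBasis F (fixSp f)).prod (Module.finBasis F (fixSp (-f)))).map
    (Submodule.prodEquivOfIsCompl _ _ hc), ?_⟩
  rintro (i | i)
  · refine ⟨1, one_ne_zero, ?_⟩
    simp [mem_fixSp.1 ((Module.finBasis F (fixSp f)) i).2]
  · refine ⟨-1, neg_ne_zero.2 one_ne_zero, ?_⟩
    have h := mem_fixSp.1 ((Module.finBasis F (fixSp (-f))) i).2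
    rw [LinearMap.neg_apply, neg_eq_iff_eq_neg] at h
    simp [h]

/-- monomial basis of a map squaring to one in characteristic two -/
theorem exists_perm_basis [CharP F 2] {f : V →ₗ[F] V} (hf : ∀ v, f (f v) = v) :
    ∃ (t : ℕ) (d : Fin t → ℕ) (b : Basis (Idx d) F V) (π : Equiv.Perm (Idx d)),
      (∀ x, π (π x) = x) ∧ ∀ i, f (b i) = b (π i) := by
  classical
  set N : V →ₗ[F] V := f - 1 with hN
  have hadd : ∀ x : V, x + x = 0 := fun x => by
    rw [← two_smul F x, CharTwo.two_eq_zero, zero_smul]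
  have hNN : N ^ 2 = 0 := LinearMap.ext fun v => by
    rw [pow_two, Module.End.mul_apply, hN]
    simp only [LinearMap.sub_apply, Module.End.one_apply, map_sub, hf, LinearMap.zero_apply]
    rw [sub_sub_sub_eq, add_comm v v]
    exact sub_eq_zero.2 (by rw [hadd, hadd])
  obtain ⟨t, d, v, hch⟩ := exists_chains N ⟨2, hNN⟩
  have hd : ∀ k, d k ≤ 2 := (hch.pow_eq_zero_iff 2).1 hNN
  -- replace the second vector of every chain by the image of the first
  let w : Idx d → V := fun i => if (i.2 : ℕ) = 0 then v i.1 else f (v i.1)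
  have hspan : ⊤ ≤ Submodule.span F (Set.range w) := by
    refine le_trans hch.span (Submodule.span_le.2 ?_)
    rintro _ ⟨⟨k, j⟩, rfl⟩
    have hj : (j : ℕ) < 2 := j.2.trans_le (hd k)
    have hv : v k ∈ Submodule.span F (Set.range w) :=
      Submodule.subset_span ⟨⟨k, ⟨0, hch.pos k⟩⟩, by simp [w]⟩
    interval_cases h : (j : ℕ)
    · show (N ^ (j : ℕ)) (v k) ∈ _
      rw [h, pow_zero]
      exact hv
    · show (N ^ (j : ℕ)) (v k) ∈ _
      rw [h, pow_one, hN, LinearMap.sub_apply, Module.End.one_apply]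
      exact sub_mem (Submodule.subset_span ⟨⟨k, j⟩, by simp [w, h]⟩) hv
  have hcard : Fintype.card (Idx d) = finrank F V := by
    rw [hch.finrank_eq, Fintype.card_sigma]; simp
  let b := basisOfTopLeSpanOfCardEqFinrank w hspan hcard
  have hb : ∀ i, b i = w i := fun i => by
    simp [b, coe_basisOfTopLeSpanOfCardEqFinrank]
  let g : Idx d → Idx d := fun i =>
    if h : d i.1 = 2 then ⟨i.1, ⟨1 - (i.2 : ℕ), by omega⟩⟩ else i
  have hg : ∀ i, g (g i) = i := by
    rintro ⟨k, j⟩
    by_cases h : d k = 2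
    · simp only [g, dif_pos h, Sigma.mk.injEq, heq_eq_eq, true_and]
      exact Fin.ext (by have := j.2; simp only; omega)
    · simp [g, dif_neg h]
  refine ⟨t, d, b, Function.Involutive.toPerm g hg, hg, fun i => ?_⟩
  rw [hb, hb]
  show f (w i) = w (g i)
  obtain ⟨k, j⟩ := i
  by_cases h : d k = 2
  · have hj : (j : ℕ) < 2 := by have := j.2; omega
    simp only [g, dif_pos h, w]
    rcases Nat.lt_or_ge (j : ℕ) 1 with hj0 | hj0
    · rw [if_pos (by omega), if_neg (by omega)]
    · rw [if_neg (by omega), if_pos (by omega), hf]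
  · have h1 : d k = 1 := by have := hch.pos k; have := hd k; omega
    have hj : (j : ℕ) = 0 := by have := j.2; omega
    simp only [g, dif_neg h, w, if_pos hj]
    have := hch.kill k
    rw [h1, pow_one, hN, LinearMap.sub_apply, Module.End.one_apply, sub_eq_zero] at this
    exact this

end Cfsg.Agent.Forms.Elusive
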