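import Mathlib

/-!
# Lagrangian pairs fixed or interchanged by an isometry
-/

set_option autoImplicit false
set_option linter.unusedSectionVars false

open Module

namespace Cfsg.Agent.Forms.Elusive

variable {F : Type*} [Field F] {V : Type*} [AddCommGroup V] [Module F V] [FiniteDimensional F V]
  {B : LinearMap.BilinForm F V} {x : V →ₗ[F] V}

/-- `v`, `w` span a hyperbolic line whose two points are fixed or interchanged -/
def SplitStep (B : LinearMap.BilinForm F V) (x : V →ₗ[F] V) (sw : Bool) (W : Submodule F V) : Prop :=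
  ∃ v ∈ W, ∃ w ∈ W, B v w ≠ 0 ∧ x v ∈ Submodule.span F {if sw then w else v} ∧
    x w ∈ Submodule.span F {if sw then v else w}

/-- nondegenerate invariant subspaces split into isotropic pieces -/
theorem exists_iso_pair (halt : B.IsAlt) (hinj : Function.Injective x)
    (hiso : ∀ u v, B (x u) (x v) = B u v) (sw : Bool)
    (hstep : ∀ W : Submodule F V, W.map x ≤ W → (∀ v ∈ W, v ≠ 0 → ∃ u ∈ W, B v u ≠ 0) → W ≠ ⊥ →
      SplitStep B x sw W) :
    ∀ W : Submodule F V, W.map x ≤ W → (∀ v ∈ W, v ≠ 0 → ∃ u ∈ W, B v u ≠ 0) →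
      ∃ U₁ U₂ : Submodule F V, U₁ ⊔ U₂ = W ∧ (∀ u ∈ U₁, ∀ v ∈ U₁, B u v = 0) ∧
        (∀ u ∈ U₂, ∀ v ∈ U₂, B u v = 0) ∧ U₁.map x ≤ (if sw then U₂ else U₁) ∧
        U₂.map x ≤ (if sw then U₁ else U₂) := by
  intro W
  induction hW : finrank F W using Nat.strong_induction_on generalizing W with
  | _ k ih =>
    intro hinv hnd
    by_cases hb : W = ⊥
    · subst hb
      exact ⟨⊥, ⊥, sup_idem _, by simp, by simp, by simp, by simp⟩
    obtain ⟨v, hv, w, hw, hvw, hxv, hxw⟩ := hstep W hinv hnd hb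
    have hswap : ∀ a b : V, B b a = -B a b := fun a b => (LinearMap.IsAlt.neg halt a b).symm
    set P : Submodule F V := Submodule.span F {v, w} with hP
    have hvP : v ∈ P := Submodule.subset_span (Set.mem_insert _ _)
    have hwP : w ∈ P := Submodule.subset_span (Set.mem_insert_of_mem _ rfl)
    have hPW : P ≤ W := by
      rw [hP, Submodule.span_le, Set.insert_subset_iff, Set.singleton_subset_iff]
      exact ⟨hv, hw⟩
    have hmem : ∀ (b : Bool) (y : V), y ∈ Submodule.span F {if b then w else v} → y ∈ P := by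
      intro b y hy
      refine (Submodule.span_singleton_le_iff_mem _ _).2 ?_ hy
      cases b <;> assumption
    have hPinv : P.map x ≤ P := by
      rw [hP, Submodule.map_span, Submodule.span_le, Set.image_pair, Set.insert_subset_iff,
        Set.singleton_subset_iff]
      refine ⟨hmem sw _ hxv, hmem (!sw) _ ?_⟩
      cases sw <;> exact hxw
    have hPeq : P.map x = P := Submodule.eq_of_le_of_finrank_le hPinv
      (le_of_eq (LinearEquiv.finrank_eq (Submodule.equivMapOfInjective x hinj P)))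
    let Q : Submodule F V := W ⊓ (LinearMap.ker (B v) ⊓ LinearMap.ker (B w))
    have hQmem : ∀ y, y ∈ Q ↔ y ∈ W ∧ B v y = 0 ∧ B w y = 0 := fun y => by
      simp [Q, LinearMap.mem_ker]
    have hPQ : ∀ p ∈ P, ∀ y ∈ Q, B p y = 0 := fun p hp y hy => by
      obtain ⟨a, b, rfl⟩ := Submodule.mem_span_pair.1 hp
      obtain ⟨-, h1, h2⟩ := (hQmem y).1 hy
      simp [h1, h2]
    have hQW : Q ≤ W := inf_le_left
    have hQinv : Q.map x ≤ Q := by
      rintro _ ⟨y, hy, rfl⟩
      refine (hQmem _).2 ⟨hinv ⟨y, hQW hy, rfl⟩, ?_, ?_⟩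
      · rw [← hPeq] at hvP
        obtain ⟨p, hp, e⟩ := hvP
        rw [← e, hiso]
        exact hPQ p hp y hy
      · rw [← hPeq] at hwP
        obtain ⟨p, hp, e⟩ := hwP
        rw [← e, hiso]
        exact hPQ p hp y hy
    have hdec : ∀ u ∈ W, ∃ p ∈ P, ∃ y ∈ Q, u = p + y := fun u hu => by
      refine ⟨(B u w / B v w) • v + (B v u / B v w) • w, ?_, u - ((B u w / B v w) • v + (B v u / B v w) • w),
        (hQmem _).2 ⟨sub_mem hu (add_mem (W.smul_mem _ hv) (W.smul_mem _ hw)), ?_, ?_⟩, by abel⟩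
      · exact add_mem (P.smul_mem _ hvP) (P.smul_mem _ hwP)
      · simp [halt.self_eq_zero, div_mul_cancel₀ _ hvw]
      · simp [halt.self_eq_zero, hswap v w, hswap u w, div_mul_cancel₀ _ hvw]
    have hQnd : ∀ y ∈ Q, y ≠ 0 → ∃ u ∈ Q, B y u ≠ 0 := fun y hy hy0 => by
      obtain ⟨u, hu, hyu⟩ := hnd y (hQW hy) hy0
      obtain ⟨p, hp, z, hz, rfl⟩ := hdec u hu
      refine ⟨z, hz, ?_⟩
      rwa [map_add, hswap p y, hPQ p hp y hy, neg_zero, zero_add] at hyu
    have hlt : finrank F Q < k := by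
      rw [← hW]
      refine Submodule.finrank_lt_finrank_of_lt (lt_of_le_of_ne hQW fun e => ?_)
      exact hvw ((hQmem w).1 (e.symm ▸ hw)).2.1
    obtain ⟨U₁, U₂, hsup, h1, h2, hx1, hx2⟩ := ih _ hlt Q rfl hQinv hQnd
    have hU₁ : U₁ ≤ Q := hsup ▸ le_sup_left
    have hU₂ : U₂ ≤ Q := hsup ▸ le_sup_right
    have hiso' : ∀ (z : V) (U : Submodule F V), z ∈ P → U ≤ Q → (∀ u ∈ U, ∀ v ∈ U, B u v = 0) →
        ∀ a ∈ Submodule.span F {z} ⊔ U, ∀ b ∈ Submodule.span F {z} ⊔ U, B a b = 0 := by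
      intro z U hz hU hUiso a ha b hb'
      obtain ⟨a₁, ha₁, a₂, ha₂, rfl⟩ := Submodule.mem_sup.1 ha
      obtain ⟨b₁, hb₁, b₂, hb₂, rfl⟩ := Submodule.mem_sup.1 hb'
      obtain ⟨α, rfl⟩ := Submodule.mem_span_singleton.1 ha₁
      obtain ⟨β, rfl⟩ := Submodule.mem_span_singleton.1 hb₁
      simp [halt.self_eq_zero, hPQ z hz b₂ (hU hb₂), hswap z a₂, hPQ z hz a₂ (hU ha₂), hUiso a₂ ha₂ b₂ hb₂]
    refine ⟨Submodule.span F {v} ⊔ U₁, Submodule.span F {w} ⊔ U₂, ?_, hiso' v U₁ hvP hU₁ h1,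
      hiso' w U₂ hwP hU₂ h2, ?_, ?_⟩
    · rw [sup_sup_sup_comm, hsup, ← Submodule.span_union, Set.singleton_union, ← hP]
      exact le_antisymm (sup_le hPW hQW) fun u hu => by
        obtain ⟨p, hp, y, hy, rfl⟩ := hdec u hu
        exact Submodule.add_mem_sup hp hy
    all_goals rw [Submodule.map_sup, Submodule.map_span, Set.image_singleton, sup_le_iff,
      Submodule.span_singleton_le_iff_mem]
    · cases sw
      · exact ⟨le_sup_left (a := Submodule.span F {v}) hxv, hx1.trans le_sup_right⟩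
      · exact ⟨le_sup_left (a := Submodule.span F {w}) hxv, hx1.trans le_sup_right⟩
    · cases sw
      · exact ⟨le_sup_left (a := Submodule.span F {w}) hxw, hx2.trans le_sup_right⟩
      · exact ⟨le_sup_left (a := Submodule.span F {v}) hxw, hx2.trans le_sup_right⟩

/-- the step for an isometry squaring to one -/
theorem step_of_sq_one (h2 : (2 : F) ≠ 0) (hiso : ∀ u v, B (x u) (x v) = B u v)
    (hx : ∀ v, x (x v) = v) (W : Submodule F V) (hinv : W.map x ≤ W)
    (hnd : ∀ v ∈ W, v ≠ 0 → ∃ u ∈ W, B v u ≠ 0) (hb : W ≠ ⊥) : SplitStep B x false W := by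
  obtain ⟨v₀, hv₀, hv₀0⟩ := W.exists_mem_ne_zero_of_ne_bot hb
  obtain ⟨ε, v, hε, hv, hv0, hxv⟩ : ∃ ε : F, ∃ v : V, ε * ε = 1 ∧ v ∈ W ∧ v ≠ 0 ∧ x v = ε • v := by
    by_cases h : v₀ + x v₀ = 0
    · refine ⟨-1, v₀, by ring, hv₀, hv₀0, ?_⟩
      rw [neg_one_smul]
      exact eq_neg_of_add_eq_zero_right h
    · exact ⟨1, v₀ + x v₀, by ring, add_mem hv₀ (hinv ⟨v₀, hv₀, rfl⟩), h, by
        rw [one_smul, map_add, hx, add_comm]⟩
  obtain ⟨u, hu, hvu⟩ := hnd v hv hv0
  refine ⟨v, hv, u + ε • x u, add_mem hu (W.smul_mem _ (hinv ⟨u, hu, rfl⟩)), ?_, ?_, ?_⟩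
  · have e : B v (x u) = ε * B v u := by
      have := hiso v (x u)
      rw [hx, hxv, map_smul, LinearMap.smul_apply, smul_eq_mul] at this
      exact this.symm
    rw [map_add, map_smul, smul_eq_mul, e, ← mul_assoc, hε, one_mul, ← two_mul]
    exact mul_ne_zero h2 hvu
  · exact Submodule.mem_span_singleton.2 ⟨ε, by simp [hxv]⟩
  · refine Submodule.mem_span_singleton.2 ⟨ε, ?_⟩
    simp only [Bool.false_eq_true, if_false, smul_add, smul_smul, hε, one_smul, map_add, map_smul, hx]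
    abel

/-- the step for an isometry squaring to minus one -/
theorem step_of_sq_neg_one (h2 : (2 : F) ≠ 0) (halt : B.IsAlt) (hiso : ∀ u v, B (x u) (x v) = B u v)
    (hx : ∀ v, x (x v) = -v) (W : Submodule F V) (hinv : W.map x ≤ W)
    (hnd : ∀ v ∈ W, v ≠ 0 → ∃ u ∈ W, B v u ≠ 0) (hb : W ≠ ⊥) : SplitStep B x true W := by
  obtain ⟨v₀, hv₀, hv₀0⟩ := W.exists_mem_ne_zero_of_ne_bot hb
  obtain ⟨v, hv, hvx⟩ : ∃ v ∈ W, B v (x v) ≠ 0 := by
    by_contra hcon
    push Not at hcon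
    have h0 : ∀ a ∈ W, ∀ b ∈ W, B a (x b) = 0 := fun a ha b hb' => by
      have h := hcon (a + b) (add_mem ha hb')
      have e : B b (x a) = B a (x b) := by
        have := hiso b (x a)
        rw [hx, map_neg] at this
        rw [← this]
        exact LinearMap.IsAlt.neg halt (x b) a
      simp only [map_add, LinearMap.add_apply, hcon a ha, hcon b hb', e, zero_add, add_zero] at h
      rw [← two_mul] at h
      exact (mul_eq_zero.1 h).resolve_left h2
    obtain ⟨u, hu, hvu⟩ := hnd v₀ hv₀ hv₀0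
    refine hvu ?_
    have := h0 v₀ hv₀ (x u) (hinv ⟨u, hu, rfl⟩)
    rwa [hx, map_neg, neg_eq_zero] at this
  refine ⟨v, hv, x v, hinv ⟨v, hv, rfl⟩, hvx, ?_, ?_⟩
  · exact Submodule.mem_span_singleton.2 ⟨1, by simp⟩
  · exact Submodule.mem_span_singleton.2 ⟨-1, by simp [hx]⟩

/-- an involutory isometry up to sign fixes a pair of complementary Lagrangians -/
theorem exists_lagrangian_pair (h2 : (2 : F) ≠ 0) (halt : B.IsAlt)
    (hnd : ∀ v, v ≠ 0 → ∃ u, B v u ≠ 0) (hiso : ∀ u v, B (x u) (x v) = B u v)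
    {z : F} (hx : ∀ v, x (x v) = z • v) :
    ∃ U W : Submodule F V, IsCompl U W ∧ (∀ u ∈ U, ∀ v ∈ U, B u v = 0) ∧
      (∀ u ∈ W, ∀ v ∈ W, B u v = 0) ∧
      ((U.map x = U ∧ W.map x = W) ∨ (U.map x = W ∧ W.map x = U)) := by
  rcases subsingleton_or_nontrivial V with hV | hV
  · exact ⟨⊥, ⊤, isCompl_bot_top, by simp, fun u _ v _ => by simp [Subsingleton.elim u 0],
      Or.inl ⟨Subsingleton.elim _ _, Subsingleton.elim _ _⟩⟩
  obtain ⟨v₁, hv₁⟩ := exists_ne (0 : V)
  obtain ⟨u₁, hu₁⟩ := hnd v₁ hv₁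
  have hz : z * z = 1 := by
    have := hiso (x v₁) (x u₁)
    rw [hx, hx, hiso] at this
    simp only [map_smul, LinearMap.smul_apply, smul_eq_mul, ← mul_assoc] at this
    exact mul_right_cancel₀ hu₁ (by rw [this, one_mul])
  have hinj : Function.Injective x := fun a b e => by
    have e' := congrArg x e
    rw [hx, hx] at e'
    exact smul_right_injective V (left_ne_zero_of_mul_eq_one hz) e'
  have hndW : ∀ v ∈ (⊤ : Submodule F V), v ≠ 0 → ∃ u ∈ (⊤ : Submodule F V), B v u ≠ 0 :=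
    fun v _ hv => (hnd v hv).imp fun u hu => ⟨trivial, hu⟩
  obtain ⟨sw, U, W, hsup, hU, hW, hxU, hxW⟩ : ∃ (sw : Bool) (U W : Submodule F V), U ⊔ W = ⊤ ∧
      (∀ u ∈ U, ∀ v ∈ U, B u v = 0) ∧ (∀ u ∈ W, ∀ v ∈ W, B u v = 0) ∧
      U.map x ≤ (if sw then W else U) ∧ W.map x ≤ (if sw then U else W) := by
    rcases mul_self_eq_one_iff.1 hz with rfl | rfl
    · exact ⟨false, exists_iso_pair halt hinj hiso false
        (step_of_sq_one h2 hiso fun v => by rw [hx, one_smul]) ⊤ le_top hndW⟩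
    · exact ⟨true, exists_iso_pair halt hinj hiso true
        (step_of_sq_neg_one h2 halt hiso fun v => by rw [hx, neg_one_smul]) ⊤ le_top hndW⟩
  have hdisj : IsCompl U W := by
    refine ⟨Submodule.disjoint_def.2 fun v h₁ h₂ => ?_, codisjoint_iff.2 hsup⟩
    by_contra hv
    obtain ⟨u, hu⟩ := hnd v hv
    obtain ⟨a, ha, b, hb, rfl⟩ := Submodule.mem_sup.1 (hsup.symm ▸ Submodule.mem_top : u ∈ U ⊔ W)
    exact hu (by rw [map_add, hU v h₁ a ha, hW v h₂ b hb, add_zero])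
  refine ⟨U, W, hdisj, hU, hW, ?_⟩
  have hd : ∀ S : Submodule F V, finrank F (S.map x) = finrank F S := fun S =>
    (LinearEquiv.finrank_eq (Submodule.equivMapOfInjective x hinj S)).symm
  cases sw
  · refine Or.inl ⟨Submodule.eq_of_le_of_finrank_le hxU ?_, Submodule.eq_of_le_of_finrank_le hxW ?_⟩ <;>
      rw [hd] <;> rfl
  · simp only [if_true] at hxU hxW
    have e1 := Submodule.finrank_mono hxU
    have e2 := Submodule.finrank_mono hxW
    rw [hd] at e1 e2
    exact Or.inr ⟨Submodule.eq_of_le_of_finrank_le hxU (by rw [hd]; omega),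
      Submodule.eq_of_le_of_finrank_le hxW (by rw [hd]; omega)⟩

end Cfsg.Agent.Forms.Elusive
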