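import Mathlib
import Cfsg.Agent.Lib.Forms.Elusive.SympPairs
import Cfsg.Agent.Lib.Forms.Elusive.Monomial

/-!
# Orthogonal decompositions into hyperbolic planes permuted by an involutory isometry
-/

set_option autoImplicit false
set_option linter.unusedSectionVars false

open Module

namespace Cfsg.Agent.Forms.Elusive

variable {F : Type*} [Field F] {V : Type*} [AddCommGroup V] [Module F V] [FiniteDimensional F V]
  {B : LinearMap.BilinForm F V} {x : V →ₗ[F] V}

/-- nondegenerate on `W` -/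
def NdOn (B : LinearMap.BilinForm F V) (W : Submodule F V) : Prop :=
  ∀ v ∈ W, v ≠ 0 → ∃ u ∈ W, B v u ≠ 0

/-- planes in general position permuted by `x` -/
def HasPlanes (B : LinearMap.BilinForm F V) (x : V →ₗ[F] V) (W : Submodule F V) : Prop :=
  ∃ (k : ℕ) (P : Fin k → Submodule F V) (π : Equiv.Perm (Fin k)), (∀ i, π (π i) = i) ∧
    (∀ i, finrank F (P i) = 2) ∧ (∀ i, NdOn B (P i)) ∧
    (∀ i j, i ≠ j → ∀ a ∈ P i, ∀ b ∈ P j, B a b = 0) ∧ (⨆ i, P i) = W ∧
    ∀ i, (P i).map x = P (π i)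

theorem mem_perp {W P : Submodule F V} {y : V} :
    y ∈ W ⊓ B.orthogonal P ↔ y ∈ W ∧ ∀ p ∈ P, B p y = 0 :=
  Iff.rfl

/-- splitting off a hyperbolic plane -/
theorem plane_split (halt : B.IsAlt) {W : Submodule F V} {v w : V} (hv : v ∈ W) (hw : w ∈ W)
    (hvw : B v w ≠ 0) :
    finrank F (Submodule.span F ({v, w} : Set V)) = 2 ∧ NdOn B (Submodule.span F {v, w}) ∧
      Submodule.span F {v, w} ≤ W ∧
      Submodule.span F {v, w} ⊔ (W ⊓ B.orthogonal (Submodule.span F {v, w})) = W := by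
  set P : Submodule F V := Submodule.span F {v, w} with hP
  have hswap : ∀ a b : V, B b a = -B a b := fun a b => (LinearMap.IsAlt.neg halt a b).symm
  have hvP : v ∈ P := Submodule.subset_span (Set.mem_insert _ _)
  have hwP : w ∈ P := Submodule.subset_span (Set.mem_insert_of_mem _ rfl)
  have hPW : P ≤ W := by
    rw [hP, Submodule.span_le, Set.insert_subset_iff, Set.singleton_subset_iff]
    exact ⟨hv, hw⟩
  have hli : LinearIndependent F ![v, w] := by
    rw [LinearIndependent.pair_iff]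
    intro a b h
    have h1 := congrArg (B v) h
    have h2 := congrArg (fun z => B z w) h
    simp [halt.self_eq_zero, hvw] at h1 h2
    exact ⟨h2, h1⟩
  refine ⟨?_, ?_, hPW, ?_⟩
  · have e := finrank_span_eq_card hli
    rw [show Set.range ![v, w] = {v, w} by simp [Matrix.range_cons, Set.pair_comm]] at e
    rw [hP]
    exact e.trans (Fintype.card_fin 2)
  · intro z hz hz0
    obtain ⟨a, b, rfl⟩ := Submodule.mem_span_pair.1 hz
    by_cases ha : a = 0
    · refine ⟨v, hvP, ?_⟩
      subst ha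
      rw [zero_smul, zero_add] at hz0 ⊢
      rw [map_smul, LinearMap.smul_apply, smul_eq_mul, hswap v w]
      exact mul_ne_zero (left_ne_zero_of_smul hz0) (neg_ne_zero.2 hvw)
    · exact ⟨w, hwP, by simp [halt.self_eq_zero, ha, hvw]⟩
  · refine le_antisymm (sup_le hPW inf_le_left) fun u hu => ?_
    set p := (B u w / B v w) • v + (B v u / B v w) • w with hp
    have hpP : p ∈ P := add_mem (P.smul_mem _ hvP) (P.smul_mem _ hwP)
    have e : u = p + (u - p) := by abel
    rw [e]
    refine Submodule.add_mem_sup hpP (mem_perp.2 ⟨sub_mem hu (hPW hpP), fun q hq => ?_⟩)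
    obtain ⟨a, b, rfl⟩ := Submodule.mem_span_pair.1 hq
    have h1 : B v (u - p) = 0 := by simp [hp, halt.self_eq_zero, div_mul_cancel₀ _ hvw]
    have h2 : B w (u - p) = 0 := by
      simp [hp, halt.self_eq_zero, hswap v w, hswap u w, div_mul_cancel₀ _ hvw]
    simp only [map_add, map_smul, LinearMap.add_apply, LinearMap.smul_apply, h1, h2, smul_zero, add_zero]

/-- the complement of a nondegenerate part is nondegenerate -/
theorem ndOn_perp (halt : B.IsAlt) {W P : Submodule F V} (hW : NdOn B W)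
    (hsup : P ⊔ (W ⊓ B.orthogonal P) = W) : NdOn B (W ⊓ B.orthogonal P) := by
  intro y hy hy0
  obtain ⟨u, hu, hyu⟩ := hW y (mem_perp.1 hy).1 hy0
  rw [← hsup] at hu
  obtain ⟨p, hp, z, hz, rfl⟩ := Submodule.mem_sup.1 hu
  refine ⟨z, hz, ?_⟩
  rwa [map_add, ← LinearMap.IsAlt.neg halt p y, (mem_perp.1 hy).2 p hp, neg_zero, zero_add] at hyu

theorem perp_inv (hiso : ∀ u v, B (x u) (x v) = B u v) {W P : Submodule F V} (hW : W.map x ≤ W)
    (hP : P.map x = P) : (W ⊓ B.orthogonal P).map x ≤ W ⊓ B.orthogonal P := by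
  rintro _ ⟨y, hy, rfl⟩
  refine mem_perp.2 ⟨hW ⟨y, (mem_perp.1 hy).1, rfl⟩, fun p hp => ?_⟩
  rw [← hP] at hp
  obtain ⟨p', hp', rfl⟩ := hp
  rw [hiso]
  exact (mem_perp.1 hy).2 p' hp'

/-- prepend an invariant plane -/
theorem HasPlanes.single {W Q P₀ : Submodule F V} (h : HasPlanes B x Q) (hr : finrank F P₀ = 2)
    (hnd : NdOn B P₀) (hx : P₀.map x = P₀) (hsup : P₀ ⊔ Q = W)
    (horth : ∀ a ∈ P₀, ∀ b ∈ Q, B a b = 0) (halt : B.IsAlt) : HasPlanes B x W := by
  obtain ⟨k, P, π, hπ, h2, hn, ho, hs, hm⟩ := h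
  have hle : ∀ i, P i ≤ Q := fun i => hs ▸ le_iSup P i
  refine ⟨k + 1, Fin.cons P₀ P, Equiv.Perm.decomposeFin.symm (0, π), ?_, ?_, ?_, ?_, ?_, ?_⟩
  · exact Fin.cases (by simp) fun i => by simp [hπ]
  · exact Fin.cases hr h2
  · exact Fin.cases hnd hn
  · refine Fin.cases (Fin.cases (fun h => absurd rfl h) fun j _ a ha b hb => ?_) fun i => Fin.cases
      (fun _ a ha b hb => ?_) fun j hij => ?_
    · exact horth a ha b (hle j hb)
    · rw [← LinearMap.IsAlt.neg halt b a, horth b hb a (hle i ha), neg_zero]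
    · exact ho i j fun e => hij (e ▸ rfl)
  · rw [← hsup, ← hs]
    refine le_antisymm (iSup_le (Fin.cases le_sup_left fun i => le_sup_of_le_right (le_iSup P i))) ?_
    refine sup_le (le_iSup_of_le 0 le_rfl) (iSup_le fun i => le_iSup_of_le i.succ le_rfl)
  · exact Fin.cases (by simpa using hx) fun i => by simpa using hm i

/-- prepend two interchanged planes -/
theorem HasPlanes.double {W Q P₀ P₁ : Submodule F V} (h : HasPlanes B x Q) (hr₀ : finrank F P₀ = 2)
    (hr₁ : finrank F P₁ = 2) (hnd₀ : NdOn B P₀) (hnd₁ : NdOn B P₁) (hx₀ : P₀.map x = P₁)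
    (hx₁ : P₁.map x = P₀) (hsup : P₀ ⊔ (P₁ ⊔ Q) = W) (h01 : ∀ a ∈ P₀, ∀ b ∈ P₁, B a b = 0)
    (h0 : ∀ a ∈ P₀, ∀ b ∈ Q, B a b = 0) (h1 : ∀ a ∈ P₁, ∀ b ∈ Q, B a b = 0) (halt : B.IsAlt) :
    HasPlanes B x W := by
  obtain ⟨k, P, π, hπ, h2, hn, ho, hs, hm⟩ := h
  have hle : ∀ i, P i ≤ Q := fun i => hs ▸ le_iSup P i
  have hflip : ∀ {A C : Submodule F V}, (∀ a ∈ A, ∀ b ∈ C, B a b = 0) → ∀ a ∈ C, ∀ b ∈ A, B a b = 0 :=
    fun h a ha b hb => by rw [← LinearMap.IsAlt.neg halt b a, h b hb a ha, neg_zero]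
  let g : Fin (k + 2) → Fin (k + 2) := Fin.cases 1 (Fin.cases 0 fun i => (π i).succ.succ)
  have hg : Function.Involutive g := Fin.cases rfl (Fin.cases rfl fun i => by simp [g, hπ])
  refine ⟨k + 2, Fin.cons P₀ (Fin.cons P₁ P), hg.toPerm, hg, ?_, ?_, ?_, ?_, ?_⟩
  · exact Fin.cases hr₀ (Fin.cases hr₁ h2)
  · exact Fin.cases hnd₀ (Fin.cases hnd₁ hn)
  · refine Fin.cases (Fin.cases (fun h => absurd rfl h) (Fin.cases (fun _ => h01) fun j _ a ha b hb =>
      h0 a ha b (hle j hb))) (Fin.cases (Fin.cases (fun _ => hflip h01) (Fin.cases (fun h => absurd rfl h)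
      fun j _ a ha b hb => h1 a ha b (hle j hb))) fun i => Fin.cases (fun _ a ha b hb =>
      hflip h0 a (hle i ha) b hb) (Fin.cases (fun _ a ha b hb => hflip h1 a (hle i ha) b hb) fun j hij => ?_))
    exact ho i j fun e => hij (e ▸ rfl)
  · rw [← hsup, ← hs]
    refine le_antisymm (iSup_le (Fin.cases le_sup_left (Fin.cases (le_sup_of_le_right le_sup_left)
      fun i => le_sup_of_le_right (le_sup_of_le_right (le_iSup P i))))) ?_
    exact sup_le (le_iSup_of_le 0 le_rfl) (sup_le (le_iSup_of_le (Fin.succ 0) le_rfl)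
      (iSup_le fun i => le_iSup_of_le i.succ.succ le_rfl))
  · exact Fin.cases hx₀ (Fin.cases hx₁ fun i => hm i)

/-- an isometry squaring to a scalar permutes hyperbolic planes -/
theorem hasPlanes (halt : B.IsAlt) (hinj : Function.Injective x)
    (hiso : ∀ u v, B (x u) (x v) = B u v) {z : F} (hz : z = 1 ∨ z = -1) (hx : ∀ v, x (x v) = z • v) :
    ∀ W : Submodule F V, W.map x ≤ W → NdOn B W → HasPlanes B x W := by
  intro W
  induction hW : finrank F W using Nat.strong_induction_on generalizing W with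
  | _ k ih =>
    intro hinv hnd
    by_cases hb : W = ⊥
    · subst hb
      exact ⟨0, fun i => i.elim0, 1, fun i => i.elim0, fun i => i.elim0, fun i => i.elim0,
        fun i => i.elim0, by simp, fun i => i.elim0⟩
    have hspan : ∀ v w : V, (Submodule.span F ({v, w} : Set V)).map x = Submodule.span F {x v, x w} :=
      fun v w => by rw [Submodule.map_span, Set.image_pair]
    -- an invariant plane finishes the step
    have single : ∀ v ∈ W, ∀ w ∈ W, B v w ≠ 0 → x v ∈ Submodule.span F {v, w} →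
        x w ∈ Submodule.span F {v, w} → HasPlanes B x W := by
      intro v hv w hw hvw hxv hxw
      obtain ⟨hr, hP, hPW, hsup⟩ := plane_split halt hv hw hvw
      set P : Submodule F V := Submodule.span F {v, w} with hPdef
      have hPeq : P.map x = P := Submodule.eq_of_le_of_finrank_le (by
        rw [hPdef, hspan, Submodule.span_le, Set.insert_subset_iff, Set.singleton_subset_iff]
        exact ⟨hxv, hxw⟩) (le_of_eq (LinearEquiv.finrank_eq (Submodule.equivMapOfInjective x hinj P)))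
      have hlt : finrank F (W ⊓ B.orthogonal P : Submodule F V) < k := by
        rw [← hW]
        refine Submodule.finrank_lt_finrank_of_lt (lt_of_le_of_ne inf_le_left fun e => hvw ?_)
        exact (mem_perp.1 (e.symm ▸ hw)).2 v (Submodule.subset_span (Set.mem_insert _ _))
      exact (ih _ hlt _ rfl (perp_inv hiso hinv hPeq) (ndOn_perp halt hnd hsup)).single hr hP hPeq hsup
        (fun a ha b hb => (mem_perp.1 hb).2 a ha) halt
    by_cases h2 : (2 : F) = 0
    swap
    · have step : ∃ sw, SplitStep B x sw W := by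
        rcases hz with rfl | rfl
        · exact ⟨false, step_of_sq_one h2 hiso (fun v => by rw [hx, one_smul]) W hinv hnd hb⟩
        · exact ⟨true, step_of_sq_neg_one h2 halt hiso (fun v => by rw [hx, neg_one_smul]) W hinv hnd hb⟩
      obtain ⟨sw, v, hv, w, hw, hvw, hxv, hxw⟩ := step
      refine single v hv w hw hvw (Submodule.span_mono ?_ hxv) (Submodule.span_mono ?_ hxw) <;>
        cases sw <;> simp
    have hz1 : z = 1 := by
      rcases hz with rfl | rfl
      · rfl
      · exact neg_eq_iff_add_eq_zero.2 (by rw [one_add_one_eq_two, h2])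
    have hxx : ∀ v, x (x v) = v := fun v => by rw [hx, hz1, one_smul]
    by_cases hcase : ∃ v ∈ W, B v (x v) ≠ 0
    · obtain ⟨v, hv, hvx⟩ := hcase
      exact single v hv (x v) (hinv ⟨v, hv, rfl⟩) hvx (Submodule.subset_span (by simp))
        (by rw [hxx]; exact Submodule.subset_span (by simp))
    push Not at hcase
    by_cases hfix : ∀ v ∈ W, x v = v
    · obtain ⟨v, hv, hv0⟩ := W.exists_mem_ne_zero_of_ne_bot hb
      obtain ⟨w, hw, hvw⟩ := hnd v hv hv0
      exact single v hv w hw hvw (by rw [hfix v hv]; exact Submodule.subset_span (by simp))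
        (by rw [hfix w hw]; exact Submodule.subset_span (by simp))
    push Not at hfix
    obtain ⟨v, hv, hxv⟩ := hfix
    obtain ⟨u, hu, hvu, hxu⟩ : ∃ u ∈ W, B v u ≠ 0 ∧ B (x v) u = 0 := by
      by_contra hcon
      push Not at hcon
      have hv0 : v ≠ 0 := fun e => hxv (by rw [e, map_zero])
      have hxv0 : x v ≠ 0 := fun e => hv0 (hinj (by rw [e, map_zero]))
      obtain ⟨u₀, hu₀, hu₀'⟩ := hnd (x v) (hinv ⟨v, hv, rfl⟩) hxv0
      set c := B v u₀ / B (x v) u₀ with hc
      have hdiff : v - c • x v = 0 := by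
        by_contra hne
        obtain ⟨u, hu, hu'⟩ := hnd _ (sub_mem hv (W.smul_mem c (hinv ⟨v, hv, rfl⟩))) hne
        have h1 := mt (hcon (u - (B (x v) u / B (x v) u₀) • u₀) (sub_mem hu (W.smul_mem _ hu₀)))
          (fun h => h (by simp [div_mul_cancel₀ _ hu₀']))
        rw [not_not] at h1
        apply hu'
        simp only [map_sub, map_smul, LinearMap.sub_apply, LinearMap.smul_apply, smul_eq_mul] at h1 ⊢
        rw [sub_eq_zero] at h1 ⊢
        rw [h1, hc]
        ring
      rw [sub_eq_zero] at hdiff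
      have h3 := congrArg x hdiff
      rw [map_smul, hxx] at h3
      rw [h3, smul_smul] at hdiff
      have hcc : c * c = 1 := (smul_left_injective F hv0 (by simpa using hdiff.symm))
      have hc1 : c = 1 := by
        rcases mul_self_eq_one_iff.1 hcc with e | e
        · exact e
        · rw [e]; exact neg_eq_iff_add_eq_zero.2 (by rw [one_add_one_eq_two, h2])
      exact hxv (by rw [h3, hc1, one_smul])
    have hxv' := hinv ⟨v, hv, rfl⟩
    have hxu' := hinv ⟨u, hu, rfl⟩
    obtain ⟨hr₀, hP₀, hP₀W, hsup₀⟩ := plane_split halt hv hu hvu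
    have hvxu : B v (x u) = 0 := by
      have := hiso (x v) u
      rwa [hxx, hxu] at this
    have h01 : ∀ a ∈ Submodule.span F {v, u}, ∀ b ∈ Submodule.span F {x v, x u}, B a b = 0 := by
      intro a ha b hb'
      obtain ⟨a₁, a₂, rfl⟩ := Submodule.mem_span_pair.1 ha
      obtain ⟨b₁, b₂, rfl⟩ := Submodule.mem_span_pair.1 hb'
      have : B u (x v) = 0 := by rw [← LinearMap.IsAlt.neg halt (x v) u, hxu, neg_zero]
      simp [hcase v hv, hcase u hu, hvxu, this]
    have hxv₁ : x v ∈ W ⊓ B.orthogonal (Submodule.span F {v, u}) :=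
      mem_perp.2 ⟨hxv', fun p hp => h01 p hp _ (Submodule.subset_span (by simp))⟩
    have hxu₁ : x u ∈ W ⊓ B.orthogonal (Submodule.span F {v, u}) :=
      mem_perp.2 ⟨hxu', fun p hp => h01 p hp _ (Submodule.subset_span (by simp))⟩
    obtain ⟨hr₁, hP₁, hP₁W, hsup₁⟩ := plane_split halt hxv₁ hxu₁ (by rwa [hiso])
    set P₀ : Submodule F V := Submodule.span F {v, u} with hP₀d
    set P₁ : Submodule F V := Submodule.span F {x v, x u} with hP₁d
    have hm₀ : P₀.map x = P₁ := by rw [hP₀d, hspan]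
    have hm₁ : P₁.map x = P₀ := by rw [hP₁d, hspan, hxx, hxx]
    have hnd₁ := ndOn_perp halt (ndOn_perp halt hnd hsup₀) hsup₁
    have hinvQ : ((W ⊓ B.orthogonal P₀) ⊓ B.orthogonal P₁).map x ≤
        (W ⊓ B.orthogonal P₀) ⊓ B.orthogonal P₁ := by
      rintro _ ⟨y, hy, rfl⟩
      obtain ⟨hy₀, hy₁⟩ := mem_perp.1 hy
      obtain ⟨hyW, hy₀'⟩ := mem_perp.1 hy₀
      refine mem_perp.2 ⟨mem_perp.2 ⟨hinv ⟨y, hyW, rfl⟩, fun p hp => ?_⟩, fun p hp => ?_⟩
      · rw [← hm₁] at hp
        obtain ⟨p', hp', rfl⟩ := hp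
        rw [hiso]; exact hy₁ p' hp'
      · rw [← hm₀] at hp
        obtain ⟨p', hp', rfl⟩ := hp
        rw [hiso]; exact hy₀' p' hp'
    have hlt : finrank F ((W ⊓ B.orthogonal P₀) ⊓ B.orthogonal P₁ : Submodule F V) < k := by
      rw [← hW]
      refine Submodule.finrank_lt_finrank_of_lt (lt_of_le_of_ne (inf_le_left.trans inf_le_left) fun e => hvu ?_)
      exact (mem_perp.1 (mem_perp.1 (e.symm ▸ hu)).1).2 v (Submodule.subset_span (by simp))
    exact (ih _ hlt _ rfl hinvQ hnd₁).double hr₀ hr₁ hP₀ hP₁ hm₀ hm₁ (by rw [hsup₁, hsup₀]) h01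
      (fun a ha b hb => (mem_perp.1 (mem_perp.1 hb).1).2 a ha)
      (fun a ha b hb => (mem_perp.1 hb).2 a ha) halt

/-- group the planes into nondegenerate orthogonal pieces -/
theorem exists_symp_decomp {ι : Type} [Fintype ι] [DecidableEq ι] {B : LinearMap.BilinForm F (ι → F)}
    {x : (ι → F) →ₗ[F] (ι → F)} (halt : B.IsAlt) (hnd : B.Nondegenerate)
    (hiso : ∀ u v, B (x u) (x v) = B u v) {z : F} (hx : ∀ v, x (x v) = z • v) (a t : ℕ)
    (hat : Fintype.card ι = a * t) (ha : 0 < a) (hae : Even a) (ht : 2 ≤ t) :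
    ∃ D : Fin t → Submodule F (ι → F), (Cfsg.Geo.IsMDecomposition a D ∧
      (∀ j, ∀ u ∈ D j, u ≠ 0 → ∃ v ∈ D j, B u v ≠ 0) ∧
      (∀ j j', j ≠ j' → ∀ u ∈ D j, ∀ v ∈ D j', B u v = 0)) ∧
      ∃ σ : Equiv.Perm (Fin t), ∀ j, (D j).map x = D (σ j) := by
  classical
  have hndW : NdOn B ⊤ := fun v _ hv => by
    by_contra hcon
    push Not at hcon
    exact hv (hnd.1 v fun u => hcon u trivial)
  haveI : Nonempty ι := Fintype.card_pos_iff.1 (by rw [hat]; positivity)
  obtain ⟨v₁, hv₁⟩ := exists_ne (0 : ι → F)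
  obtain ⟨u₁, -, hu₁⟩ := hndW v₁ trivial hv₁
  have hzz : z * z = 1 := by
    have := hiso (x v₁) (x u₁)
    rw [hx, hx, hiso] at this
    simp only [map_smul, LinearMap.smul_apply, smul_eq_mul, ← mul_assoc] at this
    exact mul_right_cancel₀ hu₁ (by rw [this, one_mul])
  have hinj : Function.Injective x := fun a b e => by
    have e' := congrArg x e
    rw [hx, hx] at e'
    exact smul_right_injective _ (left_ne_zero_of_mul_eq_one hzz) e'
  obtain ⟨k, P, π, hπ, h2, hn, ho, hs, hm⟩ :=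
    hasPlanes halt hinj hiso (mul_self_eq_one_iff.1 hzz) hx ⊤ le_top hndW
  -- sums over a set of planes
  have hsum : ∀ S : Finset (Fin k), (∀ w ∈ ⨆ i ∈ S, P i, w ≠ 0 → ∃ u ∈ ⨆ i ∈ S, P i, B w u ≠ 0) ∧
      finrank F (⨆ i ∈ S, P i : Submodule F (ι → F)) = 2 * S.card := by
    intro S
    induction S using Finset.induction_on with
    | empty => simp
    | insert i S hi ih =>
      obtain ⟨ih1, ih2⟩ := ih
      rw [Finset.iSup_insert]
      have horth : ∀ a ∈ P i, ∀ b ∈ ⨆ j ∈ S, P j, B a b = 0 := fun a ha b hb => by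
        have hle : (⨆ j ∈ S, P j) ≤ LinearMap.ker (B a) := iSup₂_le fun j hj c hc =>
          LinearMap.mem_ker.2 (ho i j (fun e => hi (e ▸ hj)) a ha c hc)
        exact LinearMap.mem_ker.1 (hle hb)
      have hd : Disjoint (P i) (⨆ j ∈ S, P j) := Submodule.disjoint_def.2 fun w h1 h3 => by
        by_contra hw
        obtain ⟨u, hu, hwu⟩ := ih1 w h3 hw
        exact hwu (horth w h1 u hu)
      refine ⟨fun w hw hw0 => ?_, ?_⟩
      · obtain ⟨p, hp, q, hq, rfl⟩ := Submodule.mem_sup.1 hw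
        by_cases hp0 : p = 0
        · subst hp0
          rw [zero_add] at hw0 ⊢
          obtain ⟨u, hu, hqu⟩ := ih1 q hq hw0
          exact ⟨u, Submodule.mem_sup_right hu, hqu⟩
        · obtain ⟨u, hu, hpu⟩ := hn i p hp hp0
          refine ⟨u, Submodule.mem_sup_left hu, ?_⟩
          rw [map_add, LinearMap.add_apply, ← LinearMap.IsAlt.neg halt u q, horth u hu q hq, neg_zero,
            add_zero]
          exact hpu
      · rw [finrank_sup_of_disjoint hd, h2, ih2, Finset.card_insert_of_notMem hi]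
        ring
  obtain ⟨b, rfl⟩ := hae
  have hk : Fintype.card (Fin k) = t * b := by
    have h := (hsum Finset.univ).2
    rw [iSup_congr fun i => iSup_pos (Finset.mem_univ i), hs, finrank_top, Module.finrank_fintype_fun_eq_card,
      hat, Finset.card_univ] at h
    have e : (b + b) * t = 2 * (t * b) := by ring
    omega
  obtain ⟨c, σ, hc, hcσ⟩ := exists_colouring π hπ b t hk
  let D : Fin t → Submodule F (ι → F) := fun j => ⨆ i ∈ Finset.univ.filter (fun i => c i = j), P i
  have hmem : ∀ {i j}, c i = j → P i ≤ D j := fun {i j} h => le_iSup₂_of_le i (by simp [h]) le_rfl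
  have horth : ∀ j j', j ≠ j' → ∀ u ∈ D j, ∀ v ∈ D j', B u v = 0 := by
    intro j j' hne u hu v hv
    have h1 : ∀ i, c i = j → ∀ a ∈ P i, D j' ≤ LinearMap.ker (B a) := fun i hi a ha =>
      iSup₂_le fun l hl w hw => LinearMap.mem_ker.2 (ho i l (fun e => hne (by
        rw [← hi, e, (Finset.mem_filter.1 hl).2])) a ha w hw)
    have hle : D j ≤ LinearMap.ker (B.flip v) := iSup₂_le fun i hi a ha =>
      LinearMap.mem_ker.2 (LinearMap.mem_ker.1 (h1 i (Finset.mem_filter.1 hi).2 a ha hv))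
    exact LinearMap.mem_ker.1 (hle hu)
  refine ⟨D, ⟨⟨ht, ha, fun j => ?_, ?_, ?_⟩, fun j => (hsum _).1, horth⟩, σ, fun j => ?_⟩
  · rw [(hsum _).2]
    have := hc j
    rw [Nat.card_eq_fintype_card, Fintype.card_subtype] at this
    omega
  · refine iSupIndep_def.2 fun j => Submodule.disjoint_def.2 fun w h1 h3 => ?_
    by_contra hw
    obtain ⟨u, hu, hwu⟩ := (hsum _).1 w h1 hw
    have hle : (⨆ (j') (_ : j' ≠ j), D j') ≤ LinearMap.ker (B.flip u) := iSup₂_le fun j' hj' a ha =>
      LinearMap.mem_ker.2 (horth j' j hj' a ha u hu)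
    exact hwu (LinearMap.mem_ker.1 (hle h3))
  · rw [eq_top_iff, ← hs]
    exact iSup_le fun i => (hmem rfl).trans (le_iSup D (c i))
  · refine le_antisymm ?_ ?_
    · simp only [D, Submodule.map_iSup]
      exact iSup₂_le fun i hi => (hm i).le.trans (hmem (by rw [hcσ, (Finset.mem_filter.1 hi).2]))
    · refine iSup₂_le fun i hi => ?_
      rw [show P i = (P (π i)).map x by rw [hm, hπ]]
      refine Submodule.map_mono (hmem ?_)
      have h := hcσ (π i)
      rw [hπ, (Finset.mem_filter.1 hi).2] at h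
      exact (σ.injective h).symm

end Cfsg.Agent.Forms.Elusive
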