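import Mathlib
import Cfsg.Agent.Lib.Forms.Bases
import Cfsg.Agent.Lib.Forms.Elusive.Semisimple
import Cfsg.Agent.Lib.Forms.Elusive.SympPlanes

/-!
# Isometries of odd prime order of a symplectic space: orthogonal invariant pieces
-/

set_option autoImplicit false
set_option linter.unusedSectionVars false

open Module Polynomial

namespace Cfsg.Agent.Forms.Elusive.Pieces

variable {F : Type*} [Field F] {V : Type*} [AddCommGroup V] [Module F V] [FiniteDimensional F V]
  {B : LinearMap.BilinForm F V} {g : V →ₗ[F] V}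

/-- orthogonality of two subspaces -/
def OrthTo (B : LinearMap.BilinForm F V) (U W : Submodule F V) : Prop := ∀ u ∈ U, ∀ w ∈ W, B u w = 0

theorem OrthTo.symm (halt : B.IsAlt) {U W : Submodule F V} (h : OrthTo B U W) : OrthTo B W U := fun w hw u hu => by
  rw [← LinearMap.IsAlt.neg halt u w, h u hu w hw, neg_zero]

theorem orth_dim (W P : Submodule F V) :
    finrank F W ≤ finrank F ↥(W ⊓ B.orthogonal P) + finrank F P := by
  let φ : W →ₗ[F] Module.Dual F P :=
    { toFun := fun v => (B.flip (v : V)).domRestrict P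
      map_add' := fun u v => by ext; simp
      map_smul' := fun c u => by ext; simp }
  have h := LinearMap.finrank_range_add_finrank_ker φ
  have h1 : finrank F (LinearMap.range φ) ≤ finrank F P :=
    (Submodule.finrank_le _).trans_eq Subspace.dual_finrank_eq
  have h2 : finrank F (LinearMap.ker φ) ≤ finrank F ↥(W ⊓ B.orthogonal P) := by
    refine LinearMap.finrank_le_finrank_of_injective
      (f := LinearMap.codRestrict (W ⊓ B.orthogonal P) (W.subtype ∘ₗ (LinearMap.ker φ).subtype) fun v =>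
        mem_perp.2 ⟨v.1.2, fun p hp => LinearMap.congr_fun (LinearMap.mem_ker.1 v.2) ⟨p, hp⟩⟩) ?_
    intro u v e
    exact Subtype.ext (Subtype.ext (congrArg Subtype.val e :))
  omega

theorem nd_split (halt : B.IsAlt) {W P : Submodule F V} (hW : NdOn B W) (hP : NdOn B P) (hPW : P ≤ W) :
    P ⊔ (W ⊓ B.orthogonal P) = W ∧ Disjoint P (W ⊓ B.orthogonal P) ∧
      finrank F P + finrank F ↥(W ⊓ B.orthogonal P) = finrank F W ∧ NdOn B (W ⊓ B.orthogonal P) ∧
      OrthTo B P (W ⊓ B.orthogonal P) := by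
  have ho : OrthTo B P (W ⊓ B.orthogonal P) := fun p hp y hy => (mem_perp.1 hy).2 p hp
  have hd : Disjoint P (W ⊓ B.orthogonal P) := by
    rw [Submodule.disjoint_def]
    intro v hv hv'
    by_contra h0
    obtain ⟨u, hu, huv⟩ := hP v hv h0
    exact huv ((ho.symm halt) v hv' u hu)
  have h1 := finrank_sup_of_disjoint hd
  have h2 : finrank F ↥(P ⊔ W ⊓ B.orthogonal P) ≤ finrank F W :=
    Submodule.finrank_mono (sup_le hPW inf_le_left)
  have h3 := orth_dim (B := B) W P
  have hsup : P ⊔ (W ⊓ B.orthogonal P) = W :=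
    Submodule.eq_of_le_of_finrank_le (sup_le hPW inf_le_left) (by omega)
  exact ⟨hsup, hd, by omega, ndOn_perp halt hW hsup, ho⟩

theorem nd_sup (halt : B.IsAlt) {U W : Submodule F V} (hU : NdOn B U) (hW : NdOn B W) (h : OrthTo B U W) :
    NdOn B (U ⊔ W) ∧ Disjoint U W := by
  have hd : Disjoint U W := by
    rw [Submodule.disjoint_def]
    intro v hv hv'
    by_contra h0
    obtain ⟨u, hu, huv⟩ := hU v hv h0
    exact huv ((h.symm halt) v hv' u hu)
  refine ⟨fun v hv hv0 => ?_, hd⟩
  obtain ⟨a, ha, b, hb, rfl⟩ := Submodule.mem_sup.1 hv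
  by_cases ha0 : a = 0
  · subst ha0
    rw [zero_add] at hv0 ⊢
    obtain ⟨u, hu, hbu⟩ := hW b hb hv0
    exact ⟨u, Submodule.mem_sup_right hu, hbu⟩
  · obtain ⟨u, hu, hau⟩ := hU a ha ha0
    refine ⟨u, Submodule.mem_sup_left hu, ?_⟩
    rw [map_add, LinearMap.add_apply, (h.symm halt) b hb u hu, add_zero]
    exact hau

theorem map_eq_of_inv (hinj : Function.Injective g) {W : Submodule F V} (hW : W.map g ≤ W) : W.map g = W :=
  Submodule.eq_of_le_of_finrank_eq hW (Submodule.equivMapOfInjective g hinj W).finrank_eq.symm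

theorem perp_inv' (hiso : ∀ u v, B (g u) (g v) = B u v) (hinj : Function.Injective g) {W P : Submodule F V}
    (hW : W.map g ≤ W) (hP : P.map g ≤ P) : (W ⊓ B.orthogonal P).map g ≤ W ⊓ B.orthogonal P :=
  perp_inv hiso hW (map_eq_of_inv hinj hP)

/-- every nonzero nondegenerate invariant subspace of `W` contains one of dimension `c` -/
def HasPiece (B : LinearMap.BilinForm F V) (g : V →ₗ[F] V) (c : ℕ) (W : Submodule F V) : Prop :=
  ∀ W' : Submodule F V, W' ≤ W → NdOn B W' → W'.map g ≤ W' → W' ≠ ⊥ →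
    ∃ P : Submodule F V, P ≤ W' ∧ NdOn B P ∧ P.map g ≤ P ∧ finrank F P = c

theorem HasPiece.mono {c : ℕ} {W W' : Submodule F V} (h : HasPiece B g c W) (hle : W' ≤ W) : HasPiece B g c W' :=
  fun U hU => h U (hU.trans hle)

theorem exists_multi (halt : B.IsAlt) (hiso : ∀ u v, B (g u) (g v) = B u v) (hinj : Function.Injective g)
    {c : ℕ} (hc : 0 < c) {W : Submodule F V} (hp : HasPiece B g c W) (hnd : NdOn B W) (hW : W.map g ≤ W) :
    ∀ k : ℕ, k * c ≤ finrank F W →
      ∃ U : Submodule F V, U ≤ W ∧ NdOn B U ∧ U.map g ≤ U ∧ finrank F U = k * c := by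
  intro k
  induction k with
  | zero =>
    intro _
    exact ⟨⊥, bot_le, fun v hv hv0 => absurd ((Submodule.mem_bot F).1 hv) hv0, by simp, by simp⟩
  | succ k ih =>
    intro hk
    rw [add_mul, one_mul] at hk
    obtain ⟨U, hUW, hU, hUi, hUd⟩ := ih (by omega)
    obtain ⟨hsup, hd, hsum, hQ, ho⟩ := nd_split halt hnd hU hUW
    have hne : W ⊓ B.orthogonal U ≠ ⊥ := fun e => by rw [e, finrank_bot] at hsum; omega
    obtain ⟨P, hPQ, hP, hPi, hPd⟩ := hp _ inf_le_left hQ (perp_inv' hiso hinj hW hUi) hne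
    obtain ⟨h1, h2⟩ := nd_sup halt hU hP fun u hu v hv => ho u hu v (hPQ hv)
    refine ⟨U ⊔ P, sup_le hUW (hPQ.trans inf_le_left), h1, inv_sup hUi hPi, ?_⟩
    rw [finrank_sup_of_disjoint h2, hUd, hPd, add_mul, one_mul]

theorem dvd_finrank (halt : B.IsAlt) (hiso : ∀ u v, B (g u) (g v) = B u v) (hinj : Function.Injective g)
    {c : ℕ} (hc : 0 < c) {W : Submodule F V} (hp : HasPiece B g c W) (hnd : NdOn B W) (hW : W.map g ≤ W) :
    c ∣ finrank F W := by
  obtain ⟨U, hUW, hU, hUi, hUd⟩ := exists_multi halt hiso hinj hc hp hnd hW (finrank F W / c)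
    (Nat.div_mul_le_self _ _)
  obtain ⟨hsup, hd, hsum, hQ, -⟩ := nd_split halt hnd hU hUW
  by_contra hndvd
  have hne : W ⊓ B.orthogonal U ≠ ⊥ := fun e => by
    rw [e, finrank_bot, hUd, add_zero] at hsum
    exact hndvd ⟨_, hsum.symm.trans (mul_comm _ _)⟩
  obtain ⟨P, hPQ, -, -, hPd⟩ := hp _ inf_le_left hQ (perp_inv' hiso hinj hW hUi) hne
  have h1 := Submodule.finrank_mono hPQ
  have h2 := Nat.mod_add_div (finrank F W) c
  have h3 := Nat.mod_lt (finrank F W) hc
  rw [mul_comm c] at h2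
  omega

/-- an orthogonal family of invariant nondegenerate subspaces with given dimensions -/
theorem exists_family (halt : B.IsAlt) (hiso : ∀ u v, B (g u) (g v) = B u v) (hinj : Function.Injective g)
    {c : ℕ} (hc : 0 < c) :
    ∀ {t : ℕ} {W : Submodule F V}, HasPiece B g c W → NdOn B W → W.map g ≤ W → ∀ j : Fin t → ℕ,
      (∑ l, j l) * c = finrank F W →
      ∃ U : Fin t → Submodule F V,
        (∀ l, U l ≤ W ∧ NdOn B (U l) ∧ (U l).map g ≤ U l ∧ finrank F (U l) = j l * c) ∧
        (∀ l l', l ≠ l' → OrthTo B (U l) (U l')) ∧ iSup U = W := by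
  intro t
  induction t with
  | zero =>
    intro W _ _ _ j hj
    refine ⟨Fin.elim0, fun l => l.elim0, fun l => l.elim0, ?_⟩
    rw [iSup_of_empty, eq_comm, ← Submodule.finrank_eq_zero, ← hj]
    simp
  | succ t ih =>
    intro W hp hnd hW j hj
    rw [Fin.sum_univ_succ, add_mul] at hj
    obtain ⟨U₀, hUW, hU, hUi, hUd⟩ := exists_multi halt hiso hinj hc hp hnd hW (j 0) (by omega)
    obtain ⟨hsup, -, hsum, hQ, ho⟩ := nd_split halt hnd hU hUW
    obtain ⟨U, hUs, hUo, hUsup⟩ := ih (hp.mono inf_le_left) hQ (perp_inv' hiso hinj hW hUi) (fun l => j l.succ)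
      (by omega)
    have h0 : ∀ l, OrthTo B U₀ (U l) := fun l u hu v hv => ho u hu v ((hUs l).1 hv)
    refine ⟨Fin.cons U₀ U, fun l => ?_, fun l l' hne => ?_, ?_⟩
    · induction l using Fin.cases with
      | zero => exact ⟨hUW, hU, hUi, hUd⟩
      | succ l => exact ⟨(hUs l).1.trans inf_le_left, (hUs l).2⟩
    · induction l using Fin.cases with
      | zero =>
        induction l' using Fin.cases with
        | zero => exact absurd rfl hne
        | succ l' => exact h0 l'
      | succ l =>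
        induction l' using Fin.cases with
        | zero => exact (h0 l).symm halt
        | succ l' => exact hUo l l' fun e => hne (e ▸ rfl)
    · rw [← hsup, ← hUsup]
      refine le_antisymm (iSup_le fun l => ?_) (sup_le ?_ (iSup_le fun l => ?_))
      · induction l using Fin.cases with
        | zero => exact le_sup_left
        | succ l => exact (le_iSup U l).trans le_sup_right
      · exact le_iSup (Fin.cons U₀ U : Fin (t + 1) → Submodule F V) 0
      · exact le_iSup (Fin.cons U₀ U : Fin (t + 1) → Submodule F V) l.succ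

/-- planes inside a subspace of fixed vectors -/
theorem hasPiece_fixed [Fintype F] (halt : B.IsAlt) : HasPiece B g 2 (fixSp g) := by
  intro W hW hnd _ hne
  obtain ⟨v, hv, hv0⟩ := Submodule.exists_mem_ne_zero_of_ne_bot hne
  obtain ⟨w, hw, hvw⟩ := hnd v hv hv0
  obtain ⟨h1, h2, h3, -⟩ := plane_split halt hv hw hvw
  refine ⟨_, h3, h2, ?_, h1⟩
  rintro _ ⟨y, hy, rfl⟩
  rw [mem_fixSp.1 (hW (h3 hy))]
  exact hy

theorem adjoint (hiso : ∀ u v, B (g u) (g v) = B u v) {r : ℕ} (hr : 0 < r) (hg : g ^ r = 1) (u v : V) :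
    B u (g v) = B ((g ^ (r - 1)) u) v := by
  conv_rhs => rw [← hiso]
  rw [← Module.End.mul_apply, ← pow_succ', Nat.sub_add_cancel hr, hg, Module.End.one_apply]

theorem adjoint_pow (hiso : ∀ u v, B (g u) (g v) = B u v) {r : ℕ} (hr : 0 < r) (hg : g ^ r = 1) :
    ∀ (k : ℕ) (u v : V), B u ((g ^ k) v) = B (((g ^ (r - 1)) ^ k) u) v := by
  intro k
  induction k with
  | zero => intro u v; simp
  | succ k ih =>
    intro u v
    rw [pow_succ', Module.End.mul_apply, adjoint hiso hr hg, ih, pow_succ (g ^ (r - 1)), Module.End.mul_apply]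

theorem adjoint_aeval (hiso : ∀ u v, B (g u) (g v) = B u v) {r : ℕ} (hr : 0 < r) (hg : g ^ r = 1) (P : F[X])
    (u v : V) : B u (aeval g P v) = B (aeval (g ^ (r - 1)) P u) v := by
  induction P using Polynomial.induction_on' with
  | add P Q hP hQ => simp only [map_add, LinearMap.add_apply, hP, hQ]
  | monomial l a =>
    simp only [aeval_monomial, Module.End.mul_apply, Module.algebraMap_end_apply, map_smul, LinearMap.smul_apply,
      adjoint_pow hiso hr hg]

theorem aeval_pow_card [Fintype F] (P : F[X]) :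
    ∀ h : ℕ, aeval (g ^ (Fintype.card F ^ h)) P = aeval g P ^ (Fintype.card F ^ h) := by
  intro h
  induction h generalizing P with
  | zero => simp
  | succ h ih =>
    have e : aeval (g ^ (Fintype.card F ^ (h + 1))) P =
        aeval (g ^ (Fintype.card F ^ h)) (expand F (Fintype.card F) P) := by
      rw [expand_aeval, ← pow_mul, ← pow_succ]
    rw [e, FiniteField.expand_card, map_pow, ih, ← pow_mul, ← pow_succ]

theorem pow_eq_of_modEq {r : ℕ} (hg : g ^ r = 1) {a b : ℕ} (h : (a : ZMod r) = b) : g ^ a = g ^ b :=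
  (pow_eq_pow_mod a hg).trans ((congrArg (fun k => g ^ k) ((ZMod.natCast_eq_natCast_iff' _ _ _).1 h)).trans
    (pow_eq_pow_mod b hg).symm)

/-- the basic piece: a free invariant nondegenerate space contains one of dimension `c` -/
theorem hasPiece_free [Fintype F] (halt : B.IsAlt) (hiso : ∀ u v, B (g u) (g v) = B u v) {r : ℕ}
    [hr : Fact r.Prime] (hr2 : r ≠ 2) (hr0 : (r : F) ≠ 0) (hg : g ^ r = 1) {W : Submodule F V}
    (hfree : ∀ v ∈ W, g v = v → v = 0) {i c : ℕ} (hi : i = orderOf ((Fintype.card F : ℕ) : ZMod r))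
    (hc : c = if Even i then i else 2 * i) : HasPiece B g c W := by
  classical
  intro W' hW' hnd hinv hne
  have hfree' : ∀ v ∈ W', g v = v → v = 0 := fun v hv => hfree v (hW' hv)
  have hgr : ∀ v, (g ^ r) v = v := fun v => by rw [hg]; rfl
  have hss : Module.End.IsSemisimple g := isSemisimple_of_pow (c := 1) (fun v => by rw [hgr, one_smul]) hr0 one_ne_zero
  have hinj : Function.Injective g := fun u v e => by
    have := congrArg (g ^ (r - 1)) e
    rwa [← Module.End.mul_apply, ← Module.End.mul_apply, ← pow_succ, Nat.sub_add_cancel hr.out.one_lt.le, hgr, hgr] at this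
  have hH := homog_of_free hr0 hinv (fun v _ => hgr v) hfree'
  rw [← hi] at hH
  have hi0 := hH.pos
  by_cases hev : Even i
  · rw [if_pos hev] at hc
    subst c
    obtain ⟨h, hh⟩ := hev
    set q := Fintype.card F with hqdef
    have hq2 : 2 ≤ q := Fintype.one_lt_card
    have hqh : ((q ^ h : ℕ) : ZMod r) = ((r - 1 : ℕ) : ZMod r) := by
      rw [Nat.cast_pow, Nat.cast_sub hr.out.one_lt.le, ZMod.natCast_self, Nat.cast_one, zero_sub]
      have h2 : ((q : ZMod r) ^ h) ^ 2 = 1 := by
        rw [← pow_mul, show h * 2 = i by omega, hi, pow_orderOf_eq_one]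
      rcases sq_eq_one_iff.1 h2 with h3 | h3
      · exfalso
        have h4 := Nat.le_of_dvd (by omega) (orderOf_dvd_of_pow_eq_one h3)
        omega
      · exact h3
    have hqi : ((q ^ i : ℕ) : ZMod r) = ((1 : ℕ) : ZMod r) := by
      rw [Nat.cast_pow, Nat.cast_one, hi, pow_orderOf_eq_one]
    obtain ⟨gs, hgs, hkill⟩ := hH.kill
    have hex : ∀ gs : List F[X], (∀ P ∈ gs, P.Monic ∧ P.natDegree ≤ i) → ∀ v ∈ W', v ≠ 0 → aeval g gs.prod v = 0 →
        ∃ P : F[X], P.Monic ∧ P.natDegree ≤ i ∧ ∃ u ∈ W', u ≠ 0 ∧ aeval g P u = 0 := by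
      intro gs
      induction gs with
      | nil => intro _ v _ hv h; simp at h; exact absurd h hv
      | cons P gs ih =>
        intro hd v hvW hv0 h
        by_cases hin : aeval g gs.prod v = 0
        · exact ih (fun P hP => hd P (List.mem_cons_of_mem _ hP)) v hvW hv0 hin
        · rw [List.prod_cons, map_mul, Module.End.mul_apply] at h
          exact ⟨P, (hd P List.mem_cons_self).1, (hd P List.mem_cons_self).2, _, aeval_mem hinv _ hvW, hin, h⟩
    obtain ⟨v₀, hv₀, hv₀0⟩ := Submodule.exists_mem_ne_zero_of_ne_bot hne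
    obtain ⟨P, hPm, hPd, u₀, hu₀, hu₀0, hPu₀⟩ := hex gs hgs v₀ hv₀ hv₀0 (hkill v₀ hv₀)
    set T := aeval g P with hT
    have hadj : ∀ u v, B u (T v) = B ((T ^ (q ^ h)) u) v := fun u v => by
      rw [hT, adjoint_aeval hiso hr.out.pos hg, ← pow_eq_of_modEq hg hqh, aeval_pow_card]
    have hTi : T ^ (q ^ i) = T := by
      rw [hT, ← aeval_pow_card, pow_eq_of_modEq hg hqi, pow_one]
    let TW : W' →ₗ[F] W' := T.restrict fun v hv => aeval_mem hinv P hv
    set K : Submodule F V := W' ⊓ LinearMap.ker T with hK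
    set R : Submodule F V := (LinearMap.range TW).map W'.subtype with hR
    have hKinv : K.map g ≤ K := by
      rintro _ ⟨v, hv, rfl⟩
      refine ⟨hinv ⟨v, hv.1, rfl⟩, LinearMap.mem_ker.2 ?_⟩
      have e : T (g v) = g (T v) := by
        rw [hT, ← Module.End.mul_apply, ← Module.End.mul_apply]
        exact congrArg (fun S : Module.End F V => S v)
          ((Commute.all P X).map (aeval g) |>.eq.trans (by rfl) |> fun h => by simpa using h)
      rw [e, LinearMap.mem_ker.1 hv.2, map_zero]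
    have hTpow : ∀ (v : V), T v = 0 → ∀ k, 0 < k → (T ^ k) v = 0 := fun v hv k hk => by
      rw [show k = k - 1 + 1 by omega, pow_succ, Module.End.mul_apply, hv, map_zero]
    have hdisj : Disjoint K R := by
      rw [Submodule.disjoint_def]
      intro v hv hvR
      obtain ⟨⟨w, hw⟩, ⟨⟨u, hu⟩, e⟩, rfl⟩ := hvR
      have e2 : T u = w := congrArg Subtype.val e
      have h2 : T (T u) = 0 := by rw [e2]; exact LinearMap.mem_ker.1 hv.2
      show w = 0
      rw [← e2, ← hTi]
      have hq4 : 2 ≤ q ^ i := le_trans hq2 (Nat.le_self_pow (by omega) q)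
      rw [show q ^ i = q ^ i - 2 + 1 + 1 by omega, pow_succ, pow_succ, Module.End.mul_apply, Module.End.mul_apply,
        h2, map_zero]
    have hsum : finrank F K + finrank F R = finrank F W' := by
      have h1 := LinearMap.finrank_range_add_finrank_ker TW
      have h2 : finrank F R = finrank F (LinearMap.range TW) := by
        rw [hR, Submodule.finrank_map_subtype_eq]
      have h3 : (LinearMap.ker TW).map W'.subtype = K := by
        ext v
        constructor
        · rintro ⟨⟨w, hw⟩, hk, rfl⟩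
          exact ⟨hw, LinearMap.mem_ker.2 (congrArg Subtype.val (LinearMap.mem_ker.1 hk))⟩
        · rintro ⟨hv, hk⟩
          exact ⟨⟨v, hv⟩, LinearMap.mem_ker.2 (Subtype.ext (LinearMap.mem_ker.1 hk)), rfl⟩
      rw [h2, ← h3, Submodule.finrank_map_subtype_eq]
      omega
    have hKR : K ⊔ R = W' :=
      Submodule.eq_of_le_of_finrank_le (sup_le inf_le_left (Submodule.map_subtype_le _ _))
        (by rw [finrank_sup_of_disjoint hdisj, hsum])
    have hKnd : NdOn B K := fun v hv hv0 => by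
      by_contra hcon
      push Not at hcon
      obtain ⟨u, hu, huv⟩ := hnd v hv.1 hv0
      rw [← hKR] at hu
      obtain ⟨a, ha, b, hb, rfl⟩ := Submodule.mem_sup.1 hu
      refine huv ?_
      obtain ⟨⟨w, hw⟩, ⟨⟨y, hy⟩, e⟩, rfl⟩ := hb
      have e2 : T y = w := congrArg Subtype.val e
      show B v (a + w) = 0
      rw [map_add, hcon a ha, ← e2, hadj, hTpow v (LinearMap.mem_ker.1 hv.2) _ (Nat.pow_pos (by omega)),
        map_zero, LinearMap.zero_apply, zero_add]
    have hsw : ∀ x y, B y x = - B x y := fun x y => (LinearMap.IsAlt.neg halt x y).symm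
    obtain ⟨v, hvK, hvg⟩ : ∃ v ∈ K, B v (g v) ≠ 0 := by
      by_contra hcon
      push Not at hcon
      have hgK : ∀ x ∈ K, g x ∈ K := fun x hx => hKinv ⟨x, hx, rfl⟩
      have hsq : ∀ u ∈ K, g (g u) = u := fun u hu => by
        rw [← sub_eq_zero]
        by_contra h0
        obtain ⟨y, hy, hy0⟩ := hKnd _ (sub_mem (hgK _ (hgK u hu)) hu) h0
        rw [← map_eq_of_inv hinj hKinv] at hy
        obtain ⟨z, hz, rfl⟩ := hy
        refine hy0 ?_
        have e := hcon (u + z) (add_mem hu hz)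
        simp only [map_add, LinearMap.add_apply, hcon u hu, hcon z hz, zero_add, add_zero] at e
        rw [hsw (g u) z] at e
        rw [map_sub, LinearMap.sub_apply, hiso]
        linear_combination (norm := ring1) -e
      obtain ⟨u, hu, hu0⟩ := Submodule.exists_mem_ne_zero_of_ne_bot
        (show K ≠ ⊥ from fun e => hu₀0 ((Submodule.mem_bot F).1 (e ▸ ⟨hu₀, LinearMap.mem_ker.2 hPu₀⟩)))
      refine hu0 (hfree' u hu.1 ?_)
      have hodd : ∀ k, (g ^ (2 * k)) u = u := fun k => by
        induction k with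
        | zero => simp
        | succ k ih => rw [Nat.mul_succ, pow_succ', pow_succ', Module.End.mul_apply, Module.End.mul_apply, ih, hsq u hu]
      obtain ⟨m, hm⟩ := hr.out.odd_of_ne_two hr2
      have := hgr u
      rwa [hm, pow_succ', Module.End.mul_apply, hodd] at this
    set δ := P.natDegree with hδ
    set S := Submodule.span F (Set.range fun l : Fin δ => (g ^ (l : ℕ)) v) with hS
    have hgK : ∀ k, (g ^ k) v ∈ K := fun k => by
      induction k with
      | zero => simpa using hvK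
      | succ k ih => rw [pow_succ', Module.End.mul_apply]; exact hKinv ⟨_, ih, rfl⟩
    have hSK : S ≤ K := by
      rw [hS, Submodule.span_le]; rintro _ ⟨l, rfl⟩; exact hgK _
    have hlast : (g ^ δ) v ∈ S := by
      have h1 : aeval g P v = 0 := LinearMap.mem_ker.1 hvK.2
      rw [aeval_eq_sum_range, LinearMap.sum_apply, Finset.sum_range_succ] at h1
      rw [show (P.coeff P.natDegree • g ^ P.natDegree) v = (g ^ δ) v by
        rw [hPm.coeff_natDegree, one_smul]] at h1
      rw [eq_neg_of_add_eq_zero_right h1]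
      refine S.neg_mem (S.sum_mem fun l hl => ?_)
      rw [LinearMap.smul_apply]
      exact S.smul_mem _ (Submodule.subset_span ⟨⟨l, Finset.mem_range.1 hl⟩, rfl⟩)
    have hSi : S.map g ≤ S := by
      rw [hS, Submodule.map_span, Submodule.span_le]
      rintro _ ⟨_, ⟨l, rfl⟩, rfl⟩
      show g ((g ^ (l : ℕ)) v) ∈ S
      rw [← Module.End.mul_apply, ← pow_succ']
      rcases Nat.lt_or_ge ((l : ℕ) + 1) δ with hl | hl
      · exact Submodule.subset_span ⟨⟨_, hl⟩, rfl⟩
      · rwa [show (l : ℕ) + 1 = δ by omega]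
    have hpowS : ∀ k, (g ^ k) v ∈ S → (g ^ (k + 1)) v ∈ S := fun k hk => by
      rw [pow_succ', Module.End.mul_apply]; exact hSi ⟨_, hk, rfl⟩
    have hvS : v ∈ S := by
      rcases Nat.eq_zero_or_pos δ with h0 | hpos
      · simpa [h0] using hlast
      · exact Submodule.subset_span ⟨⟨0, hpos⟩, by simp⟩
    have hSd : finrank F S ≤ i := by
      have h1 := finrank_range_le_card (R := F) fun l : Fin δ => (g ^ (l : ℕ)) v
      rw [Fintype.card_fin] at h1
      exact h1.trans hPd
    have hSW : S ≤ W' := hSK.trans inf_le_left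
    have hS0 : finrank F S ≠ 0 := by
      rw [Ne, Submodule.finrank_eq_zero]
      intro e
      rw [e, Submodule.mem_bot] at hvS
      exact hvg (by simp [hvS])
    have hSdi : finrank F S = i := le_antisymm hSd (Nat.le_of_dvd (Nat.pos_of_ne_zero hS0) (hH.dvd S hSi hSW))
    refine ⟨S, hSW, fun w hw hw0 => ?_, hSi, hSdi⟩
    by_contra hcon
    push Not at hcon
    have hrad : w ∈ S ⊓ B.orthogonal S :=
      mem_perp.2 ⟨hw, fun s hs => by rw [hsw w s, hcon s hs, neg_zero]⟩
    have hR0 : finrank F ↥(S ⊓ B.orthogonal S) ≠ 0 := by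
      rw [Ne, Submodule.finrank_eq_zero]
      intro e
      rw [e, Submodule.mem_bot] at hrad
      exact hw0 hrad
    have hdv := hH.dvd _ (perp_inv' hiso hinj hSi hSi) (inf_le_left.trans hSW)
    have hle := Nat.le_of_dvd (Nat.pos_of_ne_zero hR0) hdv
    have hall : S ⊓ B.orthogonal S = S := Submodule.eq_of_le_of_finrank_le inf_le_left (by omega)
    have hgvS : g v ∈ S ⊓ B.orthogonal S := by rw [hall]; exact hSi ⟨v, hvS, rfl⟩
    exact hvg ((mem_perp.1 hgvS).2 v hvS)
  · rw [if_neg hev] at hc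
    subst c
    obtain ⟨j, hj⟩ := hH.dvd W' hinv le_rfl
    have hj0 : 0 < j := Nat.pos_of_ne_zero fun e => hne (Submodule.finrank_eq_zero.1 (by rw [hj, e, mul_zero]))
    obtain ⟨U, hU, hUW, hUd⟩ := hH.exists_sub 1 (by rw [one_mul, hj]; exact Nat.le_mul_of_pos_right _ hj0)
    rw [one_mul] at hUd
    have hsw : ∀ x y, B y x = - B x y := fun x y => (LinearMap.IsAlt.neg halt x y).symm
    have hiso' : ∀ u ∈ U, ∀ v ∈ U, B u v = 0 := by
      by_cases hrad : U ⊓ B.orthogonal U = ⊥
      · exfalso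
        obtain ⟨m, e, f, hef⟩ := Bases.exists_sympFamily B halt U fun u hu h => by
          have : u ∈ U ⊓ B.orthogonal U := mem_perp.2 ⟨hu, fun p hp => by rw [hsw u p, h p hp, neg_zero]⟩
          rwa [hrad, Submodule.mem_bot] at this
        have := hef.finrank_eq
        exact hev ⟨m, by omega⟩
      · have hdv := hH.dvd _ (perp_inv' hiso hinj hU hU) (inf_le_left.trans hUW)
        have h1 : finrank F ↥(U ⊓ B.orthogonal U) ≠ 0 := fun e => hrad (Submodule.finrank_eq_zero.1 e)
        have hle := Nat.le_of_dvd (Nat.pos_of_ne_zero h1) hdv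
        have hall : U ⊓ B.orthogonal U = U := Submodule.eq_of_le_of_finrank_le inf_le_left (by omega)
        intro u hu v hv
        rw [← hall] at hv
        exact (mem_perp.1 hv).2 u hu
    set U' := W' ⊓ B.orthogonal U with hU'
    have hU'i := perp_inv' hiso hinj hinv hU
    obtain ⟨Q, hQ, hQW, hQd, hQsup, hQsum⟩ := exists_compl hss hU'i hinv inf_le_left
    have hUU' : U ≤ U' := fun u hu => mem_perp.2 ⟨hUW hu, fun p hp => hiso' p hp u hu⟩
    have hQle : finrank F Q ≤ i := by
      have := orth_dim (B := B) W' U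
      omega
    have hQ0 : finrank F Q ≠ 0 := by
      intro e
      have e2 : U' = W' := by rw [← hQsup, Submodule.finrank_eq_zero.1 e, sup_bot_eq]
      obtain ⟨u, hu, hu0⟩ := Submodule.exists_mem_ne_zero_of_ne_bot
        (show U ≠ ⊥ from fun e' => by rw [e', finrank_bot] at hUd; omega)
      obtain ⟨w, hw, huw⟩ := hnd u (hUW hu) hu0
      rw [← e2] at hw
      exact huw ((mem_perp.1 hw).2 u hu)
    have hQdi : finrank F Q = i := le_antisymm hQle (Nat.le_of_dvd (Nat.pos_of_ne_zero hQ0) (hH.dvd Q hQ hQW))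
    have hdUQ : Disjoint U Q := hQd.mono_left hUU'
    refine ⟨U ⊔ Q, sup_le hUW hQW, fun s hs hs0 => ?_, inv_sup hU hQ, by
      rw [finrank_sup_of_disjoint hdUQ, hUd, hQdi]; ring⟩
    by_contra hcon
    push Not at hcon
    obtain ⟨u, hu, y, hy, rfl⟩ := Submodule.mem_sup.1 hs
    have hy0 : y = 0 := by
      refine Submodule.disjoint_def.1 hQd y (mem_perp.2 ⟨hQW hy, fun p hp => ?_⟩) hy
      have e := hcon p (Submodule.mem_sup_left hp)
      rw [map_add, LinearMap.add_apply, hiso' u hu p hp, zero_add] at e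
      rw [hsw y p, e, neg_zero]
    subst hy0
    rw [add_zero] at hs0 hcon
    obtain ⟨w, hw, huw⟩ := hnd u (hUW hu) hs0
    rw [← hQsup] at hw
    obtain ⟨a, ha, b, hb, rfl⟩ := Submodule.mem_sup.1 hw
    rw [map_add, hcon b (Submodule.mem_sup_right hb), add_zero] at huw
    exact huw ((mem_perp.1 ha).2 u hu)

/-- the fixed part of a nondegenerate invariant subspace and its orthogonal -/
theorem fix_split [Fintype F] (halt : B.IsAlt) (hiso : ∀ u v, B (g u) (g v) = B u v) {r : ℕ}
    [hr : Fact r.Prime] (hr0 : (r : F) ≠ 0) (hg : g ^ r = 1) {W : Submodule F V} (hnd : NdOn B W)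
    (hW : W.map g ≤ W) :
    NdOn B (fixSp g ⊓ W) ∧ (fixSp g ⊓ W) ⊔ (W ⊓ B.orthogonal (fixSp g ⊓ W)) = W ∧
      finrank F ↥(fixSp g ⊓ W) + finrank F ↥(W ⊓ B.orthogonal (fixSp g ⊓ W)) = finrank F W ∧
      NdOn B (W ⊓ B.orthogonal (fixSp g ⊓ W)) ∧
      (W ⊓ B.orthogonal (fixSp g ⊓ W)).map g ≤ W ⊓ B.orthogonal (fixSp g ⊓ W) ∧
      ∀ v ∈ W ⊓ B.orthogonal (fixSp g ⊓ W), g v = v → v = 0 := by
  have hgr : ∀ v, (g ^ r) v = v := fun v => by rw [hg]; rfl
  have hinj : Function.Injective g := fun u v e => by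
    have := congrArg (g ^ (r - 1)) e
    rwa [← Module.End.mul_apply, ← Module.End.mul_apply, ← pow_succ, Nat.sub_add_cancel hr.out.one_lt.le, hgr, hgr] at this
  obtain ⟨D, hDW, hdD, hd', hD, hsum⟩ := exists_free_part hr0 hgr hW
  have hsup : (fixSp g ⊓ W) ⊔ D = W :=
    Submodule.eq_of_le_of_finrank_le (sup_le inf_le_right hDW) (by rw [finrank_sup_of_disjoint hdD, hsum])
  have horth : ∀ u ∈ fixSp g, ∀ v ∈ D, B u v = 0 := by
    intro u hu v hv
    let φ : D →ₗ[F] D := (g - 1).restrict fun x hx => sub_mem (hD.inv ⟨x, hx, rfl⟩) hx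
    have hφ : Function.Injective φ := (injective_iff_map_eq_zero φ).2 fun x hx => Subtype.ext
      (Submodule.disjoint_def.1 hd' _ (mem_fixSp.2 (sub_eq_zero.1 (congrArg Subtype.val hx :))) x.2)
    obtain ⟨⟨w, hw⟩, e⟩ := LinearMap.injective_iff_surjective.1 hφ ⟨v, hv⟩
    have e2 : g w - w = v := congrArg Subtype.val e
    rw [← e2, map_sub]
    nth_rw 1 [← mem_fixSp.1 hu]
    rw [hiso, sub_self]
  have hFnd : NdOn B (fixSp g ⊓ W) := fun u hu hu0 => by
    obtain ⟨w, hw, huw⟩ := hnd u hu.2 hu0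
    rw [← hsup] at hw
    obtain ⟨a, ha, b, hb, rfl⟩ := Submodule.mem_sup.1 hw
    rw [map_add, horth u hu.1 b hb, add_zero] at huw
    exact ⟨a, ha, huw⟩
  obtain ⟨h1, h2, h3, h4, -⟩ := nd_split halt hnd hFnd inf_le_right
  exact ⟨hFnd, h1, h3, h4, perp_inv' hiso hinj hW (inv_inf (fixSp_inv g) hW),
    fun v hv hgv => Submodule.disjoint_def.1 h2 v ⟨mem_fixSp.2 hgv, (mem_perp.1 hv).1⟩ hv⟩

end Cfsg.Agent.Forms.Elusive.Pieces
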