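import Mathlib
import Cfsg.Agent.Lib.Forms.Elusive.Semisimple

/-!
# Model elements of prime order and scalars
-/

set_option autoImplicit false
set_option linter.unusedSectionVars false

open Polynomial Module

namespace Cfsg.Agent.Forms.Elusive

variable {F : Type*} [Field F] [Fintype F]

theorem natCast_prime_ne_zero (p : ℕ) [Fact p.Prime] [CharP F p] {r : ℕ} [hr : Fact r.Prime]
    (h : r ≠ p) : (r : F) ≠ 0 := by
  rw [Ne, CharP.cast_eq_zero_iff F p]
  exact fun hd => h ((Nat.prime_dvd_prime_iff_eq Fact.out hr.out).1 hd).symm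

theorem charP_eq_of_cast_eq_zero (p : ℕ) [Fact p.Prime] [CharP F p] (r : ℕ) [hr : Fact r.Prime] :
    ((Fintype.card F : ℕ) : ZMod r) = 0 ↔ r = p := by
  obtain ⟨k, -, hk⟩ := FiniteField.card F p
  rw [ZMod.natCast_eq_zero_iff, hk]
  refine ⟨fun h => (Nat.prime_dvd_prime_iff_eq hr.out Fact.out).1 (hr.out.dvd_of_dvd_pow h), ?_⟩
  rintro rfl
  exact dvd_pow_self r k.pos.ne'

theorem order_one_iff (r : ℕ) [hr : Fact r.Prime] :
    orderOf ((Fintype.card F : ℕ) : ZMod r) = 1 ↔ r ∣ Fintype.card F - 1 := by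
  rw [orderOf_eq_one_iff, ← Nat.modEq_iff_dvd' Fintype.card_pos, ← ZMod.natCast_eq_natCast_iff,
    Nat.cast_one]
  exact eq_comm

/-- every scalar is an `r`-th power when `r ∤ q - 1` -/
theorem exists_root_of_not_dvd {r : ℕ} [hr : Fact r.Prime] (h : ¬ r ∣ Fintype.card F - 1) (c : F) :
    ∃ d : F, d ^ r = c := by
  rcases eq_or_ne c 0 with rfl | hc
  · exact ⟨0, zero_pow hr.out.ne_zero⟩
  have hcop : (Nat.card Fˣ).Coprime r := by
    rw [Nat.card_units, Nat.card_eq_fintype_card]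
    exact ((hr.out.coprime_iff_not_dvd).2 h).symm
  refine ⟨(((powCoprime hcop).symm (Units.mk0 c hc) : Fˣ) : F), ?_⟩
  rw [← Units.val_pow_eq_pow_val]
  exact congrArg Units.val ((powCoprime hcop).apply_symm_apply (Units.mk0 c hc))

theorem eq_one_of_pow_eq_one {r : ℕ} [hr : Fact r.Prime] (h : ¬ r ∣ Fintype.card F - 1) {d : F}
    (hd : d ^ r = 1) : d = 1 := by
  have hd0 : d ≠ 0 := fun e => by rw [e, zero_pow hr.out.ne_zero] at hd; exact zero_ne_one hd
  have h1 := Nat.dvd_gcd (orderOf_dvd_of_pow_eq_one hd)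
    (orderOf_dvd_of_pow_eq_one (FiniteField.pow_card_sub_one_eq_one d hd0))
  rw [Nat.Coprime.gcd_eq_one ((hr.out.coprime_iff_not_dvd).2 h), Nat.dvd_one] at h1
  exact orderOf_eq_one_iff.1 h1

/-- the criterion for being an `r`-th power -/
theorem pow_iff {r : ℕ} [hr : Fact r.Prime] (h : r ∣ Fintype.card F - 1) {e : F} (he : e ≠ 0) :
    (∃ d : F, d ^ r = e) ↔ e ^ ((Fintype.card F - 1) / r) = 1 := by
  constructor
  · rintro ⟨d, rfl⟩
    rw [← pow_mul, Nat.mul_div_cancel' h]
    exact FiniteField.pow_card_sub_one_eq_one d fun e' => he (by rw [e', zero_pow hr.out.ne_zero])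
  · intro h1
    obtain ⟨g, hg⟩ := IsCyclic.exists_generator (α := Fˣ)
    have hog : orderOf g = Fintype.card F - 1 := by
      rw [orderOf_eq_card_of_forall_mem_zpowers hg, Nat.card_units, Nat.card_eq_fintype_card]
    obtain ⟨w, hw⟩ : Units.mk0 e he ∈ Submonoid.powers g :=
      mem_powers_iff_mem_zpowers.2 (hg (Units.mk0 e he))
    have hw' : ((g : F)) ^ w = e := by rw [← Units.val_pow_eq_pow_val]; exact congrArg Units.val hw
    rw [← hw', ← pow_mul, ← Units.val_pow_eq_pow_val, Units.val_eq_one, ← orderOf_dvd_iff_pow_eq_one,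
      hog] at h1
    obtain ⟨u, hu⟩ := h
    have hu0 : 0 < u := by
      rcases Nat.eq_zero_or_pos u with rfl | h' <;> [skip; exact h']
      have := Fintype.one_lt_card (α := F); omega
    rw [hu, Nat.mul_div_cancel_left _ hr.out.pos] at h1
    obtain ⟨v, rfl⟩ := Nat.dvd_of_mul_dvd_mul_right hu0 h1
    exact ⟨(g : F) ^ v, by rw [← pow_mul, mul_comm, hw']⟩

/-- some non-power `e` has `e ^ k = 1` exactly when `k` carries the whole `r`-part of `q - 1` -/
theorem exists_nonpow_iff {r : ℕ} [hr : Fact r.Prime] (h : r ∣ Fintype.card F - 1) {k : ℕ} (hk : 0 < k) :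
    (∃ e : F, (∀ d : F, d ^ r ≠ e) ∧ e ^ k = 1) ↔
      padicValNat r (Fintype.card F - 1) ≤ padicValNat r k := by
  have hQ : Fintype.card F - 1 ≠ 0 := by have := Fintype.one_lt_card (α := F); omega
  set Q := Fintype.card F - 1 with hQdef
  obtain ⟨u, hu⟩ : r ^ padicValNat r Q ∣ Q := pow_padicValNat_dvd
  have hru : ¬ r ∣ u := by
    rintro ⟨w, rfl⟩
    refine pow_succ_padicValNat_not_dvd (p := r) hQ ⟨w, ?_⟩
    rw [pow_succ, mul_assoc]; exact hu
  constructor
  · rintro ⟨e, he, hek⟩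
    by_contra hlt
    have he0 : e ≠ 0 := fun e' => he 0 (by rw [e', zero_pow hr.out.ne_zero])
    obtain ⟨d, hd⟩ : ∃ d : F, d ^ r = e := by
      refine (pow_iff h he0).2 (orderOf_dvd_iff_pow_eq_one.1 ?_)
      have hoQ : orderOf e ∣ Q := orderOf_dvd_of_pow_eq_one (FiniteField.pow_card_sub_one_eq_one e he0)
      have hok : orderOf e ∣ k := orderOf_dvd_of_pow_eq_one hek
      obtain ⟨a, ha⟩ := hoQ
      have hra : r ∣ a := by
        by_contra hna
        refine hlt ((padicValNat_dvd_iff_le hk.ne').1 (Dvd.dvd.trans ?_ hok))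
        have : (r ^ padicValNat r Q).Coprime a := (hr.out.coprime_iff_not_dvd.2 hna).pow_left _
        exact this.dvd_of_dvd_mul_right (ha ▸ ⟨u, hu⟩)
      obtain ⟨b, rfl⟩ := hra
      rw [← hQdef, ha, mul_left_comm, Nat.mul_div_cancel_left _ hr.out.pos]
      exact dvd_mul_right _ _
    exact he d hd
  · intro hle
    obtain ⟨g, hg⟩ := IsCyclic.exists_generator (α := Fˣ)
    have hog : orderOf g = Q := by
      rw [orderOf_eq_card_of_forall_mem_zpowers hg, Nat.card_units, Nat.card_eq_fintype_card]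
    refine ⟨(g : F) ^ u, fun d hd => hru ?_, ?_⟩
    · have hg0 : (g : F) ^ u ≠ 0 := pow_ne_zero _ g.ne_zero
      have h1 := (pow_iff h hg0).1 ⟨d, hd⟩
      rw [← pow_mul, ← Units.val_pow_eq_pow_val, Units.val_eq_one, ← orderOf_dvd_iff_pow_eq_one, hog] at h1
      obtain ⟨w, hw⟩ := h
      have hw' : Q = r * w := hw
      have hw0 : 0 < w := Nat.pos_of_ne_zero fun e => hQ (by rw [hw', e, mul_zero])
      rw [hQdef.symm, hw', Nat.mul_div_cancel_left _ hr.out.pos] at h1
      exact Nat.dvd_of_mul_dvd_mul_right hw0 h1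
    · rw [← pow_mul, ← Units.val_pow_eq_pow_val, Units.val_eq_one, ← orderOf_dvd_iff_pow_eq_one, hog, hu,
        mul_comm u k]
      exact Nat.mul_dvd_mul_right ((pow_dvd_pow r hle).trans pow_padicValNat_dvd) u

theorem neg_one_is_pow {r : ℕ} [hr : Fact r.Prime] (h : r = 2 → Fintype.card F % 4 = 1) :
    ∃ i : F, i ^ r = (-1) ^ (r + 1) := by
  rcases hr.out.eq_two_or_odd' with rfl | ho
  · obtain ⟨i, hi⟩ := (FiniteField.isSquare_neg_one_iff (F := F)).2 (by have := h rfl; omega)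
    exact ⟨i, by rw [pow_two, ← hi]; norm_num⟩
  · refine ⟨1, ?_⟩
    rw [one_pow]
    exact (Even.neg_one_pow (Nat.even_add_one.2 (Nat.not_even_iff_odd.2 ho))).symm

/-- when some `c` with `c` no `r`-th power has `((-1) ^ (r + 1) c) ^ (n / r) = 1` -/
theorem exists_twist_iff {r : ℕ} [hr : Fact r.Prime] (h : r ∣ Fintype.card F - 1) {n k : ℕ}
    (hn : n = r * k) (hk : 0 < k) :
    (∃ c : F, (∀ d : F, d ^ r ≠ c) ∧ ((-1) ^ (r + 1) * c) ^ k = 1) ↔
      ¬ (padicValNat r n ≤ padicValNat r (Fintype.card F - 1) ∧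
        (r = 2 → Even n → Fintype.card F % 4 = 1)) := by
  have hv : padicValNat r n = padicValNat r k + 1 := by
    rw [hn, padicValNat.mul hr.out.ne_zero hk.ne', padicValNat_self]; omega
  have hsign : ((-1 : F) ^ (r + 1)) * (-1) ^ (r + 1) = 1 := by rw [← mul_pow]; norm_num
  by_cases h4 : r = 2 → Fintype.card F % 4 = 1
  · obtain ⟨i, hi⟩ := neg_one_is_pow (F := F) h4
    have hi0 : i ≠ 0 := fun e => by
      rw [e, zero_pow hr.out.ne_zero] at hi
      exact pow_ne_zero _ (neg_ne_zero.2 one_ne_zero) hi.symm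
    have hiff : ∀ c : F, (∀ d : F, d ^ r ≠ (-1) ^ (r + 1) * c) ↔ ∀ d : F, d ^ r ≠ c := by
      intro c
      constructor
      · intro hh d hd; exact hh (i * d) (by rw [mul_pow, hi, hd])
      · intro hh d hd; exact hh (d / i) (by rw [div_pow, hd, hi, mul_div_assoc]; field_simp)
    have h' := exists_nonpow_iff h hk
    have e : (∃ c : F, (∀ d : F, d ^ r ≠ c) ∧ ((-1) ^ (r + 1) * c) ^ k = 1) ↔
        ∃ e : F, (∀ d : F, d ^ r ≠ e) ∧ e ^ k = 1 := by
      constructor
      · rintro ⟨c, hc, hck⟩; exact ⟨_, (hiff c).2 hc, hck⟩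
      · rintro ⟨e, he, hek⟩
        have e' : (-1 : F) ^ (r + 1) * ((-1) ^ (r + 1) * e) = e := by rw [← mul_assoc, hsign, one_mul]
        exact ⟨(-1) ^ (r + 1) * e, (hiff e).2 he, by rwa [e']⟩
    rw [e, h', hv]
    constructor
    · rintro hle ⟨h1, -⟩; omega
    · intro hh
      by_contra hlt
      exact hh ⟨by omega, fun h2 _ => h4 h2⟩
  · push Not at h4
    obtain ⟨rfl, h4⟩ := h4
    refine iff_of_true ⟨-1, fun d hd => ?_, by norm_num⟩ fun hh =>
      h4 (hh.2 rfl ⟨k, by omega⟩)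
    have hq : Fintype.card F % 4 = 3 := by
      have hodd : Fintype.card F % 2 = 1 := by
        have := Fintype.one_lt_card (α := F); obtain ⟨w, hw⟩ := h; omega
      omega
    exact (FiniteField.isSquare_neg_one_iff (F := F)).1 ⟨d, by rw [← hd]; ring⟩ hq

/-- no twist at all when `r ∤ n` -/
theorem cond_of_not_dvd {r n : ℕ} [hr : Fact r.Prime] (h : ¬ r ∣ n) (q : ℕ) :
    padicValNat r n ≤ padicValNat r (q - 1) ∧ (r = 2 → Even n → q % 4 = 1) :=
  ⟨by rw [padicValNat.eq_zero_of_not_dvd h]; exact Nat.zero_le _,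
    fun h2 he => absurd (even_iff_two_dvd.1 he) (h2 ▸ h)⟩

/-- transport of an endomorphism to `F ^ n` -/
theorem exists_transport {V : Type*} [AddCommGroup V] [Module F V] [FiniteDimensional F V] {n : ℕ}
    (hd : finrank F V = n) (g : V →ₗ[F] V) :
    ∃ (L : (Fin n → F) ≃ₗ[F] V) (A : Matrix (Fin n) (Fin n) F),
      (∀ x, L (Matrix.toLin' A x) = g (L x)) ∧ A.det = LinearMap.det g := by
  classical
  let L : (Fin n → F) ≃ₗ[F] V := LinearEquiv.ofFinrankEq _ _ (by rw [finrank_fin_fun, hd])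
  let f : (Fin n → F) →ₗ[F] (Fin n → F) := (L.symm : V →ₗ[F] (Fin n → F)) ∘ₗ g ∘ₗ (L : (Fin n → F) →ₗ[F] V)
  refine ⟨L, LinearMap.toMatrix' f, fun x => ?_, ?_⟩
  · rw [Matrix.toLin'_toMatrix']; simp [f]
  · rw [LinearMap.det_toMatrix']
    exact LinearMap.det_conj g L.symm

theorem pow_transport {V : Type*} [AddCommGroup V] [Module F V] {n : ℕ} (L : (Fin n → F) ≃ₗ[F] V)
    {g : V →ₗ[F] V} {f : (Fin n → F) →ₗ[F] (Fin n → F)} (h : ∀ x, L (f x) = g (L x)) (l : ℕ) (x : Fin n → F) :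
    L ((f ^ l) x) = (g ^ l) (L x) := by
  induction l with
  | zero => rfl
  | succ l ih => rw [pow_succ', pow_succ', Module.End.mul_apply, Module.End.mul_apply, h, ih]

/-- a model with a prescribed fixed space -/
theorem exists_model_free (n : ℕ) (r : ℕ) [hr : Fact r.Prime] (hr0 : (r : F) ≠ 0) (e s : ℕ)
    (hes : n = e + s * orderOf ((Fintype.card F : ℕ) : ZMod r)) :
    ∃ A : Matrix (Fin n) (Fin n) F, (∀ v, ((Matrix.toLin' A) ^ r) v = v) ∧ A.det ^ r = 1 ∧
      finrank F (fixSp (Matrix.toLin' A)) ≤ e := by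
  classical
  obtain ⟨p, hp⟩ := CharP.exists F
  haveI := hp
  haveI : Fact p.Prime := ⟨CharP.char_is_prime F p⟩
  obtain ⟨k, -, hk⟩ := FiniteField.card F p
  have hpr : p ≠ r := fun e => hr0 (e ▸ CharP.cast_eq_zero F p)
  have hcop : p.Coprime r := (Nat.coprime_primes Fact.out hr.out).2 hpr
  have hu : orderOf ((Fintype.card F : ℕ) : ZMod r) =
      orderOf (ZMod.unitOfCoprime _ (hcop.pow_left (k : ℕ))) := by
    rw [← orderOf_units, ZMod.coe_unitOfCoprime, hk]
  obtain ⟨g, hg⟩ := UniqueFactorizationMonoid.exists_mem_normalizedFactors (cyclotomic_ne_zero r F)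
    (not_isUnit_of_natDegree_pos _ (by rw [natDegree_cyclotomic]; exact Nat.totient_pos.2 hr.out.pos))
  have hgi := UniqueFactorizationMonoid.irreducible_of_normalized_factor g hg
  have hgd : g.natDegree = orderOf ((Fintype.card F : ℕ) : ZMod r) := by
    rw [hu]; exact natDegree_of_mem_normalizedFactors_cyclotomic hk hcop hg
  haveI : Fact (Irreducible g) := ⟨hgi⟩
  haveI : FiniteDimensional F (AdjoinRoot g) := (AdjoinRoot.powerBasis hgi.ne_zero).finite
  have hKd : finrank F (AdjoinRoot g) = orderOf ((Fintype.card F : ℕ) : ZMod r) := by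
    rw [(AdjoinRoot.powerBasis hgi.ne_zero).finrank, AdjoinRoot.powerBasis_dim, hgd]
  set ζ := AdjoinRoot.root g with hζ
  obtain ⟨w, hw⟩ := UniqueFactorizationMonoid.dvd_of_mem_normalizedFactors hg
  have hζΦ : aeval ζ (cyclotomic r F) = 0 := by
    rw [hw, map_mul, show aeval ζ g = 0 by rw [hζ, AdjoinRoot.aeval_eq, AdjoinRoot.mk_self], zero_mul]
  have hζr : ζ ^ r = 1 := by
    have := congrArg (aeval ζ) (cyclotomic_prime_mul_X_sub_one F r)
    rw [map_mul, hζΦ, zero_mul, map_sub, aeval_X_pow, map_one] at this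
    exact sub_eq_zero.1 this.symm
  have hζ1 : ζ ≠ 1 := by
    intro h1
    rw [h1, aeval_def, eval₂_eq_eval_map, map_cyclotomic, eval_one_cyclotomic_prime] at hζΦ
    exact hr0 ((algebraMap F (AdjoinRoot g)).injective (by rw [map_natCast, map_zero, hζΦ]))
  let g' : (Fin e → F) × (Fin s → AdjoinRoot g) →ₗ[F] (Fin e → F) × (Fin s → AdjoinRoot g) :=
    LinearMap.prodMap LinearMap.id ((ζ • (LinearMap.id : _ →ₗ[AdjoinRoot g] _)).restrictScalars F)
  have hg'pow : ∀ (l : ℕ) v, (g' ^ l) v = (v.1, ζ ^ l • v.2) := by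
    intro l
    induction l with
    | zero => intro v; simp
    | succ l ih => intro v; rw [pow_succ', Module.End.mul_apply, ih, pow_succ', mul_smul]; rfl
  obtain ⟨L, A, hA, hdet⟩ := exists_transport (V := (Fin e → F) × (Fin s → AdjoinRoot g)) (n := n)
    (by rw [finrank_prod, finrank_fin_fun, finrank_pi_fintype, hKd, Finset.sum_const, Finset.card_univ,
      Fintype.card_fin, smul_eq_mul, hes]) g'
  refine ⟨A, fun v => L.injective ?_, ?_, ?_⟩
  · rw [pow_transport L hA, hg'pow, hζr, one_smul]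
  · have h1 : g' ^ r = 1 := LinearMap.ext fun v => by rw [hg'pow, hζr, one_smul]; rfl
    rw [hdet, ← map_pow, h1, map_one]
  · let φ : fixSp (Matrix.toLin' A) →ₗ[F] (Fin e → F) :=
      (LinearMap.fst F (Fin e → F) (Fin s → AdjoinRoot g)) ∘ₗ L.toLinearMap ∘ₗ
        (fixSp (Matrix.toLin' A)).subtype
    refine le_of_le_of_eq (LinearMap.finrank_le_finrank_of_injective (f := φ) ?_) (finrank_fin_fun F)
    refine (injective_iff_map_eq_zero φ).2 fun v hv => Subtype.ext (L.injective ?_)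
    have h1 := hA v
    rw [mem_fixSp.1 v.2] at h1
    have h2 : (L (v : Fin n → F)).2 = ζ • (L (v : Fin n → F)).2 := congrArg Prod.snd h1
    rw [ZeroMemClass.coe_zero, map_zero]
    refine Prod.ext hv ?_
    have h3 : (ζ - 1) • (L (v : Fin n → F)).2 = 0 := by rw [sub_smul, one_smul, ← h2, sub_self]
    exact (smul_eq_zero.1 h3).resolve_left (sub_ne_zero.2 hζ1)

/-- a model whose `r`-th power is a scalar -/
theorem exists_model_scalar (r : ℕ) [hr : Fact r.Prime] {c : F} (hc : ∀ d : F, d ^ r ≠ c) (k : ℕ) :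
    ∃ A : Matrix (Fin (r * k)) (Fin (r * k)) F, (∀ v, ((Matrix.toLin' A) ^ r) v = c • v) ∧
      A.det = ((-1) ^ (r + 1) * c) ^ k := by
  classical
  have hgi : Irreducible (X ^ r - C c : F[X]) := X_pow_sub_C_irreducible_of_prime hr.out hc
  haveI : Fact (Irreducible (X ^ r - C c : F[X])) := ⟨hgi⟩
  set pb := AdjoinRoot.powerBasis hgi.ne_zero with hpb
  haveI : FiniteDimensional F (AdjoinRoot (X ^ r - C c : F[X])) := pb.finite
  have hdim : pb.dim = r := by rw [hpb, AdjoinRoot.powerBasis_dim, natDegree_X_pow_sub_C]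
  have hKd : finrank F (AdjoinRoot (X ^ r - C c : F[X])) = r := by rw [pb.finrank, hdim]
  set θ := AdjoinRoot.root (X ^ r - C c : F[X]) with hθ
  have hθr : θ ^ r = algebraMap F _ c := by
    have : aeval θ (X ^ r - C c : F[X]) = 0 := by rw [hθ, AdjoinRoot.aeval_eq, AdjoinRoot.mk_self]
    rw [map_sub, aeval_X_pow, aeval_C, sub_eq_zero] at this
    exact this
  have hnorm : Algebra.norm F θ = (-1) ^ (r + 1) * c := by
    have := Algebra.PowerBasis.norm_gen_eq_coeff_zero_minpoly pb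
    rw [hdim, hpb, AdjoinRoot.powerBasis_gen, AdjoinRoot.minpoly_root hgi.ne_zero,
      (monic_X_pow_sub_C c hr.out.ne_zero).leadingCoeff, inv_one, map_one, mul_one] at this
    rw [hθ, this, coeff_sub, coeff_X_pow, if_neg hr.out.ne_zero.symm, coeff_C_zero, pow_succ]
    ring
  let g' : (Fin k → AdjoinRoot (X ^ r - C c : F[X])) →ₗ[F] (Fin k → AdjoinRoot (X ^ r - C c : F[X])) :=
    (θ • (LinearMap.id : _ →ₗ[AdjoinRoot (X ^ r - C c : F[X])] _)).restrictScalars F
  have hg'pow : ∀ (l : ℕ) v, (g' ^ l) v = θ ^ l • v := by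
    intro l
    induction l with
    | zero => intro v; simp
    | succ l ih => intro v; rw [pow_succ', Module.End.mul_apply, ih, pow_succ', mul_smul]; rfl
  obtain ⟨L, A, hA, hdet⟩ := exists_transport (V := Fin k → AdjoinRoot (X ^ r - C c : F[X])) (n := r * k)
    (by rw [finrank_pi_fintype, hKd, Finset.sum_const, Finset.card_univ,
      Fintype.card_fin, smul_eq_mul, mul_comm]) g'
  refine ⟨A, fun v => L.injective ?_, ?_⟩
  · rw [pow_transport L hA, hg'pow, hθr, map_smul, algebraMap_smul]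
  · rw [hdet, LinearMap.det_restrictScalars, LinearMap.det_smul, LinearMap.det_id, mul_one,
      finrank_fin_fun, map_pow, hnorm]

end Cfsg.Agent.Forms.Elusive
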