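import Mathlib

/-!
# Divisibility of Gaussian binomial coefficients
-/

set_option autoImplicit false
set_option linter.unusedSectionVars false

open Module

namespace Cfsg.Agent.Forms.Elusive

variable {F : Type*} [Field F] [Fintype F] {V : Type*} [AddCommGroup V] [Module F V] [FiniteDimensional F V]

local notation "q" => Fintype.card F

theorem card_subspaces_mul (k : ℕ) (hk : k ≤ finrank F V) :
    Nat.card {W : Submodule F V // finrank F W = k} * ∏ l ∈ Finset.range k, (q ^ k - q ^ l) =
      ∏ l ∈ Finset.range k, (q ^ finrank F V - q ^ l) := by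
  classical
  haveI : Finite V := Module.finite_of_finite F
  haveI : Fintype V := Fintype.ofFinite V
  have h1 : Nat.card {s : Fin k → V // LinearIndependent F s} =
      ∏ l ∈ Finset.range k, (q ^ finrank F V - q ^ l) := by
    rw [card_linearIndependent hk, Fin.prod_univ_eq_prod_range (fun l => q ^ finrank F V - q ^ l)]
  have h2 : ∀ W : {W : Submodule F V // finrank F W = k},
      Nat.card {s : Fin k → W.1 // LinearIndependent F s} = ∏ l ∈ Finset.range k, (q ^ k - q ^ l) := by
    intro W
    haveI : Fintype W.1 := Fintype.ofFinite _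
    rw [card_linearIndependent W.2.ge, W.2, Fin.prod_univ_eq_prod_range (fun l => q ^ k - q ^ l)]
  let φ : {s : Fin k → V // LinearIndependent F s} → {W : Submodule F V // finrank F W = k} :=
    fun s => ⟨Submodule.span F (Set.range s.1), by rw [finrank_span_eq_card s.2, Fintype.card_fin]⟩
  have hfib : ∀ W, Nat.card {s // φ s = W} = ∏ l ∈ Finset.range k, (q ^ k - q ^ l) := by
    intro W
    rw [← h2 W]
    refine Nat.card_congr
      { toFun := fun s => ⟨fun l => ⟨s.1.1 l, by
            exact (congrArg Subtype.val s.2).le (Submodule.subset_span ⟨l, rfl⟩)⟩,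
          LinearIndependent.of_comp W.1.subtype s.1.2⟩
        invFun := fun t => ⟨⟨fun l => (t.1 l : V), t.2.map' W.1.subtype W.1.ker_subtype⟩, Subtype.ext (by
          refine Submodule.eq_of_le_of_finrank_le ?_ ?_
          · rw [Submodule.span_le]; rintro _ ⟨l, rfl⟩; exact (t.1 l).2
          · rw [W.2, (φ ⟨fun l => (t.1 l : V), t.2.map' W.1.subtype W.1.ker_subtype⟩).2])⟩
        left_inv := fun s => rfl
        right_inv := fun t => rfl }
  rw [← h1, Nat.card_congr (Equiv.sigmaFiberEquiv φ).symm, Nat.card_sigma]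
  simp only [hfib, Finset.sum_const, smul_eq_mul, Finset.card_univ, Nat.card_eq_fintype_card]

theorem card_subspaces_mul' (k : ℕ) (hk : k ≤ finrank F V) :
    Nat.card {W : Submodule F V // finrank F W = k} * ∏ l ∈ Finset.range k, (q ^ (k - l) - 1) =
      ∏ l ∈ Finset.range k, (q ^ (finrank F V - l) - 1) := by
  have key : ∀ t, k ≤ t → ∏ l ∈ Finset.range k, (q ^ t - q ^ l) =
      (∏ l ∈ Finset.range k, q ^ l) * ∏ l ∈ Finset.range k, (q ^ (t - l) - 1) := by
    intro t ht
    rw [← Finset.prod_mul_distrib]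
    refine Finset.prod_congr rfl fun l hl => ?_
    have := Finset.mem_range.1 hl
    rw [Nat.mul_sub, mul_one, ← pow_add, show l + (t - l) = t by omega]
  have h := card_subspaces_mul (F := F) (V := V) k hk
  rw [key k le_rfl, key _ hk, mul_left_comm] at h
  exact Nat.eq_of_mul_eq_mul_left
    (Finset.prod_pos fun l _ => pow_pos Fintype.card_pos l) h

theorem card_subspaces_mul'' (k : ℕ) (hk : k ≤ finrank F V) :
    Nat.card {W : Submodule F V // finrank F W = k} * ∏ l ∈ Finset.range (finrank F V - k), (q ^ (l + 1) - 1) =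
      ∏ l ∈ Finset.range (finrank F V - k), (q ^ (k + l + 1) - 1) := by
  have h := card_subspaces_mul' (F := F) (V := V) k hk
  set n := finrank F V with hn
  have hk' : ∏ l ∈ Finset.range k, (q ^ (k - l) - 1) = ∏ l ∈ Finset.range k, (q ^ (l + 1) - 1) := by
    rw [← Finset.prod_range_reflect]
    refine Finset.prod_congr rfl fun l hl => ?_
    have := Finset.mem_range.1 hl
    rw [show k - (k - 1 - l) = l + 1 by omega]
  have hn' : ∏ l ∈ Finset.range n, (q ^ (l + 1) - 1) =
      (∏ l ∈ Finset.range (n - k), (q ^ (l + 1) - 1)) * ∏ l ∈ Finset.range k, (q ^ (n - l) - 1) := by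
    conv_lhs => rw [show n = (n - k) + k by omega, Finset.prod_range_add]
    congr 1
    rw [← Finset.prod_range_reflect]
    refine Finset.prod_congr rfl fun l hl => ?_
    have := Finset.mem_range.1 hl
    rw [show n - k + (k - 1 - l) + 1 = n - l by omega]
  have hn'' : ∏ l ∈ Finset.range n, (q ^ (l + 1) - 1) =
      (∏ l ∈ Finset.range k, (q ^ (l + 1) - 1)) * ∏ l ∈ Finset.range (n - k), (q ^ (k + l + 1) - 1) := by
    conv_lhs => rw [show n = k + (n - k) by omega, Finset.prod_range_add]
  rw [← h, hk'] at hn'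
  refine Nat.eq_of_mul_eq_mul_left (n := ∏ l ∈ Finset.range k, (q ^ (l + 1) - 1))
    (Finset.prod_pos fun l _ => Nat.sub_pos_of_lt (Nat.one_lt_pow (by omega) Fintype.one_lt_card)) ?_
  rw [← hn'', hn']; ring

variable {r : ℕ} [hr : Fact r.Prime]

theorem order_dvd_of_dvd_pow_sub_one {j : ℕ} (h : r ∣ q ^ j - 1) :
    orderOf ((q : ℕ) : ZMod r) ∣ j := by
  refine orderOf_dvd_of_pow_eq_one ?_
  rw [← Nat.modEq_iff_dvd' (Nat.one_le_pow _ _ Fintype.card_pos), ← ZMod.natCast_eq_natCast_iff] at h
  push_cast at h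
  exact h.symm

theorem exists_top_of_dvd {k : ℕ} (hk : k ≤ finrank F V)
    (h : r ∣ Nat.card {W : Submodule F V // finrank F W = k}) :
    ∃ j, finrank F V - k < j ∧ j ≤ finrank F V ∧ orderOf ((q : ℕ) : ZMod r) ∣ j := by
  have h' := Dvd.dvd.mul_right h (∏ l ∈ Finset.range k, (q ^ (k - l) - 1))
  rw [card_subspaces_mul' k hk] at h'
  obtain ⟨l, hl, hd⟩ := (Nat.prime_iff.1 hr.out).exists_mem_finset_dvd h'
  have := Finset.mem_range.1 hl
  exact ⟨finrank F V - l, by omega, by omega, order_dvd_of_dvd_pow_sub_one hd⟩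

theorem exists_bot_of_dvd {k : ℕ} (hk : k ≤ finrank F V)
    (h : r ∣ Nat.card {W : Submodule F V // finrank F W = k}) :
    ∃ j, k < j ∧ j ≤ finrank F V ∧ orderOf ((q : ℕ) : ZMod r) ∣ j := by
  have h' := Dvd.dvd.mul_right h (∏ l ∈ Finset.range (finrank F V - k), (q ^ (l + 1) - 1))
  rw [card_subspaces_mul'' k hk] at h'
  obtain ⟨l, hl, hd⟩ := (Nat.prime_iff.1 hr.out).exists_mem_finset_dvd h'
  have := Finset.mem_range.1 hl
  exact ⟨k + l + 1, by omega, by omega, order_dvd_of_dvd_pow_sub_one hd⟩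

/-- the count is prime to the characteristic -/
theorem not_char_dvd (p : ℕ) [Fact p.Prime] [CharP F p] {k : ℕ} (hk : k ≤ finrank F V) :
    ¬ p ∣ Nat.card {W : Submodule F V // finrank F W = k} := by
  intro h
  have h' := Dvd.dvd.mul_right h (∏ l ∈ Finset.range k, (q ^ (k - l) - 1))
  rw [card_subspaces_mul' k hk] at h'
  obtain ⟨l, hl, hd⟩ := (Nat.prime_iff.1 (Fact.out : p.Prime)).exists_mem_finset_dvd h'
  have := Finset.mem_range.1 hl
  obtain ⟨e, -, he⟩ := FiniteField.card F p
  have hp : p ∣ q ^ (finrank F V - l) := by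
    rw [he, ← pow_mul]
    exact dvd_pow_self p (Nat.mul_ne_zero e.pos.ne' (by omega))
  have h1 : p ∣ q ^ (finrank F V - l) - (q ^ (finrank F V - l) - 1) := Nat.dvd_sub hp hd
  rw [Nat.sub_sub_self (Nat.one_le_pow _ _ Fintype.card_pos), Nat.dvd_one] at h1
  exact (Fact.out : p.Prime).ne_one h1

theorem mod_le_of_dvd {n j i : ℕ} (hj : j ≤ n) (h : i ∣ j) : n % i ≤ n - j := by
  obtain ⟨t, rfl⟩ := h
  calc n % i = (n - i * t) % i := by
        conv_lhs => rw [← Nat.sub_add_cancel hj, Nat.add_mul_mod_self_left]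
    _ ≤ n - i * t := Nat.mod_le _ _

end Cfsg.Agent.Forms.Elusive
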