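import Mathlib

/-!
# Involutory endomorphisms of `F ^ n` and quadratic structures

Conjugacy, with a prescribed determinant of the intertwiner, of involutions and of endomorphisms
satisfying a quadratic equation without roots.
-/

set_option autoImplicit false
set_option linter.unusedSectionVars false

open Module Polynomial

namespace Cfsg.Agent.Forms.Elusive.Inv

variable {F : Type*} [Field F] {V : Type*} [AddCommGroup V] [Module F V] [FiniteDimensional F V]

/-- the rank of `f - 1` -/
noncomputable def rk (f : V →ₗ[F] V) : ℕ := finrank F (LinearMap.range (f - LinearMap.id))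

theorem rk_le (f : V →ₗ[F] V) : rk f ≤ finrank F V := Submodule.finrank_le _

theorem rk_conj (e : V ≃ₗ[F] V) {f f' : V →ₗ[F] V} (h : ∀ x, e (f x) = f' (e x)) : rk f' = rk f := by
  have : LinearMap.range (f' - LinearMap.id) = (LinearMap.range (f - LinearMap.id)).map (e : V →ₗ[F] V) := by
    ext y
    simp only [LinearMap.mem_range, Submodule.mem_map, LinearMap.sub_apply, LinearMap.id_apply,
      LinearEquiv.coe_coe]
    constructor
    · rintro ⟨x, rfl⟩
      exact ⟨_, ⟨e.symm x, rfl⟩, by rw [map_sub, h, e.apply_symm_apply]⟩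
    · rintro ⟨_, ⟨x, rfl⟩, rfl⟩
      exact ⟨e x, by rw [map_sub, h]⟩
  rw [rk, rk, this, LinearEquiv.finrank_map_eq]

theorem normal_odd (h2 : (2 : F) ≠ 0) {f : V →ₗ[F] V} (hf : ∀ x, f (f x) = x) :
    ∃ b : Basis (Fin (rk f) ⊕ Fin (finrank F V - rk f)) F V,
      (∀ i, f (b (Sum.inl i)) = -b (Sum.inl i)) ∧ ∀ i, f (b (Sum.inr i)) = b (Sum.inr i) := by
  classical
  set W := LinearMap.range (f - LinearMap.id) with hW
  set U := LinearMap.ker (f - LinearMap.id) with hU
  have hdim : finrank F W + finrank F U = finrank F V := LinearMap.finrank_range_add_finrank_ker _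
  have hWr : finrank F W = rk f := rfl
  let bW : Basis (Fin (rk f)) F W := Module.finBasisOfFinrankEq F W hWr
  let bU : Basis (Fin (finrank F V - rk f)) F U := Module.finBasisOfFinrankEq F U (by omega)
  let v : Fin (rk f) ⊕ Fin (finrank F V - rk f) → V := Sum.elim (fun i => (bW i : V)) fun i => (bU i : V)
  have hWs : W ≤ Submodule.span F (Set.range v) := fun x hx => by
    have h0 := Submodule.mem_map_of_mem (f := W.subtype) (bW.mem_span ⟨x, hx⟩)
    rw [Submodule.map_span] at h0
    refine Submodule.span_mono ?_ h0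
    rintro _ ⟨_, ⟨i, rfl⟩, rfl⟩; exact ⟨Sum.inl i, rfl⟩
  have hUs : U ≤ Submodule.span F (Set.range v) := fun x hx => by
    have h0 := Submodule.mem_map_of_mem (f := U.subtype) (bU.mem_span ⟨x, hx⟩)
    rw [Submodule.map_span] at h0
    refine Submodule.span_mono ?_ h0
    rintro _ ⟨_, ⟨i, rfl⟩, rfl⟩; exact ⟨Sum.inr i, rfl⟩
  have hspan : ⊤ ≤ Submodule.span F (Set.range v) := by
    intro x _
    have hx : x = (-(2 : F)⁻¹) • (f x - x) + (2 : F)⁻¹ • (f x + x) := by
      rw [smul_sub, smul_add]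
      match_scalars
      · field_simp; norm_num
      · ring
    rw [hx]
    refine add_mem (Submodule.smul_mem _ _ (hWs ⟨x, rfl⟩)) (Submodule.smul_mem _ _ (hUs ?_))
    rw [hU, LinearMap.mem_ker, LinearMap.sub_apply, LinearMap.id_apply, map_add, hf]
    abel
  have hcard : Fintype.card (Fin (rk f) ⊕ Fin (finrank F V - rk f)) = finrank F V := by
    simp only [Fintype.card_sum, Fintype.card_fin]; have := rk_le f; omega
  refine ⟨basisOfTopLeSpanOfCardEqFinrank v hspan hcard, fun i => ?_, fun i => ?_⟩ <;>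
    simp only [coe_basisOfTopLeSpanOfCardEqFinrank, v, Sum.elim_inl, Sum.elim_inr]
  · obtain ⟨y, hy⟩ := (bW i).2
    rw [← hy, LinearMap.sub_apply, LinearMap.id_apply, map_sub, hf, neg_sub]
  · exact sub_eq_zero.1 (LinearMap.mem_ker.1 (bU i).2)

theorem two_rk_le (h2 : (2 : F) = 0) {f : V →ₗ[F] V} (hf : ∀ x, f (f x) = x) :
    LinearMap.range (f - LinearMap.id) ≤ LinearMap.ker (f - LinearMap.id) ∧ 2 * rk f ≤ finrank F V := by
  have hle : LinearMap.range (f - LinearMap.id) ≤ LinearMap.ker (f - LinearMap.id) := by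
    rintro _ ⟨x, rfl⟩
    simp only [LinearMap.mem_ker, LinearMap.sub_apply, LinearMap.id_apply, map_sub, hf]
    have : (2 : F) • (x - f x) = 0 := by rw [h2, zero_smul]
    rw [two_smul] at this
    rw [← this]; abel
  refine ⟨hle, ?_⟩
  have := Submodule.finrank_mono hle
  have := LinearMap.finrank_range_add_finrank_ker (f - LinearMap.id)
  unfold rk
  omega

theorem normal_even (h2 : (2 : F) = 0) {f : V →ₗ[F] V} (hf : ∀ x, f (f x) = x) :
    ∃ b : Basis ((Fin (rk f) ⊕ Fin (rk f)) ⊕ Fin (finrank F V - 2 * rk f)) F V,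
      (∀ i, f (b (Sum.inl (Sum.inl i))) = b (Sum.inl (Sum.inl i)) + b (Sum.inl (Sum.inr i))) ∧
      (∀ i, f (b (Sum.inl (Sum.inr i))) = b (Sum.inl (Sum.inr i))) ∧
      ∀ i, f (b (Sum.inr i)) = b (Sum.inr i) := by
  classical
  obtain ⟨hle, h2r⟩ := two_rk_le h2 hf
  set N := f - LinearMap.id with hN
  set W := LinearMap.range N with hW
  set U := LinearMap.ker N with hU
  obtain ⟨C, hC⟩ := Submodule.exists_isCompl U
  obtain ⟨D', hD'⟩ := Submodule.exists_isCompl W
  set D := D' ⊓ U with hD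
  have hWD : W ⊔ D = U := by rw [hD, ← sup_inf_assoc_of_le _ hle, hD'.sup_eq_top, top_inf_eq]
  have hdim : finrank F W + finrank F U = finrank F V := LinearMap.finrank_range_add_finrank_ker _
  have hCU := Submodule.finrank_add_eq_of_isCompl hC
  have hWr : finrank F W = rk f := rfl
  have hWDd : finrank F W + finrank F D = finrank F U := by
    rw [← Submodule.finrank_sup_add_finrank_inf_eq, hWD, hD, ← inf_assoc, hD'.inf_eq_bot, bot_inf_eq,
      finrank_bot, add_zero]
  let bC : Basis (Fin (rk f)) F C := Module.finBasisOfFinrankEq F C (by omega)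
  let bD : Basis (Fin (finrank F V - 2 * rk f)) F D := Module.finBasisOfFinrankEq F D (by omega)
  let v : (Fin (rk f) ⊕ Fin (rk f)) ⊕ Fin (finrank F V - 2 * rk f) → V :=
    Sum.elim (Sum.elim (fun i => (bC i : V)) fun i => N (bC i : V)) fun i => (bD i : V)
  have hCs : C ≤ Submodule.span F (Set.range v) := fun x hx => by
    have h0 := Submodule.mem_map_of_mem (f := C.subtype) (bC.mem_span ⟨x, hx⟩)
    rw [Submodule.map_span] at h0
    refine Submodule.span_mono ?_ h0
    rintro _ ⟨_, ⟨i, rfl⟩, rfl⟩; exact ⟨Sum.inl (Sum.inl i), rfl⟩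
  have hDs : D ≤ Submodule.span F (Set.range v) := fun x hx => by
    have h0 := Submodule.mem_map_of_mem (f := D.subtype) (bD.mem_span ⟨x, hx⟩)
    rw [Submodule.map_span] at h0
    refine Submodule.span_mono ?_ h0
    rintro _ ⟨_, ⟨i, rfl⟩, rfl⟩; exact ⟨Sum.inr i, rfl⟩
  have hWs : W ≤ Submodule.span F (Set.range v) := by
    rintro _ ⟨x, rfl⟩
    obtain ⟨c, hc, u, hu, rfl⟩ := Submodule.mem_sup.1 (hC.symm.sup_eq_top ▸ Submodule.mem_top (x := x))
    rw [map_add, LinearMap.mem_ker.1 hu, add_zero]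
    have h0 := Submodule.mem_map_of_mem (f := N ∘ₗ C.subtype) (bC.mem_span ⟨c, hc⟩)
    rw [Submodule.map_span] at h0
    refine Submodule.span_mono ?_ h0
    rintro _ ⟨_, ⟨i, rfl⟩, rfl⟩; exact ⟨Sum.inl (Sum.inr i), rfl⟩
  have hspan : ⊤ ≤ Submodule.span F (Set.range v) := by
    rw [← hC.symm.sup_eq_top, ← hWD]
    exact sup_le hCs (sup_le hWs hDs)
  have hcard : Fintype.card ((Fin (rk f) ⊕ Fin (rk f)) ⊕ Fin (finrank F V - 2 * rk f)) = finrank F V := by
    simp only [Fintype.card_sum, Fintype.card_fin]; omega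
  have hfix : ∀ x ∈ U, f x = x := fun x hx => by
    rwa [hU, LinearMap.mem_ker, hN, LinearMap.sub_apply, LinearMap.id_apply, sub_eq_zero] at hx
  refine ⟨basisOfTopLeSpanOfCardEqFinrank v hspan hcard, fun i => ?_, fun i => ?_, fun i => ?_⟩ <;>
    simp only [coe_basisOfTopLeSpanOfCardEqFinrank, v, Sum.elim_inl, Sum.elim_inr]
  · rw [hN, LinearMap.sub_apply, LinearMap.id_apply]; abel
  · exact hfix _ (hle ⟨_, rfl⟩)
  · exact hfix _ (bD i).2.2

/-- scaling a basis -/
theorem exists_scale {κ : Type*} [Fintype κ] (b : Basis κ F V) (s : κ → Fˣ) :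
    ∃ C : V ≃ₗ[F] V, (∀ i, C (b i) = (s i : F) • b i) ∧ LinearEquiv.det C = ∏ i, s i := by
  classical
  let e : V ≃ₗ[F] V := b.equiv (b.unitsSMul s) (Equiv.refl _)
  have he : ∀ i, e (b i) = (s i : F) • b i := fun i => by
    simp only [e, Basis.equiv_apply, Equiv.refl_apply, Basis.unitsSMul_apply, Units.smul_def]
  refine ⟨e, he, Units.ext ?_⟩
  rw [LinearEquiv.coe_det, ← LinearMap.det_toMatrix b,
    show LinearMap.toMatrix b b e.toLinearMap = Matrix.diagonal fun i => (s i : F) from by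
      ext i j
      rw [LinearMap.toMatrix_apply, LinearEquiv.coe_coe, he, map_smul, Finsupp.smul_apply,
        Basis.repr_self, Finsupp.single_apply, Matrix.diagonal_apply]
      by_cases hij : i = j
      · subst hij; simp
      · simp [hij, Ne.symm hij],
    Matrix.det_diagonal, Units.coe_prod]

/-- the determinant of an involution in odd characteristic -/
theorem det_involution (h2 : (2 : F) ≠ 0) {f : V →ₗ[F] V} (hf : ∀ x, f (f x) = x) :
    LinearMap.det f = (-1) ^ rk f := by
  obtain ⟨b, hl, hr⟩ := normal_odd h2 hf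
  obtain ⟨C, hC, hdet⟩ := exists_scale b (Sum.elim (fun _ => (-1 : Fˣ)) fun _ => 1)
  have : f = C.toLinearMap := b.ext fun i => by
    rcases i with i | i
    · rw [LinearEquiv.coe_coe, hC, hl]; simp
    · rw [LinearEquiv.coe_coe, hC, hr]; simp
  conv_lhs => rw [this]
  rw [← LinearEquiv.coe_det, hdet]
  simp [Fintype.prod_sum_type]

/-- every element of a finite field of characteristic two is a square -/
theorem exists_sq [Finite F] (h2 : (2 : F) = 0) (c : F) : ∃ d : F, d * d = c := by
  haveI : CharP F 2 := CharTwo.of_one_ne_zero_of_two_eq_zero one_ne_zero h2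
  obtain ⟨d, hd⟩ := FiniteField.isSquare_of_char_two (ringChar.eq F 2) c
  exact ⟨d, hd.symm⟩

/-- determinants of the centraliser of an involution -/
theorem exists_cent [Finite F] [Nontrivial V] {f : V →ₗ[F] V} (hf : ∀ x, f (f x) = x) (u : Fˣ) :
    ∃ C : V ≃ₗ[F] V, (∀ x, C (f x) = f (C x)) ∧ LinearEquiv.det C = u := by
  classical
  have hn : 0 < finrank F V := Module.finrank_pos
  by_cases h2 : (2 : F) = 0
  · obtain ⟨b, hll, hlr, hr⟩ := normal_even h2 hf
    obtain ⟨s, hs, hprod⟩ : ∃ s : (Fin (rk f) ⊕ Fin (rk f)) ⊕ Fin (finrank F V - 2 * rk f) → Fˣ,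
        (∀ i, s (Sum.inl (Sum.inl i)) = s (Sum.inl (Sum.inr i))) ∧ ∏ i, s i = u := by
      rcases Nat.eq_zero_or_pos (rk f) with h0 | h0
      · refine ⟨Sum.elim (fun _ => 1) (fun i => if i = ⟨0, by omega⟩ then u else 1), fun _ => rfl, ?_⟩
        simp [Fintype.prod_sum_type]
      · obtain ⟨d, hd⟩ := exists_sq h2 (u : F)
        have hd0 : d ≠ 0 := fun e => u.ne_zero (by rw [← hd, e, zero_mul])
        let t : Fin (rk f) → Fˣ := fun i => if i = ⟨0, h0⟩ then Units.mk0 d hd0 else 1
        refine ⟨Sum.elim (Sum.elim t t) fun _ => 1, fun _ => rfl, ?_⟩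
        simp [Fintype.prod_sum_type, t]
        exact Units.ext hd
    obtain ⟨C, hC, hdet⟩ := exists_scale b s
    refine ⟨C, fun x => ?_, hdet.trans hprod⟩
    have : C.toLinearMap ∘ₗ f = f ∘ₗ C.toLinearMap := b.ext fun i => by
      rcases i with (i | i) | i
      · simp [hC, hll, smul_add, hs]
      · simp [hC, hlr]
      · simp [hC, hr]
    exact LinearMap.congr_fun this x
  · obtain ⟨b, hl, hr⟩ := normal_odd h2 hf
    haveI : Nonempty (Fin (rk f) ⊕ Fin (finrank F V - rk f)) := b.index_nonempty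
    obtain ⟨i₀⟩ := ‹Nonempty (Fin (rk f) ⊕ Fin (finrank F V - rk f))›
    obtain ⟨C, hC, hdet⟩ := exists_scale b (fun i => if i = i₀ then u else 1)
    refine ⟨C, fun x => ?_, hdet.trans (by simp)⟩
    have : C.toLinearMap ∘ₗ f = f ∘ₗ C.toLinearMap := b.ext fun i => by
      rcases i with i | i
      · simp [hC, hl]
      · simp [hC, hr]
    exact LinearMap.congr_fun this x

theorem exists_det_fix [Finite F] [Nontrivial V] {f f' : V →ₗ[F] V} (hf : ∀ x, f (f x) = x) (e₀ : V ≃ₗ[F] V)
    (h : ∀ x, e₀ (f x) = f' (e₀ x)) (u : Fˣ) :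
    ∃ e : V ≃ₗ[F] V, (∀ x, e (f x) = f' (e x)) ∧ LinearEquiv.det e = u := by
  obtain ⟨C, hC, hdet⟩ := exists_cent hf ((LinearEquiv.det e₀)⁻¹ * u)
  refine ⟨C.trans e₀, fun x => by simp only [LinearEquiv.trans_apply, hC, h], ?_⟩
  rw [LinearEquiv.det_trans, hdet, mul_inv_cancel_left]

/-- involutions with the same rank are conjugate -/
theorem exists_conj [Finite F] [Nontrivial V] {f f' : V →ₗ[F] V} (hf : ∀ x, f (f x) = x)
    (hf' : ∀ x, f' (f' x) = x) (hr : rk f = rk f') (u : Fˣ) :
    ∃ e : V ≃ₗ[F] V, (∀ x, e (f x) = f' (e x)) ∧ LinearEquiv.det e = u := by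
  by_cases h2 : (2 : F) = 0
  · obtain ⟨b, hll, hlr, hrr⟩ := normal_even h2 hf
    obtain ⟨b', hll', hlr', hrr'⟩ := normal_even h2 hf'
    let σ : (Fin (rk f) ⊕ Fin (rk f)) ⊕ Fin (finrank F V - 2 * rk f) ≃
        (Fin (rk f') ⊕ Fin (rk f')) ⊕ Fin (finrank F V - 2 * rk f') :=
      Equiv.sumCongr (Equiv.sumCongr (finCongr hr) (finCongr hr)) (finCongr (by rw [hr]))
    refine exists_det_fix hf (b.equiv b' σ) (fun x => ?_) u
    have : (b.equiv b' σ).toLinearMap ∘ₗ f = f' ∘ₗ (b.equiv b' σ).toLinearMap := b.ext fun i => by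
      rcases i with (i | i) | i
      · simp [hll, hll', σ]
      · simp [hlr, hlr', σ]
      · simp [hrr, hrr', σ]
    exact LinearMap.congr_fun this x
  · obtain ⟨b, hl, hrr⟩ := normal_odd h2 hf
    obtain ⟨b', hl', hrr'⟩ := normal_odd h2 hf'
    let σ : Fin (rk f) ⊕ Fin (finrank F V - rk f) ≃ Fin (rk f') ⊕ Fin (finrank F V - rk f') :=
      Equiv.sumCongr (finCongr hr) (finCongr (by rw [hr]))
    refine exists_det_fix hf (b.equiv b' σ) (fun x => ?_) u
    have : (b.equiv b' σ).toLinearMap ∘ₗ f = f' ∘ₗ (b.equiv b' σ).toLinearMap := b.ext fun i => by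
      rcases i with i | i
      · simp [hl, hl', σ]
      · simp [hrr, hrr', σ]
    exact LinearMap.congr_fun this x

/-- an involution has a conjugate with all entries in a given subfield -/
theorem exists_rational [Finite F] {n : ℕ} [NeZero n] (F₀ : Subfield F)
    {f : (Fin n → F) →ₗ[F] (Fin n → F)} (hf : ∀ x, f (f x) = x) (u : Fˣ) :
    ∃ e : (Fin n → F) ≃ₗ[F] (Fin n → F), LinearEquiv.det e = u ∧
      ∀ i j, e (f (e.symm (Pi.single j 1))) i ∈ F₀ := by
  classical
  have hn := Module.finrank_fin_fun (R := F) (n := n)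
  have key : ∀ {κ : Type} [Fintype κ] (b : Basis κ F (Fin n → F)) (σ : κ ≃ Fin n),
      (∀ k i, b.equiv (Pi.basisFun F (Fin n)) σ (f (b k)) i ∈ F₀) →
      ∃ e : (Fin n → F) ≃ₗ[F] (Fin n → F), LinearEquiv.det e = u ∧
        ∀ i j, e (f (e.symm (Pi.single j 1))) i ∈ F₀ := by
    intro κ _ b σ hb
    set e₀ := b.equiv (Pi.basisFun F (Fin n)) σ with he₀
    obtain ⟨C, hC, hdet⟩ := exists_cent hf ((LinearEquiv.det e₀)⁻¹ * u)
    refine ⟨C.trans e₀, by rw [LinearEquiv.det_trans, hdet, mul_inv_cancel_left], fun i j => ?_⟩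
    have h1 : e₀.symm (Pi.single j 1) = b (σ.symm j) := by
      rw [LinearEquiv.symm_apply_eq, he₀, Basis.equiv_apply, Equiv.apply_symm_apply, Pi.basisFun_apply]
    rw [LinearEquiv.trans_symm, LinearEquiv.trans_apply, LinearEquiv.trans_apply, hC, C.apply_symm_apply, h1]
    exact hb _ _
  have hs : ∀ (j i : Fin n), (Pi.single j (1 : F) : Fin n → F) i ∈ F₀ := fun j i => by
    rcases eq_or_ne i j with rfl | h
    · simp [F₀.one_mem]
    · simp [h, F₀.zero_mem]
  by_cases h2 : (2 : F) = 0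
  · obtain ⟨b, hll, hlr, hrr⟩ := normal_even h2 hf
    refine key b (Fintype.equivFinOfCardEq ((Module.finrank_eq_card_basis b).symm.trans hn)) fun k i => ?_
    rcases k with (k | k) | k
    · simp only [hll, map_add, Basis.equiv_apply, Pi.basisFun_apply, Pi.add_apply]
      exact F₀.add_mem (hs _ _) (hs _ _)
    · simp only [hlr, Basis.equiv_apply, Pi.basisFun_apply]; exact hs _ _
    · simp only [hrr, Basis.equiv_apply, Pi.basisFun_apply]; exact hs _ _
  · obtain ⟨b, hl, hrr⟩ := normal_odd h2 hf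
    refine key b (Fintype.equivFinOfCardEq ((Module.finrank_eq_card_basis b).symm.trans hn)) fun k i => ?_
    rcases k with k | k
    · simp only [hl, map_neg, Basis.equiv_apply, Pi.basisFun_apply, Pi.neg_apply]
      exact F₀.neg_mem (hs _ _)
    · simp only [hrr, Basis.equiv_apply, Pi.basisFun_apply]; exact hs _ _

/-- an intertwiner of determinant one gives conjugacy in the special linear group -/
theorem exists_SL {n : ℕ} (e : (Fin n → F) ≃ₗ[F] (Fin n → F)) (he : LinearEquiv.det e = 1)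
    (x : Matrix.SpecialLinearGroup (Fin n) F) :
    ∃ P : Matrix.SpecialLinearGroup (Fin n) F, ∀ v : Fin n → F,
      Matrix.mulVec ((P⁻¹ * x * P : Matrix.SpecialLinearGroup (Fin n) F) : Matrix (Fin n) (Fin n) F) v =
        e (Matrix.mulVec (x : Matrix (Fin n) (Fin n) F) (e.symm v)) := by
  classical
  have hdet : (LinearMap.toMatrix' e.symm.toLinearMap).det = 1 := by
    rw [LinearMap.det_toMatrix', ← LinearEquiv.coe_det, LinearEquiv.det_symm, map_inv, he, inv_one, Units.val_one]
  set P : Matrix.SpecialLinearGroup (Fin n) F := ⟨LinearMap.toMatrix' e.symm.toLinearMap, hdet⟩ with hP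
  have hPv : ∀ w, Matrix.mulVec (P : Matrix (Fin n) (Fin n) F) w = e.symm w := fun w => by
    simp [hP, LinearMap.toMatrix'_mulVec]
  refine ⟨P, fun v => ?_⟩
  have h1 : Matrix.mulVec (P : Matrix (Fin n) (Fin n) F)
      (Matrix.mulVec ((P⁻¹ * x * P : Matrix.SpecialLinearGroup (Fin n) F) : Matrix (Fin n) (Fin n) F) v) =
      Matrix.mulVec (x : Matrix (Fin n) (Fin n) F) (e.symm v) := by
    rw [Matrix.mulVec_mulVec, ← Matrix.SpecialLinearGroup.coe_mul, mul_assoc P⁻¹, mul_inv_cancel_left,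
      Matrix.SpecialLinearGroup.coe_mul, ← Matrix.mulVec_mulVec, hPv]
  rw [hPv, LinearEquiv.symm_apply_eq] at h1
  exact h1

/-! ### quadratic structures -/

section quad

variable {θ : V →ₗ[F] V} {a N : F}

theorem normal_quad (hsq : ∀ x, θ (θ x) = a • θ x - N • x) (hirr : ∀ s : F, s * s - a * s + N ≠ 0) :
    ∃ (m : ℕ) (b : Basis (Fin 2 × Fin m) F V),
      (∀ i, θ (b (0, i)) = b (1, i)) ∧ ∀ i, θ (b (1, i)) = a • b (1, i) - N • b (0, i) := by
  classical
  set p : F[X] := X ^ 2 - C a * X + C N with hp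
  have hmon : p.Monic := by rw [hp]; monicity!
  have hdeg : p.natDegree = 2 := by rw [hp]; compute_degree!
  have hgi : Irreducible p := by
    rw [Monic.irreducible_iff_roots_eq_zero_of_degree_le_three hmon (by omega) (by omega),
      Multiset.eq_zero_iff_forall_notMem]
    intro s hs
    have := (mem_roots hmon.ne_zero).1 hs
    refine hirr s ?_
    simpa [hp, IsRoot.def, pow_two] using this
  haveI : Fact (Irreducible p) := ⟨hgi⟩
  set pb := AdjoinRoot.powerBasis hgi.ne_zero with hpb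
  have hdim : pb.dim = 2 := by rw [hpb, AdjoinRoot.powerBasis_dim, hdeg]
  let φ : AdjoinRoot p →ₐ[F] Module.End F V :=
    Ideal.Quotient.liftₐ _ (aeval θ) (fun z hz => by
      obtain ⟨w, rfl⟩ := Ideal.mem_span_singleton.1 hz
      rw [map_mul, show aeval θ p = 0 from LinearMap.ext fun v => by
        simp [hp, pow_two, hsq, Module.algebraMap_end_apply], zero_mul])
  letI : Module (AdjoinRoot p) V := Module.compHom V φ.toRingHom
  haveI : IsScalarTower F (AdjoinRoot p) V := ⟨fun c k v => by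
    show φ (c • k) v = c • φ k v
    rw [map_smul, LinearMap.smul_apply]⟩
  haveI : FiniteDimensional (AdjoinRoot p) V := Module.Finite.of_restrictScalars_finite F _ V
  have hroot : ∀ v : V, (AdjoinRoot.root p) • v = θ v := fun v => by
    show φ (AdjoinRoot.root p) v = θ v
    rw [show φ (AdjoinRoot.root p) = aeval θ (X : F[X]) from rfl, aeval_X]
  let vb := Module.finBasis (AdjoinRoot p) V
  let b := (pb.basis.smulTower vb).reindex (Equiv.prodCongr (finCongr hdim) (Equiv.refl _))
  have hb0 : ∀ i, b (0, i) = vb i := fun i => by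
    simp [b, Basis.smulTower_apply, pb.basis_eq_pow, hpb]
  have hb1 : ∀ i, b (1, i) = θ (vb i) := fun i => by
    simp [b, Basis.smulTower_apply, pb.basis_eq_pow, hpb, hroot]
  exact ⟨_, b, fun i => by rw [hb0, hb1], fun i => by rw [hb1, hb0, hsq]⟩

theorem even_finrank (hsq : ∀ x, θ (θ x) = a • θ x - N • x) (hirr : ∀ s : F, s * s - a * s + N ≠ 0) :
    Even (finrank F V) := by
  obtain ⟨m, b, -, -⟩ := normal_quad hsq hirr
  exact ⟨m, by rw [Module.finrank_eq_card_basis b, Fintype.card_prod, Fintype.card_fin, Fintype.card_fin, two_mul]⟩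

theorem even_rk_of_comm (hsq : ∀ x, θ (θ x) = a • θ x - N • x) (hirr : ∀ s : F, s * s - a * s + N ≠ 0)
    {h : V →ₗ[F] V} (hc : ∀ x, h (θ x) = θ (h x)) : Even (rk h) := by
  have hW : ∀ x ∈ LinearMap.range (h - LinearMap.id), θ x ∈ LinearMap.range (h - LinearMap.id) := by
    rintro _ ⟨x, rfl⟩
    exact ⟨θ x, by simp [hc]⟩
  exact even_finrank (θ := θ.restrict hW) (a := a) (N := N) (fun x => Subtype.ext (hsq x)) hirr

/-- the conjugate of `θ` differs from `θ` by an invertible element -/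
theorem sub_conj_injective [Finite F] (hirr : ∀ s : F, s * s - a * s + N ≠ 0)
    (hsq : ∀ x, θ (θ x) = a • θ x - N • x) {x : V} (hx : a • x - θ x - θ x = 0) : x = 0 := by
  by_cases h2 : (2 : F) = 0
  · have e : θ x + θ x = 0 := by rw [← two_smul F (θ x), h2, zero_smul]
    rw [sub_sub, e, sub_zero] at hx
    rcases smul_eq_zero.1 hx with ha | h
    · obtain ⟨s, hs⟩ := exists_sq h2 N
      refine absurd ?_ (hirr s)
      rw [ha, zero_mul, sub_zero, hs, ← two_mul, h2, zero_mul]
    · exact h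
  · have e : θ x = (a / 2) • x := by
      rw [sub_sub, ← two_smul F (θ x), sub_eq_zero] at hx
      rw [div_eq_inv_mul, ← smul_smul, hx, inv_smul_smul₀ h2]
    by_contra hx0
    refine hirr (a / 2) ?_
    have h := hsq x
    rw [e, map_smul, e, smul_smul, smul_smul, ← sub_smul, ← sub_eq_zero, ← sub_smul] at h
    exact ((smul_eq_zero.1 h).resolve_right hx0) |>.symm.trans (by ring) |>.symm

/-- a semilinear involution has rank half the dimension -/
theorem two_rk_of_anti [Finite F] (hsq : ∀ x, θ (θ x) = a • θ x - N • x)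
    (hirr : ∀ s : F, s * s - a * s + N ≠ 0) {h : V →ₗ[F] V} (hh : ∀ x, h (h x) = x)
    (hc : ∀ x, h (θ x) = a • h x - θ (h x)) : 2 * rk h = finrank F V := by
  let Δ : V →ₗ[F] V := a • LinearMap.id - θ - θ
  have hΔ : Function.Surjective Δ := LinearMap.injective_iff_surjective.1
    ((injective_iff_map_eq_zero Δ).2 fun x hx => sub_conj_injective hirr hsq (by simpa [Δ] using hx))
  have bound : ∀ g : V →ₗ[F] V, (∀ x, g (θ x) - θ (g x) = Δ (h x)) →
      finrank F V ≤ 2 * finrank F (LinearMap.range g) := by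
    intro g hg
    have htop : (⊤ : Submodule F V) ≤ LinearMap.range g ⊔ (LinearMap.range g).map θ := by
      intro y _
      obtain ⟨w, rfl⟩ := hΔ y
      rw [← hh w, ← hg]
      exact sub_mem (Submodule.mem_sup_left ⟨_, rfl⟩)
        (Submodule.mem_sup_right (Submodule.mem_map_of_mem ⟨_, rfl⟩))
    have h1 := Submodule.finrank_mono htop
    have h2 := Submodule.finrank_add_le_finrank_add_finrank (LinearMap.range g) ((LinearMap.range g).map θ)
    have h3 := Submodule.finrank_map_le θ (LinearMap.range g)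
    rw [finrank_top] at h1
    omega
  have hp := bound (h - LinearMap.id) fun x => by
    simp only [LinearMap.sub_apply, LinearMap.id_apply, map_sub, hc, Δ, LinearMap.smul_apply]
    abel
  have hm := bound (h + LinearMap.id) fun x => by
    simp only [LinearMap.sub_apply, LinearMap.add_apply, LinearMap.id_apply, map_add, hc, Δ,
      LinearMap.smul_apply]
    abel
  have hle : LinearMap.range (h - LinearMap.id) ≤ LinearMap.ker (h + LinearMap.id) := by
    rintro _ ⟨x, rfl⟩
    simp [hh]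
  have h4 := Submodule.finrank_mono hle
  have h5 := LinearMap.finrank_range_add_finrank_ker (h + LinearMap.id)
  unfold rk
  omega

/-- a semilinear involution -/
theorem exists_anti [Finite F] (hsq : ∀ x, θ (θ x) = a • θ x - N • x)
    (hirr : ∀ s : F, s * s - a * s + N ≠ 0) :
    ∃ h : V →ₗ[F] V, (∀ x, h (h x) = x) ∧ ∀ x, h (θ x) = a • h x - θ (h x) := by
  obtain ⟨m, b, h0, h1⟩ := normal_quad hsq hirr
  let h : V →ₗ[F] V := b.constr F fun p => if p.1 = 0 then b (0, p.2) else a • b (0, p.2) - b (1, p.2)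
  have e0 : ∀ i, h (b (0, i)) = b (0, i) := fun i =>
    (Basis.constr_basis b F _ (0, i)).trans (if_pos rfl)
  have e1 : ∀ i, h (b (1, i)) = a • b (0, i) - b (1, i) := fun i =>
    (Basis.constr_basis b F _ (1, i)).trans (if_neg (fun e => absurd (congrArg Fin.val e) Nat.one_ne_zero))
  refine ⟨h, fun x => ?_, fun x => ?_⟩
  · have : h ∘ₗ h = LinearMap.id := b.ext fun p => by
      obtain ⟨k, i⟩ := p
      fin_cases k
      · simp [e0]
      · simp [e0, e1]
    exact LinearMap.congr_fun this x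
  · have : h ∘ₗ θ = a • h - θ ∘ₗ h := b.ext fun p => by
      obtain ⟨k, i⟩ := p
      fin_cases k
      · simp [e0, e1, h0]
      · simp [e0, e1, h0, h1]
    exact LinearMap.congr_fun this x

/-- a linear involution of given rank -/
theorem exists_comm (hsq : ∀ x, θ (θ x) = a • θ x - N • x) (hirr : ∀ s : F, s * s - a * s + N ≠ 0)
    (t : ℕ) (ht : 2 * t ≤ finrank F V) (ht2 : (2 : F) = 0 → 4 * t ≤ finrank F V) :
    ∃ h : V →ₗ[F] V, (∀ x, h (h x) = x) ∧ (∀ x, h (θ x) = θ (h x)) ∧ rk h = 2 * t := by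
  classical
  obtain ⟨m, b, h0, h1⟩ := normal_quad hsq hirr
  have hm : finrank F V = 2 * m := by
    rw [Module.finrank_eq_card_basis b, Fintype.card_prod, Fintype.card_fin, Fintype.card_fin]
  -- the image of a basis vector under `h - 1`
  obtain ⟨π, hπ, c, hc0, hcc⟩ : ∃ π : Fin t → Fin m, Function.Injective π ∧ ∃ c : F, c ≠ 0 ∧
      (((2 : F) ≠ 0 ∧ c = -2 ∧ ∀ i, (π i : ℕ) = i) ∨ ((2 : F) = 0 ∧ ∀ i, (π i : ℕ) = i + t)) := by
    by_cases h2 : (2 : F) = 0
    · exact ⟨fun i => ⟨i + t, by have := ht2 h2; omega⟩, fun i j e => Fin.ext (by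
        have := congrArg Fin.val e; simp at this; omega), 1, one_ne_zero, Or.inr ⟨h2, fun i => rfl⟩⟩
    · exact ⟨fun i => ⟨i, by omega⟩, fun i j e => Fin.ext (by simpa using congrArg Fin.val e), -2,
        neg_ne_zero.2 h2, Or.inl ⟨h2, rfl, fun i => rfl⟩⟩
  let M : V →ₗ[F] V := b.constr F fun p =>
    if h : (p.2 : ℕ) < t then c • b (p.1, π ⟨p.2, h⟩) else 0
  have eM : ∀ k (i : Fin m), M (b (k, i)) = if h : (i : ℕ) < t then c • b (k, π ⟨i, h⟩) else 0 :=
    fun k i => Basis.constr_basis b F _ (k, i)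
  have hMM : ∀ x, M (M x) + (M x + M x) = 0 := by
    have : M ∘ₗ M + (M + M) = 0 := b.ext fun ⟨k, i⟩ => by
      simp only [LinearMap.add_apply, LinearMap.comp_apply, LinearMap.zero_apply, eM]
      split_ifs with hi
      · rw [map_smul, eM]
        rcases hcc with ⟨-, rfl, hp⟩ | ⟨h2, hp⟩
        · rw [dif_pos (by rw [hp]; exact hi)]
          have : π ⟨(π ⟨i, hi⟩ : ℕ), by rw [hp]; exact hi⟩ = π ⟨i, hi⟩ := by
            congr 1; exact Fin.ext (hp _)
          rw [this]; module
        · rw [dif_neg (by rw [hp]; simp), smul_zero, zero_add, ← two_smul F, h2, zero_smul]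
      · simp
    exact fun x => LinearMap.congr_fun this x
  have hMθ : ∀ x, M (θ x) = θ (M x) := by
    have : M ∘ₗ θ = θ ∘ₗ M := b.ext fun ⟨k, i⟩ => by
      simp only [LinearMap.comp_apply]
      fin_cases k
      · simp only [Fin.zero_eta, h0, eM]
        split_ifs with hi
        · simp [h0]
        · simp
      · simp only [Fin.mk_one, h1, map_sub, map_smul, eM]
        split_ifs with hi
        · simp only [map_smul, h1, smul_sub]; module
        · simp
    exact fun x => LinearMap.congr_fun this x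
  refine ⟨LinearMap.id + M, fun x => ?_, fun x => by simp [hMθ], ?_⟩
  · simp only [LinearMap.add_apply, LinearMap.id_apply, map_add]
    calc x + M x + (M x + M (M x)) = x + (M (M x) + (M x + M x)) := by abel
      _ = x := by rw [hMM, add_zero]
  · let g : Fin 2 × Fin t → V := fun p => b (p.1, π p.2)
    have hg : LinearIndependent F g :=
      b.linearIndependent.comp (fun p : Fin 2 × Fin t => (p.1, π p.2)) fun p q e =>
        Prod.ext (Prod.mk.inj e).1 (hπ (Prod.mk.inj e).2)
    have hr : LinearMap.range (LinearMap.id + M - LinearMap.id) = Submodule.span F (Set.range g) := by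
      rw [add_sub_cancel_left]
      refine le_antisymm ?_ (Submodule.span_le.2 ?_)
      · rw [LinearMap.range_eq_map, ← b.span_eq, Submodule.map_span, Submodule.span_le]
        rintro _ ⟨_, ⟨⟨k, i⟩, rfl⟩, rfl⟩
        rw [eM]
        split_ifs with hi
        · exact Submodule.smul_mem _ _ (Submodule.subset_span ⟨(k, ⟨i, hi⟩), rfl⟩)
        · exact zero_mem _
      · rintro _ ⟨⟨k, i⟩, rfl⟩
        refine ⟨c⁻¹ • b (k, ⟨i, by omega⟩), ?_⟩
        rw [map_smul, eM, dif_pos i.2, inv_smul_smul₀ hc0]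
    rw [rk, hr, finrank_span_eq_card hg, Fintype.card_prod, Fintype.card_fin, Fintype.card_fin]

/-- the norm form takes every value -/
theorem exists_norm [Finite F] (hirr : ∀ s : F, s * s - a * s + N ≠ 0) (u : F) :
    ∃ s t : F, s * s + a * s * t + N * (t * t) = u := by
  haveI := Fintype.ofFinite F
  by_cases h2 : (2 : F) = 0
  · obtain ⟨d, hd⟩ := exists_sq h2 u
    exact ⟨d, 0, by rw [← hd]; ring⟩
  · have hD : N - a * a / 4 ≠ 0 := fun e => hirr (a / 2) (by
      have : N = a * a / 4 := sub_eq_zero.1 e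
      rw [this, show (4 : F) = 2 * 2 by norm_num]; field_simp; ring)
    have hchar : Fintype.card F % 2 = 1 := by
      refine FiniteField.odd_card_of_char_ne_two fun e => h2 ?_
      haveI := ringChar.of_eq e
      exact CharTwo.two_eq_zero
    obtain ⟨x, y, hxy⟩ := FiniteField.exists_root_sum_quadratic
      (f := (X : F[X]) ^ 2 - C u) (g := C (N - a * a / 4) * X ^ 2)
      (by rw [degree_X_pow_sub_C (by norm_num)]; rfl) (degree_C_mul_X_pow 2 hD) hchar
    refine ⟨x - a * y / 2, y, ?_⟩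
    simp only [eval_sub, eval_pow, eval_X, eval_C, eval_mul] at hxy
    have h4 : (4 : F) ≠ 0 := by rw [show (4 : F) = 2 * 2 by norm_num]; exact mul_ne_zero h2 h2
    field_simp at hxy ⊢
    linear_combination hxy

theorem exists_cent_quad [Finite F] [Nontrivial V] (hsq : ∀ x, θ (θ x) = a • θ x - N • x)
    (hirr : ∀ s : F, s * s - a * s + N ≠ 0) (u : Fˣ) :
    ∃ C : V ≃ₗ[F] V, (∀ x, C (θ x) = θ (C x)) ∧ LinearEquiv.det C = u := by
  classical
  obtain ⟨m, b, h0, h1⟩ := normal_quad hsq hirr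
  obtain ⟨s, t, hst⟩ := exists_norm hirr (u : F)
  obtain ⟨-, i₀⟩ : Fin 2 × Fin m := b.index_nonempty.some
  let T : Matrix (Fin 2) (Fin 2) F := !![0, -N; 1, a]
  let B : Fin m → Matrix (Fin 2) (Fin 2) F := fun i => if i = i₀ then !![s, -(N * t); t, s + a * t] else 1
  have hBT : ∀ i, B i * T = T * B i := fun i => by
    by_cases hi : i = i₀
    · simp only [B, if_pos hi, T]
      ext k l; fin_cases k <;> fin_cases l <;> simp [Matrix.mul_apply, Fin.sum_univ_two] <;> ring
    · simp [B, hi]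
  have hθ : LinearMap.toMatrix b b θ = Matrix.blockDiagonal fun _ => T := by
    ext ⟨k, i⟩ ⟨l, j⟩
    rw [LinearMap.toMatrix_apply, Matrix.blockDiagonal_apply]
    fin_cases l
    · simp only [Fin.zero_eta, h0, Basis.repr_self, Finsupp.single_apply]
      fin_cases k <;> by_cases hij : i = j <;> simp [T, hij, Ne.symm]
    · simp only [Fin.mk_one, h1, map_sub, map_smul, Basis.repr_self, Finsupp.sub_apply, Finsupp.smul_apply,
        Finsupp.single_apply]
      fin_cases k <;> by_cases hij : i = j <;> simp [T, hij, Ne.symm]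
  let Cl := Matrix.toLin b b (Matrix.blockDiagonal B)
  have hdet : LinearMap.det Cl = (u : F) := by
    rw [LinearMap.det_toLin, Matrix.det_blockDiagonal, Finset.prod_eq_single i₀]
    · simp only [B, if_pos, Matrix.det_fin_two_of]; linear_combination hst
    · intro i _ hi; simp [B, hi]
    · simp
  have hu : IsUnit Cl := LinearMap.isUnit_iff_isUnit_det Cl |>.2 (hdet ▸ u.isUnit)
  refine ⟨LinearEquiv.ofBijective Cl ((Module.End.isUnit_iff Cl).1 hu), fun x => ?_, Units.ext ?_⟩
  · have : Cl ∘ₗ θ = θ ∘ₗ Cl := (LinearMap.toMatrix b b).injective (by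
      rw [LinearMap.toMatrix_comp b b b, LinearMap.toMatrix_comp b b b, hθ, LinearMap.toMatrix_toLin,
        ← Matrix.blockDiagonal_mul, ← Matrix.blockDiagonal_mul]
      exact congrArg _ (funext hBT))
    exact LinearMap.congr_fun this x
  · rw [LinearEquiv.coe_det, ← hdet]; rfl

/-- two structures with the same equation are conjugate -/
theorem exists_conj_quad [Finite F] [Nontrivial V] {θ' : V →ₗ[F] V}
    (hsq : ∀ x, θ (θ x) = a • θ x - N • x) (hsq' : ∀ x, θ' (θ' x) = a • θ' x - N • x)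
    (hirr : ∀ s : F, s * s - a * s + N ≠ 0) (u : Fˣ) :
    ∃ e : V ≃ₗ[F] V, (∀ x, e (θ x) = θ' (e x)) ∧ LinearEquiv.det e = u := by
  obtain ⟨m, b, h0, h1⟩ := normal_quad hsq hirr
  obtain ⟨m', b', h0', h1'⟩ := normal_quad hsq' hirr
  have hm : m = m' := by
    have := (Module.finrank_eq_card_basis b).symm.trans (Module.finrank_eq_card_basis b')
    simpa [Fintype.card_prod] using this
  subst hm
  let e₀ := b.equiv b' (Equiv.refl _)
  have h : ∀ x, e₀ (θ x) = θ' (e₀ x) := fun x => by
    have : e₀.toLinearMap ∘ₗ θ = θ' ∘ₗ e₀.toLinearMap := b.ext fun ⟨k, i⟩ => by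
      fin_cases k
      · simp [e₀, h0, h0']
      · simp [e₀, h1, h1']
    exact LinearMap.congr_fun this x
  obtain ⟨C, hC, hdet⟩ := exists_cent_quad hsq hirr ((LinearEquiv.det e₀)⁻¹ * u)
  refine ⟨C.trans e₀, fun x => by simp only [LinearEquiv.trans_apply, hC, h], ?_⟩
  rw [LinearEquiv.det_trans, hdet, mul_inv_cancel_left]

end quad

end Cfsg.Agent.Forms.Elusive.Inv
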