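import Mathlib
import Cfsg.Agent.Lib.Forms.Elusive.Semisimple
import Cfsg.Agent.Lib.Forms.Elusive.Models
import Cfsg.Agent.Lib.Forms.Elusive.Count

/-!
# Elements of prime order of `SL_n(q)`
-/

set_option autoImplicit false
set_option linter.unusedSectionVars false

open Polynomial Module

namespace Cfsg.Agent.Forms.Elusive

variable {F : Type*} [Field F] [Fintype F]

theorem det_of_not_pow {V : Type*} [AddCommGroup V] [Module F V] [FiniteDimensional F V]
    {f : V →ₗ[F] V} {r : ℕ} [hr : Fact r.Prime] {c : F} (hf : ∀ v, (f ^ r) v = c • v)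
    (hc : ∀ d : F, d ^ r ≠ c) :
    ∃ k, finrank F V = r * k ∧ LinearMap.det f = ((-1) ^ (r + 1) * c) ^ k := by
  classical
  have hgi : Irreducible (X ^ r - C c : F[X]) := X_pow_sub_C_irreducible_of_prime hr.out hc
  haveI : Fact (Irreducible (X ^ r - C c : F[X])) := ⟨hgi⟩
  set pb := AdjoinRoot.powerBasis hgi.ne_zero with hpb
  haveI : FiniteDimensional F (AdjoinRoot (X ^ r - C c : F[X])) := pb.finite
  have hdim : pb.dim = r := by rw [hpb, AdjoinRoot.powerBasis_dim, natDegree_X_pow_sub_C]
  have hKd : finrank F (AdjoinRoot (X ^ r - C c : F[X])) = r := by rw [pb.finrank, hdim]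
  let φ : AdjoinRoot (X ^ r - C c : F[X]) →ₐ[F] Module.End F V :=
    Ideal.Quotient.liftₐ _ (aeval f) (fun a ha => by
      obtain ⟨b, rfl⟩ := Ideal.mem_span_singleton.1 ha
      rw [map_mul, show aeval f (X ^ r - C c : F[X]) = 0 from LinearMap.ext fun v => by simp [hf],
        zero_mul])
  letI : Module (AdjoinRoot (X ^ r - C c : F[X])) V := Module.compHom V φ.toRingHom
  haveI : IsScalarTower F (AdjoinRoot (X ^ r - C c : F[X])) V := ⟨fun a k v => by
    show φ (a • k) v = a • φ k v
    rw [map_smul, LinearMap.smul_apply]⟩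
  haveI : FiniteDimensional (AdjoinRoot (X ^ r - C c : F[X])) V := Module.Finite.of_restrictScalars_finite F _ V
  set θ := AdjoinRoot.root (X ^ r - C c : F[X]) with hθ
  have hfθ : f = (θ • (LinearMap.id : V →ₗ[AdjoinRoot (X ^ r - C c : F[X])] V)).restrictScalars F := by
    refine LinearMap.ext fun v => ?_
    show f v = φ θ v
    rw [show φ θ = aeval f (X : F[X]) from rfl, aeval_X]
  have hnorm : Algebra.norm F θ = (-1) ^ (r + 1) * c := by
    have := Algebra.PowerBasis.norm_gen_eq_coeff_zero_minpoly pb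
    rw [hdim, hpb, AdjoinRoot.powerBasis_gen, AdjoinRoot.minpoly_root hgi.ne_zero,
      (monic_X_pow_sub_C c hr.out.ne_zero).leadingCoeff, inv_one, map_one, mul_one] at this
    rw [hθ, this, coeff_sub, coeff_X_pow, if_neg hr.out.ne_zero.symm, coeff_C_zero, pow_succ]
    ring
  refine ⟨finrank (AdjoinRoot (X ^ r - C c : F[X])) V, ?_, ?_⟩
  · rw [← Module.finrank_mul_finrank F (AdjoinRoot (X ^ r - C c : F[X])) V, hKd]
  · rw [hfθ, LinearMap.det_restrictScalars, LinearMap.det_smul, LinearMap.det_id, mul_one, map_pow, hnorm]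

variable {n : ℕ}

local notation "Vn" => (Fin n → F)

theorem toLin'_pow_scalar {x : Matrix.SpecialLinearGroup (Fin n) F} {r : ℕ} {z : F}
    (hz : ((x ^ r : Matrix.SpecialLinearGroup (Fin n) F) : Matrix (Fin n) (Fin n) F) = z • 1) (v : Vn) :
    ((Matrix.toLin' (x : Matrix (Fin n) (Fin n) F)) ^ r) v = z • v := by
  rw [Matrix.SpecialLinearGroup.coe_pow] at hz
  rw [← Matrix.toLin'_pow, hz, map_smul, Matrix.toLin'_one]
  rfl

/-- an element of prime order is, up to a scalar, one with `f ^ r = 1`, or its `r`-th power is no power -/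
theorem normalise (r : ℕ) [hr : Fact r.Prime] (x : Matrix.SpecialLinearGroup (Fin n) F) {z : F}
    (hz : ((x ^ r : Matrix.SpecialLinearGroup (Fin n) F) : Matrix (Fin n) (Fin n) F) = z • 1) (hn : 0 < n) :
    (∃ f : Vn →ₗ[F] Vn, (∀ v, (f ^ r) v = v) ∧
      ∀ W : Submodule F Vn, W.map f ≤ W → W.map (Matrix.toLin' (x : Matrix (Fin n) (Fin n) F)) ≤ W) ∨
    (r ∣ Fintype.card F - 1 ∧ (∀ d : F, d ^ r ≠ z) ∧
      ∃ k, n = r * k ∧ 0 < k ∧ ((-1) ^ (r + 1) * z) ^ k = 1) := by
  by_cases h : ∃ d : F, d ^ r = z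
  · obtain ⟨d, hd⟩ := h
    have hd0 : d ≠ 0 := by
      rintro rfl
      rw [zero_pow hr.out.ne_zero] at hd
      have hdet := congrArg Matrix.det hz
      haveI : Nonempty (Fin n) := ⟨⟨0, hn⟩⟩
      rw [(x ^ r).2, ← hd, zero_smul, Matrix.det_zero] at hdet
      exact one_ne_zero hdet
    refine Or.inl ⟨d⁻¹ • Matrix.toLin' (x : Matrix (Fin n) (Fin n) F), fun v => ?_, fun W hW => ?_⟩
    · rw [_root_.smul_pow, LinearMap.smul_apply, toLin'_pow_scalar hz, smul_smul, inv_pow, hd,
        inv_mul_cancel₀ (by rw [← hd]; exact pow_ne_zero _ hd0), one_smul]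
    · rintro _ ⟨v, hv, rfl⟩
      have := W.smul_mem d (hW ⟨v, hv, rfl⟩)
      rwa [LinearMap.smul_apply, smul_inv_smul₀ hd0] at this
  · push Not at h
    refine Or.inr ⟨?_, h, ?_⟩
    · by_contra hd
      obtain ⟨d, hd'⟩ := exists_root_of_not_dvd hd z
      exact h d hd'
    · obtain ⟨k, hk, hdet⟩ := det_of_not_pow (toLin'_pow_scalar hz) h
      rw [finrank_fin_fun] at hk
      rw [LinearMap.det_toLin', x.2] at hdet
      exact ⟨k, hk, Nat.pos_of_ne_zero fun e => by rw [hk, e, mul_zero] at hn; omega, hdet.symm⟩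

/-- a test element whose invariant subspaces have dimensions divisible by `r` -/
theorem exists_twisted (r : ℕ) [hr : Fact r.Prime] (hd : r ∣ Fintype.card F - 1) (hn : 0 < n)
    (h : ¬ (padicValNat r n ≤ padicValNat r (Fintype.card F - 1) ∧
      (r = 2 → Even n → Fintype.card F % 4 = 1))) :
    ∃ x : Matrix.SpecialLinearGroup (Fin n) F,
      (∃ c : F, ((x ^ r : Matrix.SpecialLinearGroup (Fin n) F) : Matrix (Fin n) (Fin n) F) = c • 1) ∧
      (∀ c : F, (x : Matrix (Fin n) (Fin n) F) ≠ c • 1) ∧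
      ∀ W : Submodule F Vn, W.map (Matrix.toLin' (x : Matrix (Fin n) (Fin n) F)) ≤ W → r ∣ finrank F W := by
  obtain ⟨k, rfl⟩ : r ∣ n := by
    by_contra hnd
    exact h (cond_of_not_dvd hnd _)
  have hk : 0 < k := Nat.pos_of_mul_pos_left hn
  obtain ⟨c, hc, hck⟩ := (exists_twist_iff hd rfl hk).2 h
  obtain ⟨A, hA, hdet⟩ := exists_model_scalar r hc k
  refine ⟨⟨A, hdet.trans hck⟩, ⟨c, ?_⟩, fun a ha => ?_, fun W hW => dvd_finrank_of_not_pow hA hc hW⟩
  · refine (Matrix.SpecialLinearGroup.coe_pow _ r).trans ?_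
    refine Matrix.toLin'.injective (LinearMap.ext fun v => ?_)
    rw [Matrix.toLin'_pow, map_smul, Matrix.toLin'_one]
    exact hA v
  · change A = a • 1 at ha
    refine hc a ?_
    have h1 := hA (Pi.single ⟨0, hn⟩ 1)
    rw [ha, map_smul, Matrix.toLin'_one, ← Module.End.one_eq_id, _root_.smul_pow, one_pow,
      LinearMap.smul_apply, Module.End.one_apply] at h1
    simpa using congrFun h1 ⟨0, hn⟩

/-- a test element with smallest fixed space -/
theorem exists_semisimple (r : ℕ) [hr : Fact r.Prime] (hr0 : (r : F) ≠ 0)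
    (hd : ¬ r ∣ Fintype.card F - 1) (hn : n % orderOf ((Fintype.card F : ℕ) : ZMod r) < n) :
    ∃ x : Matrix.SpecialLinearGroup (Fin n) F,
      (∃ c : F, ((x ^ r : Matrix.SpecialLinearGroup (Fin n) F) : Matrix (Fin n) (Fin n) F) = c • 1) ∧
      (∀ c : F, (x : Matrix (Fin n) (Fin n) F) ≠ c • 1) ∧
      (∀ v, ((Matrix.toLin' (x : Matrix (Fin n) (Fin n) F)) ^ r) v = v) ∧
      finrank F (fixSp (Matrix.toLin' (x : Matrix (Fin n) (Fin n) F))) ≤
        n % orderOf ((Fintype.card F : ℕ) : ZMod r) := by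
  obtain ⟨A, hA, hdet, hfix⟩ := exists_model_free (F := F) n r hr0
    (n % orderOf ((Fintype.card F : ℕ) : ZMod r)) (n / orderOf ((Fintype.card F : ℕ) : ZMod r))
    (by rw [mul_comm, Nat.mod_add_div])
  refine ⟨⟨A, eq_one_of_pow_eq_one hd hdet⟩, ⟨1, ?_⟩, fun a ha => ?_, hA, hfix⟩
  · refine (Matrix.SpecialLinearGroup.coe_pow _ r).trans ?_
    refine Matrix.toLin'.injective (LinearMap.ext fun v => ?_)
    rw [Matrix.toLin'_pow, one_smul, Matrix.toLin'_one]
    exact hA v
  · change A = a • 1 at ha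
    have hn0 : 0 < n := by omega
    have h1 := hA (Pi.single ⟨0, hn0⟩ 1)
    rw [ha, map_smul, Matrix.toLin'_one, ← Module.End.one_eq_id, _root_.smul_pow, one_pow,
      LinearMap.smul_apply, Module.End.one_apply] at h1
    have ha1 : a = 1 := eq_one_of_pow_eq_one hd (by simpa using congrFun h1 ⟨0, hn0⟩)
    subst ha1
    rw [one_smul] at ha
    have : fixSp (Matrix.toLin' A) = ⊤ := by
      refine eq_top_iff.2 fun v _ => mem_fixSp.2 ?_
      rw [ha, Matrix.toLin'_one, LinearMap.id_apply]
    rw [this, finrank_top, finrank_fin_fun] at hfix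
    omega

theorem card_congr_equiv {V W : Type*} [AddCommGroup V] [Module F V] [AddCommGroup W] [Module F W]
    (e : V ≃ₗ[F] W) (k : ℕ) :
    Nat.card {U : Submodule F V // finrank F U = k} = Nat.card {U : Submodule F W // finrank F U = k} :=
  Nat.card_congr ((Submodule.orderIsoMapComap e).toEquiv.subtypeEquiv fun U => by
    show finrank F U = k ↔ finrank F (U.map (e : V →ₗ[F] W)) = k
    rw [LinearEquiv.finrank_map_eq])

theorem card_flags (m : ℕ) (hm : 2 * m ≤ n) :
    Nat.card {P : Submodule F Vn × Submodule F Vn //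
        P.1 ≤ P.2 ∧ finrank F P.1 = m ∧ finrank F P.2 = n - m} =
      Nat.card {U : Submodule F Vn // finrank F U = m} *
        Nat.card {W : Submodule F (Fin (n - m) → F) // finrank F W = n - 2 * m} := by
  classical
  have e : ∀ U : {U : Submodule F Vn // finrank F U = m},
      Nat.card {W : Submodule F Vn // U.1 ≤ W ∧ finrank F W = n - m} =
        Nat.card {W : Submodule F (Fin (n - m) → F) // finrank F W = n - 2 * m} := by
    intro U
    have hq : finrank F (Vn ⧸ U.1) = n - m := by
      have := U.1.finrank_quotient_add_finrank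
      rw [finrank_fin_fun, U.2] at this
      omega
    rw [← card_congr_equiv (LinearEquiv.ofFinrankEq (Vn ⧸ U.1) (Fin (n - m) → F) (by rw [hq, finrank_fin_fun]))]
    have hdim : ∀ W' : Submodule F (Vn ⧸ U.1),
        finrank F (W'.comap U.1.mkQ) = finrank F W' + m := by
      intro W'
      have h1 := LinearMap.finrank_range_add_finrank_ker (U.1.mkQ.domRestrict (W'.comap U.1.mkQ))
      rw [LinearMap.range_domRestrict, Submodule.map_comap_eq, Submodule.range_mkQ, top_inf_eq,
        LinearMap.ker_domRestrict, Submodule.ker_mkQ] at h1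
      have h2 : finrank F (U.1.comap (W'.comap U.1.mkQ).subtype) = m := by
        rw [(Submodule.comapSubtypeEquivOfLe (Submodule.le_comap_mkQ U.1 W')).finrank_eq, U.2]
      rw [h2] at h1
      omega
    refine Nat.card_congr (((Equiv.subtypeSubtypeEquivSubtypeInter (fun W => U.1 ≤ W)
      (fun W => finrank F W = n - m)).symm).trans
      ((Submodule.comapMkQRelIso U.1).symm.toEquiv.subtypeEquiv fun W => ?_))
    obtain ⟨W', rfl⟩ := (Submodule.comapMkQRelIso U.1).surjective W
    show finrank F (W'.comap U.1.mkQ) = n - m ↔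
      finrank F ((Submodule.comapMkQRelIso U.1).symm (Submodule.comapMkQRelIso U.1 W')) = n - 2 * m
    rw [OrderIso.symm_apply_apply, hdim]
    omega
  haveI : Finite Vn := inferInstance
  haveI : Fintype {U : Submodule F Vn // finrank F U = m} := Fintype.ofFinite _
  let E : {P : Submodule F Vn × Submodule F Vn // P.1 ≤ P.2 ∧ finrank F P.1 = m ∧ finrank F P.2 = n - m} ≃
      (U : {U : Submodule F Vn // finrank F U = m}) × {W : Submodule F Vn // U.1 ≤ W ∧ finrank F W = n - m} :=
    { toFun := fun P => ⟨⟨P.1.1, P.2.2.1⟩, ⟨P.1.2, P.2.1, P.2.2.2⟩⟩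
      invFun := fun P => ⟨(P.1.1, P.2.1), P.2.2.1, P.1.2, P.2.2.2⟩
      left_inv := fun P => rfl
      right_inv := fun P => rfl }
  rw [Nat.card_congr E, Nat.card_sigma]
  simp only [e, Finset.sum_const, smul_eq_mul, Finset.card_univ, Nat.card_eq_fintype_card]

theorem natCard_ker {M N : Type*} [AddCommGroup M] [Module F M] [FiniteDimensional F M]
    [AddCommGroup N] [Module F N] [FiniteDimensional F N] (φ : M →ₗ[F] N) (hφ : Function.Surjective φ) :
    Nat.card (LinearMap.ker φ) = Fintype.card F ^ (finrank F M - finrank F N) := by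
  have h := LinearMap.finrank_range_add_finrank_ker φ
  rw [LinearMap.range_eq_top.2 hφ, finrank_top] at h
  rw [show finrank F M - finrank F N = finrank F (LinearMap.ker φ) by omega, ← Nat.card_eq_fintype_card]
  exact Module.natCard_eq_pow_finrank

theorem card_pairs (m : ℕ) :
    Nat.card {P : Submodule F Vn × Submodule F Vn // IsCompl P.1 P.2 ∧ finrank F P.1 = m} =
      Nat.card {U : Submodule F Vn // finrank F U = m} * Fintype.card F ^ (n * m - m * m) := by
  classical
  have hb : ∀ U : {U : Submodule F Vn // finrank F U = m},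
      Nat.card {W : Submodule F Vn // IsCompl U.1 W} = Fintype.card F ^ (n * m - m * m) := by
    intro U
    obtain ⟨W₀, hW₀⟩ := U.1.exists_isCompl
    let f₀ := U.1.projectionOnto W₀ hW₀
    have h := natCard_ker (M := Vn →ₗ[F] U.1) (N := U.1 →ₗ[F] U.1) (LinearMap.lcomp F U.1 U.1.subtype)
      (fun g => ⟨g.comp f₀, LinearMap.ext fun x => by simp [f₀]⟩)
    rw [Module.finrank_linearMap, Module.finrank_linearMap, finrank_fin_fun, U.2] at h
    rw [← h]
    refine Nat.card_congr (U.1.isComplEquivProj.trans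
      { toFun := fun f => ⟨f.1 - f₀, by
          rw [LinearMap.mem_ker]
          ext x
          simp [f₀, f.2 x]⟩
        invFun := fun g => ⟨g.1 + f₀, fun x => by
          have h : g.1.comp U.1.subtype = 0 := LinearMap.mem_ker.1 g.2
          have h' : g.1 (x : Vn) = 0 := LinearMap.congr_fun h x
          simp [f₀, h']⟩
        left_inv := fun f => Subtype.ext (sub_add_cancel f.1 f₀)
        right_inv := fun g => Subtype.ext (add_sub_cancel_right g.1 f₀) })
  haveI : Fintype {U : Submodule F Vn // finrank F U = m} := Fintype.ofFinite _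
  let E : {P : Submodule F Vn × Submodule F Vn // IsCompl P.1 P.2 ∧ finrank F P.1 = m} ≃
      (U : {U : Submodule F Vn // finrank F U = m}) × {W : Submodule F Vn // IsCompl U.1 W} :=
    { toFun := fun P => ⟨⟨P.1.1, P.2.2⟩, ⟨P.1.2, P.2.1⟩⟩
      invFun := fun P => ⟨(P.1.1, P.2.1), P.2.2, P.1.2⟩
      left_inv := fun P => rfl
      right_inv := fun P => rfl }
  rw [Nat.card_congr E, Nat.card_sigma]
  simp only [hb, Finset.sum_const, smul_eq_mul, Finset.card_univ, Nat.card_eq_fintype_card]

end Cfsg.Agent.Forms.Elusive
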