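import Mathlib
import Cfsg.Prelude.Def_GeometricClasses
import Cfsg.Agent.Lib.Forms.Elusive.Linear
import Cfsg.Agent.Lib.Forms.Elusive.Involution

/-!
# Elements of order `n` in the normaliser of a field of degree `n`, `n` prime
-/

set_option autoImplicit false
set_option linter.unusedSectionVars false

open Module Polynomial Matrix

namespace Cfsg.Agent.Forms.Elusive.Cyc

section abstract

variable {F : Type*} [Field F] [Fintype F] {V : Type*} [AddCommGroup V] [Module F V] [FiniteDimensional F V]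
  {n : ℕ} [hn : Fact n.Prime]

theorem irreducible_cyclotomic_of_order (hn0 : (n : F) ≠ 0)
    (hc : orderOf ((Fintype.card F : ℕ) : ZMod n) = n - 1) : Irreducible (cyclotomic n F) := by
  classical
  obtain ⟨p, hp⟩ := CharP.exists F
  haveI := hp
  haveI : Fact p.Prime := ⟨CharP.char_is_prime F p⟩
  obtain ⟨k, -, hk⟩ := FiniteField.card F p
  have hpr : p ≠ n := fun e => hn0 (e ▸ CharP.cast_eq_zero F p)
  have hcop : p.Coprime n := (Nat.coprime_primes Fact.out hn.out).2 hpr
  have hu : orderOf ((Fintype.card F : ℕ) : ZMod n) =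
      orderOf (ZMod.unitOfCoprime _ (hcop.pow_left (k : ℕ))) := by
    rw [← orderOf_units, ZMod.coe_unitOfCoprime, hk]
  obtain ⟨g, hg⟩ := UniqueFactorizationMonoid.exists_mem_normalizedFactors (cyclotomic_ne_zero n F)
    (not_isUnit_of_natDegree_pos _ (by rw [natDegree_cyclotomic]; exact Nat.totient_pos.2 hn.out.pos))
  have hgi := UniqueFactorizationMonoid.irreducible_of_normalized_factor g hg
  have hgd : g.natDegree = n - 1 := by
    rw [← hc, hu]; exact natDegree_of_mem_normalizedFactors_cyclotomic hk hcop hg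
  refine (associated_of_dvd_of_natDegree_le (UniqueFactorizationMonoid.dvd_of_mem_normalizedFactors hg)
    (cyclotomic_ne_zero n F) ?_).irreducible hgi
  rw [natDegree_cyclotomic, Nat.totient_prime hn.out, hgd]

theorem exists_fix (hn0 : (n : F) ≠ 0) (h3 : 3 ≤ n)
    (hc : orderOf ((Fintype.card F : ℕ) : ZMod n) = n - 1) (hV : finrank F V = n)
    {f : V →ₗ[F] V} (hf : ∀ v, (f ^ n) v = v) : ∃ u, u ≠ 0 ∧ f u = u := by
  by_contra h
  push Not at h
  have hd := dvd_finrank_of_free (f := f) (r := n) (W := ⊤) le_top (fun v _ => hf v)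
    (fun v _ hv => by_contra fun hv0 => h v hv0 hv)
  rw [hc, finrank_top, hV] at hd
  rcases hn.out.eq_one_or_self_of_dvd _ hd with e | e <;> omega

theorem exists_cyclic_vector (hn0 : (n : F) ≠ 0)
    (hc : orderOf ((Fintype.card F : ℕ) : ZMod n) = n - 1) (hV : finrank F V = n)
    {f : V →ₗ[F] V} (hf : ∀ v, (f ^ n) v = v) (h1 : f ≠ 1) (hu : ∃ u, u ≠ 0 ∧ f u = u) :
    ∃ (b : Basis (Fin n) F V) (v : V), ∀ i, b i = (f ^ (i : ℕ)) v := by
  classical
  obtain ⟨u, hu0, hfu⟩ := hu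
  obtain ⟨w, hw⟩ : ∃ w, f w ≠ w := by
    by_contra hh; push Not at hh; exact h1 (LinearMap.ext hh)
  have hfu' : ∀ j, (f ^ j) u = u := fun j => by
    induction j with
    | zero => rfl
    | succ j ih => rw [pow_succ', Module.End.mul_apply, ih, hfu]
  have hΦu : aeval f (cyclotomic n F) u = (n : F) • u := by
    rw [cyclotomic_prime, map_sum, LinearMap.sum_apply]
    simp only [map_pow, aeval_X, hfu', Finset.sum_const, Finset.card_range, Nat.cast_smul_eq_nsmul]
  obtain ⟨v, hv1, hvΦ⟩ : ∃ v, f v ≠ v ∧ aeval f (cyclotomic n F) v ≠ 0 := by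
    by_cases hw' : aeval f (cyclotomic n F) w = 0
    · refine ⟨u + w, fun e => hw ?_, ?_⟩
      · rw [map_add, hfu] at e; exact add_left_cancel e
      · rw [map_add, hw', add_zero, hΦu]; exact smul_ne_zero hn0 hu0
    · exact ⟨w, hw, hw'⟩
  have hli : LinearIndependent F fun i : Fin n => (f ^ (i : ℕ)) v := by
    rw [Fintype.linearIndependent_iff]
    intro g hg
    set P : F[X] := ∑ i : Fin n, C (g i) * X ^ (i : ℕ) with hP
    have hPv : aeval f P v = 0 := by
      rw [hP, map_sum, LinearMap.sum_apply, ← hg]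
      exact Finset.sum_congr rfl fun i _ => by simp
    have hP0 : P = 0 := by
      by_contra hP0
      have hdeg : P.natDegree < n := by
        refine (natDegree_sum_le_of_forall_le (Finset.univ : Finset (Fin n))
          (fun i => C (g i) * X ^ (i : ℕ)) (n := n - 1) fun i _ =>
          (natDegree_C_mul_X_pow_le _ _).trans (by have := i.2; omega)).trans_lt ?_
        have := hn.out.pos; omega
      set D := EuclideanDomain.gcd P (X ^ n - 1 : F[X]) with hD
      have hDv : aeval f D v = 0 := by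
        rw [hD, EuclideanDomain.gcd_eq_gcd_ab, mul_comm P, mul_comm (X ^ n - 1 : F[X]), map_add,
          LinearMap.add_apply, map_mul, map_mul, Module.End.mul_apply, Module.End.mul_apply, hPv,
          show aeval f (X ^ n - 1 : F[X]) v = 0 by simp [hf], map_zero, map_zero, add_zero]
      have hDdeg : D.natDegree < n :=
        (natDegree_le_of_dvd (EuclideanDomain.gcd_dvd_left P _) hP0).trans_lt hdeg
      have hDdvd : D ∣ cyclotomic n F * (X - 1) := by
        rw [cyclotomic_prime_mul_X_sub_one]; exact EuclideanDomain.gcd_dvd_right _ _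
      have hΦ := irreducible_cyclotomic_of_order hn0 hc
      by_cases hd : cyclotomic n F ∣ D
      · have hD0 : D ≠ 0 := fun e => hP0 (EuclideanDomain.gcd_eq_zero_iff.1 e).1
        have hass := associated_of_dvd_of_natDegree_le hd hD0 (by
          rw [natDegree_cyclotomic, Nat.totient_prime hn.out]; omega)
        obtain ⟨w', hw'⟩ := hass.symm.dvd
        refine hvΦ ?_
        rw [hw', mul_comm, map_mul, Module.End.mul_apply, hDv, map_zero]
      · have hD1 : D ∣ X - 1 := ((hΦ.coprime_iff_not_dvd).2 hd).symm.dvd_of_dvd_mul_left hDdvd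
        obtain ⟨w', hw'⟩ := hD1
        refine hv1 ?_
        have : aeval f (X - 1 : F[X]) v = 0 := by
          rw [hw', mul_comm, map_mul, Module.End.mul_apply, hDv, map_zero]
        simpa [sub_eq_zero] using this
    intro i
    have := congrArg (fun Q : F[X] => Q.coeff (i : ℕ)) hP0
    simpa [hP, coeff_C_mul, coeff_X_pow, Fin.val_inj] using this
  haveI : NeZero n := ⟨hn.out.ne_zero⟩
  let b := basisOfLinearIndependentOfCardEqFinrank hli (by rw [Fintype.card_fin, hV])
  exact ⟨b, v, fun i => by simp [b]⟩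

/-- elements of order `n` with a fixed vector are conjugate -/
theorem exists_conj (hn0 : (n : F) ≠ 0) (hc : orderOf ((Fintype.card F : ℕ) : ZMod n) = n - 1)
    (hV : finrank F V = n) {f f' : V →ₗ[F] V} (hf : ∀ v, (f ^ n) v = v) (hf' : ∀ v, (f' ^ n) v = v)
    (h1 : f ≠ 1) (h1' : f' ≠ 1) (hu : ∃ u, u ≠ 0 ∧ f u = u) (hu' : ∃ u, u ≠ 0 ∧ f' u = u) :
    ∃ e : V ≃ₗ[F] V, ∀ x, e (f x) = f' (e x) := by
  obtain ⟨b, v, hb⟩ := exists_cyclic_vector hn0 hc hV hf h1 hu
  obtain ⟨b', v', hb'⟩ := exists_cyclic_vector hn0 hc hV hf' h1' hu'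
  let e := b.equiv b' (Equiv.refl _)
  have he : ∀ j, j ≤ n → e ((f ^ j) v) = (f' ^ j) v' := fun j hj => by
    rcases lt_or_eq_of_le hj with h | h
    · have := hb ⟨j, h⟩
      rw [show j = ((⟨j, h⟩ : Fin n) : ℕ) from rfl, ← hb, ← hb']
      simp [e]
    · rw [h, hf, hf']
      have h0 := hb ⟨0, hn.out.pos⟩
      have h0' := hb' ⟨0, hn.out.pos⟩
      simp only [pow_zero, Module.End.one_apply] at h0 h0'
      rw [← h0, ← h0']
      simp [e]
  refine ⟨e, fun x => ?_⟩
  have : e.toLinearMap ∘ₗ f = f' ∘ₗ e.toLinearMap := b.ext fun i => by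
    simp only [LinearMap.comp_apply, LinearEquiv.coe_coe, hb, he _ i.2.le]
    rw [← Module.End.mul_apply, ← pow_succ', he _ i.2, pow_succ', Module.End.mul_apply]
  exact LinearMap.congr_fun this x

/-- scalars as determinants when `n ∤ q - 1` -/
theorem exists_root (hnd : ¬ n ∣ Fintype.card F - 1) (u : Fˣ) : ∃ d : Fˣ, d ^ n = u := by
  obtain ⟨d, hd⟩ := exists_root_of_not_dvd (r := n) hnd (u : F)
  exact ⟨Units.mk0 d fun e => u.ne_zero (by rw [← hd, e, zero_pow hn.out.ne_zero]), Units.ext (by simpa using hd)⟩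

theorem exists_conj_det (hn0 : (n : F) ≠ 0) (hnd : ¬ n ∣ Fintype.card F - 1)
    (hc : orderOf ((Fintype.card F : ℕ) : ZMod n) = n - 1)
    (hV : finrank F V = n) {f f' : V →ₗ[F] V} (hf : ∀ v, (f ^ n) v = v) (hf' : ∀ v, (f' ^ n) v = v)
    (h1 : f ≠ 1) (h1' : f' ≠ 1) (hu : ∃ u, u ≠ 0 ∧ f u = u) (hu' : ∃ u, u ≠ 0 ∧ f' u = u) :
    ∃ e : V ≃ₗ[F] V, (∀ x, e (f x) = f' (e x)) ∧ LinearEquiv.det e = 1 := by
  obtain ⟨e, he⟩ := exists_conj hn0 hc hV hf hf' h1 h1' hu hu'
  obtain ⟨d, hd⟩ := exists_root (n := n) hnd (LinearEquiv.det e)⁻¹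
  obtain ⟨C, hC, hdet⟩ := Inv.exists_scale (Module.finBasis F V) (fun _ => d)
  have hC' : ∀ x, C x = (d : F) • x := fun x => by
    have : C.toLinearMap = (d : F) • LinearMap.id := (Module.finBasis F V).ext fun i => by simp [hC]
    exact LinearMap.congr_fun this x
  refine ⟨C.trans e, fun x => by simp only [LinearEquiv.trans_apply, hC', map_smul, he], ?_⟩
  rw [LinearEquiv.det_trans, hdet, Finset.prod_const, Finset.card_univ, Fintype.card_fin, hV, hd,
    mul_inv_cancel]

end abstract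

section field

variable {F : Type*} [Field F] {n : ℕ} [hn : Fact n.Prime]
  {K : Subalgebra F (Matrix (Fin n) (Fin n) F)}

theorem isField (hK : Cfsg.Geo.IsFieldSubalgebra n K) : IsField K where
  exists_pair_ne := by
    haveI : NeZero n := ⟨hn.out.ne_zero⟩
    exact ⟨0, 1, fun e => zero_ne_one (α := Matrix (Fin n) (Fin n) F) (congrArg Subtype.val e)⟩
  mul_comm x y := Subtype.ext (hK.comm _ x.2 _ y.2)
  mul_inv_cancel {x} hx := by
    obtain ⟨y, hy, hxy⟩ := hK.inv _ x.2 fun e => hx (Subtype.ext e)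
    exact ⟨⟨y, hy⟩, Subtype.ext hxy⟩

theorem mulVec_injective (hK : Cfsg.Geo.IsFieldSubalgebra n K) {u : Fin n → F} (hu : u ≠ 0)
    {k k' : Matrix (Fin n) (Fin n) F} (hk : k ∈ K) (hk' : k' ∈ K) (h : k *ᵥ u = k' *ᵥ u) : k = k' := by
  by_contra hne
  obtain ⟨y, -, hy⟩ := hK.inv _ (K.sub_mem hk hk') (sub_ne_zero.2 hne)
  refine hu ?_
  rw [← Matrix.one_mulVec u, ← mul_eq_one_comm.1 hy, ← Matrix.mulVec_mulVec, Matrix.sub_mulVec, h, sub_self,
    Matrix.mulVec_zero]

/-- `v ↦ k v₀` identifies the field with the space -/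
theorem exists_coord (hK : Cfsg.Geo.IsFieldSubalgebra n K) {u : Fin n → F} (hu : u ≠ 0) :
    ∃ Λ : K ≃ₗ[F] (Fin n → F), ∀ k : K, Λ k = (k : Matrix (Fin n) (Fin n) F) *ᵥ u := by
  haveI : FiniteDimensional F K := inferInstanceAs (FiniteDimensional F (Subalgebra.toSubmodule K))
  let L : K →ₗ[F] (Fin n → F) :=
    { toFun := fun k => (k : Matrix (Fin n) (Fin n) F) *ᵥ u
      map_add' := fun a b => by simp [Matrix.add_mulVec]
      map_smul' := fun a b => by simp [Matrix.smul_mulVec] }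
  have hL : Function.Injective L := fun a b h => Subtype.ext (mulVec_injective hK hu a.2 b.2 h)
  exact ⟨LinearMap.linearEquivOfInjective L hL (by rw [hK.finrank_eq, Module.finrank_fin_fun]), fun k => rfl⟩

/-- an element of the normaliser fixing two independent vectors is trivial -/
theorem eq_one_of_two_fixed (hK : Cfsg.Geo.IsFieldSubalgebra n K) {g : GL (Fin n) F}
    (hg : g ∈ Cfsg.Geo.subalgebraNormalizer K) {u₁ u₂ : Fin n → F} (hu : LinearIndependent F ![u₁, u₂])
    (h₁ : (g : Matrix (Fin n) (Fin n) F) *ᵥ u₁ = u₁) (h₂ : (g : Matrix (Fin n) (Fin n) F) *ᵥ u₂ = u₂) :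
    g = 1 := by
  classical
  have hu1 : u₁ ≠ 0 := hu.ne_zero 0
  obtain ⟨Λ, hΛ⟩ := exists_coord hK hu1
  set G : Matrix (Fin n) (Fin n) F := (g : Matrix (Fin n) (Fin n) F)
  set H : Matrix (Fin n) (Fin n) F := ((g⁻¹ : GL (Fin n) F) : Matrix (Fin n) (Fin n) F)
  have hGH : G * H = 1 := Units.mul_inv g
  have hHG : H * G = 1 := Units.inv_mul g
  set k := Λ.symm u₂ with hk
  have hku : (k : Matrix (Fin n) (Fin n) F) *ᵥ u₁ = u₂ := by rw [← hΛ, hk, Λ.apply_symm_apply]
  have hcomm : G * k = k * G := by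
    have h3 : G * k * H = k := mulVec_injective hK hu1 ((hg _).1 k.2) k.2 (by
      have hH : H *ᵥ u₁ = u₁ := by
        conv_lhs => rw [← h₁, Matrix.mulVec_mulVec, hHG, Matrix.one_mulVec]
      rw [← Matrix.mulVec_mulVec, hH, ← Matrix.mulVec_mulVec, hku, h₂])
    calc G * k = G * k * H * G := by rw [mul_assoc _ H, hHG, mul_one]
      _ = k * G := by rw [h3]
  let S : Subalgebra F K :=
    { carrier := {x : K | G * (x : Matrix (Fin n) (Fin n) F) = x * G}
      mul_mem' := fun {a b} ha hb => by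
        show G * ((a : Matrix (Fin n) (Fin n) F) * b) = a * b * G
        rw [← mul_assoc, ha, mul_assoc, hb, mul_assoc]
      add_mem' := fun {a b} ha hb => by
        show G * ((a : Matrix (Fin n) (Fin n) F) + b) = (a + b) * G
        rw [mul_add, add_mul, ha, hb]
      algebraMap_mem' := fun c => by
        show G * algebraMap F (Matrix (Fin n) (Fin n) F) c = algebraMap F (Matrix (Fin n) (Fin n) F) c * G
        exact (Algebra.commutes c G).symm }
  have hS : S = ⊤ := by
    letI : Field K := (isField hK).toField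
    haveI : IsDomain K := inferInstance
    have hprime : (Module.finrank F K).Prime := by rw [hK.finrank_eq]; exact hn.out
    refine ((Subalgebra.isSimpleOrder_of_finrank_prime F K hprime).eq_bot_or_eq_top S).resolve_left fun e => ?_
    have hkS : k ∈ S := hcomm
    rw [e, Algebra.mem_bot] at hkS
    obtain ⟨c, hc⟩ := hkS
    refine (LinearIndependent.pair_iff' hu1).1 hu c ?_
    rw [← hku, ← hc]
    show c • u₁ = algebraMap F (Matrix (Fin n) (Fin n) F) c *ᵥ u₁
    rw [Algebra.algebraMap_eq_smul_one, Matrix.smul_mulVec, Matrix.one_mulVec]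
  refine Units.ext (Matrix.ext_of_mulVec_single fun i => ?_)
  have hmem : Λ.symm (Pi.single i 1) ∈ S := hS ▸ Algebra.mem_top
  conv_lhs => rw [← Λ.apply_symm_apply (Pi.single i 1), hΛ, Matrix.mulVec_mulVec, hmem,
    ← Matrix.mulVec_mulVec, h₁, ← hΛ, Λ.apply_symm_apply]
  rw [Units.val_one, Matrix.one_mulVec]

/-- scalars normalise -/
theorem smul_mem {g g' : GL (Fin n) F} {c : F} (hc : c ≠ 0)
    (h : (g' : Matrix (Fin n) (Fin n) F) = c • (g : Matrix (Fin n) (Fin n) F))
    (hg : g ∈ Cfsg.Geo.subalgebraNormalizer K) : g' ∈ Cfsg.Geo.subalgebraNormalizer K := by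
  have hinv : ((g'⁻¹ : GL (Fin n) F) : Matrix (Fin n) (Fin n) F) = c⁻¹ • ((g⁻¹ : GL (Fin n) F) : Matrix (Fin n) (Fin n) F) := by
    refine left_inv_eq_right_inv (Units.inv_mul g') ?_
    rw [h, Matrix.smul_mul, Matrix.mul_smul, smul_smul, mul_inv_cancel₀ hc, one_smul]
    exact Units.mul_inv g
  intro k
  rw [hg k, h, hinv, Matrix.smul_mul, Matrix.smul_mul, Matrix.mul_smul, smul_smul, mul_inv_cancel₀ hc, one_smul]

variable [Fintype F]

/-- the Frobenius map of the field as an element of the normaliser -/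
theorem exists_frob (hK : Cfsg.Geo.IsFieldSubalgebra n K) :
    ∃ g : GL (Fin n) F, g ∈ Cfsg.Geo.subalgebraNormalizer K ∧ g ^ n = 1 ∧ g ≠ 1 ∧
      ∃ u : Fin n → F, u ≠ 0 ∧ (g : Matrix (Fin n) (Fin n) F) *ᵥ u = u := by
  classical
  haveI : NeZero n := ⟨hn.out.ne_zero⟩
  haveI : FiniteDimensional F K := inferInstanceAs (FiniteDimensional F (Subalgebra.toSubmodule K))
  letI : Field K := (isField hK).toField
  haveI : Finite K := Module.finite_of_finite F
  set σ := FiniteField.frobeniusAlgEquivOfAlgebraic F K with hσ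
  have hord : orderOf σ = n := by
    rw [hσ, FiniteField.orderOf_frobeniusAlgEquivOfAlgebraic, hK.finrank_eq]
  set u : Fin n → F := Pi.single 0 1 with hu
  have hu0 : u ≠ 0 := by simp [hu]
  obtain ⟨Λ, hΛ⟩ := exists_coord hK hu0
  let L : (Fin n → F) →ₗ[F] (Fin n → F) :=
    Λ.toLinearMap ∘ₗ σ.toLinearEquiv.toLinearMap ∘ₗ Λ.symm.toLinearMap
  have hL : ∀ v, L v = Λ (σ (Λ.symm v)) := fun v => rfl
  have hLpow : ∀ j v, (L ^ j) v = Λ ((σ ^ j) (Λ.symm v)) := fun j => by
    induction j with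
    | zero => intro v; simp
    | succ j ih =>
      intro v
      rw [pow_succ', Module.End.mul_apply, ih, hL, Λ.symm_apply_apply, pow_succ', AlgEquiv.mul_apply]
  have hLn : L ^ n = 1 := LinearMap.ext fun v => by
    have h := pow_orderOf_eq_one σ
    rw [hord] at h
    rw [hLpow, h, AlgEquiv.one_apply, Λ.apply_symm_apply]; rfl
  set G : Matrix (Fin n) (Fin n) F := LinearMap.toMatrix' L with hG
  have hGn : G ^ n = 1 := by
    have h := congrArg (LinearMap.toMatrixAlgEquiv' (R := F) (n := Fin n)) hLn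
    rw [map_pow, map_one] at h
    exact h
  let g : GL (Fin n) F := ⟨G, G ^ (n - 1), by rw [← pow_succ', Nat.sub_add_cancel hn.out.pos, hGn],
    by rw [← pow_succ, Nat.sub_add_cancel hn.out.pos, hGn]⟩
  have hGv : ∀ v, G *ᵥ v = L v := fun v => by rw [hG, LinearMap.toMatrix'_mulVec]
  have hsemi : ∀ k : K, G * (k : Matrix (Fin n) (Fin n) F) = (σ k : Matrix (Fin n) (Fin n) F) * G := fun k =>
    Matrix.ext_of_mulVec_single fun i => by
      obtain ⟨w, hw⟩ := Λ.surjective (Pi.single i (1 : F))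
      rw [← hw, ← Matrix.mulVec_mulVec, ← Matrix.mulVec_mulVec]
      have e1 : (k : Matrix (Fin n) (Fin n) F) *ᵥ Λ w = Λ (k * w) := by
        rw [hΛ, hΛ, Matrix.mulVec_mulVec]; rfl
      rw [e1, hGv, hGv, hL, hL, Λ.symm_apply_apply, Λ.symm_apply_apply, map_mul, hΛ, hΛ, Matrix.mulVec_mulVec]
      rfl
  refine ⟨g, fun k => ?_, Units.ext (by rw [Units.val_pow_eq_pow_val, Units.val_one]; exact hGn), fun e => ?_,
    Λ 1, fun e => ?_, ?_⟩
  · have hGH : G * G ^ (n - 1) = 1 := g.val_inv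
    have hHG : G ^ (n - 1) * G = 1 := g.inv_val
    constructor
    · intro hk
      show G * k * G ^ (n - 1) ∈ K
      rw [show G * k = _ from hsemi ⟨k, hk⟩, mul_assoc, hGH, mul_one]
      exact (σ ⟨k, hk⟩).2
    · intro hk
      change G * k * G ^ (n - 1) ∈ K at hk
      have h1 := hsemi (σ.symm ⟨_, hk⟩)
      rw [σ.apply_symm_apply] at h1
      have h2 : G * k = G * ((σ.symm ⟨_, hk⟩ : K) : Matrix (Fin n) (Fin n) F) := by
        rw [h1]
        show G * k = G * k * G ^ (n - 1) * G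
        rw [mul_assoc (G * k), hHG, mul_one]
      have h3 := congrArg (G ^ (n - 1) * ·) h2
      simp only [← mul_assoc, hHG, one_mul] at h3
      exact h3 ▸ (σ.symm ⟨_, hk⟩).2
  · have h1 : G = 1 := congrArg Units.val e
    have : σ = 1 := AlgEquiv.ext fun k => by
      have h2 := hsemi k
      rw [h1, one_mul, mul_one] at h2
      exact Subtype.ext h2.symm
    rw [this, orderOf_one] at hord
    exact hn.out.ne_one hord.symm
  · exact one_ne_zero (Λ.map_eq_zero_iff.1 e)
  · show G *ᵥ Λ 1 = Λ 1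
    rw [hGv, hL, Λ.symm_apply_apply, map_one]

theorem mem_sl_comap_iff (y : Matrix.SpecialLinearGroup (Fin n) F) :
    y ∈ (Cfsg.Geo.subalgebraNormalizer K).comap
        (Matrix.SpecialLinearGroup.toGL : Matrix.SpecialLinearGroup (Fin n) F →* GL (Fin n) F) ↔
      Matrix.SpecialLinearGroup.toGL y ∈ Cfsg.Geo.subalgebraNormalizer K := Iff.rfl

/-- derangements: a scalar multiple of an element with two independent fixed vectors -/
theorem exists_derangement (hK : Cfsg.Geo.IsFieldSubalgebra n K) (Y : Matrix (Fin n) (Fin n) F)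
    (hY : Y ^ n = 1) (hY1 : Y ≠ 1) (c : F) (hdet : c ^ n * Y.det = 1) {u₁ u₂ : Fin n → F}
    (hu : LinearIndependent F ![u₁, u₂]) (h₁ : Y *ᵥ u₁ = u₁) (h₂ : Y *ᵥ u₂ = u₂) :
    ∃ x : Matrix.SpecialLinearGroup (Fin n) F,
      (∃ z : F, ((x ^ n : Matrix.SpecialLinearGroup (Fin n) F) : Matrix (Fin n) (Fin n) F) = z • 1) ∧
      (∀ z : F, (x : Matrix (Fin n) (Fin n) F) ≠ z • 1) ∧
      ∀ P : Matrix.SpecialLinearGroup (Fin n) F, P⁻¹ * x * P ∉ (Cfsg.Geo.subalgebraNormalizer K).comap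
        (Matrix.SpecialLinearGroup.toGL : Matrix.SpecialLinearGroup (Fin n) F →* GL (Fin n) F) := by
  classical
  have hc0 : c ≠ 0 := fun e => by rw [e, zero_pow hn.out.ne_zero, zero_mul] at hdet; exact zero_ne_one hdet
  let x : Matrix.SpecialLinearGroup (Fin n) F := ⟨c • Y, by rw [Matrix.det_smul, Fintype.card_fin, hdet]⟩
  refine ⟨x, ⟨c ^ n, by rw [Matrix.SpecialLinearGroup.coe_pow]; show (c • Y) ^ n = _; rw [_root_.smul_pow, hY]⟩,
    fun z hz => hY1 ?_, fun P hP => hY1 ?_⟩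
  · change c • Y = z • 1 at hz
    have h1 := congrArg (· *ᵥ u₁) hz
    simp only [Matrix.smul_mulVec, h₁, Matrix.one_mulVec] at h1
    have : c = z := sub_eq_zero.1 ((smul_eq_zero.1 (by rw [sub_smul, h1, sub_self] :
      (c - z) • u₁ = 0)).resolve_right (hu.ne_zero 0))
    subst this
    exact smul_right_injective _ hc0 hz
  · rw [mem_sl_comap_iff, map_mul, map_mul, map_inv] at hP
    set T := Matrix.SpecialLinearGroup.toGL (P : Matrix.SpecialLinearGroup (Fin n) F)
    set yg : GL (Fin n) F := ⟨Y, Y ^ (n - 1), by rw [← pow_succ', Nat.sub_add_cancel hn.out.pos, hY],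
      by rw [← pow_succ, Nat.sub_add_cancel hn.out.pos, hY]⟩
    have hg : T⁻¹ * yg * T ∈ Cfsg.Geo.subalgebraNormalizer K := smul_mem (inv_ne_zero hc0) (by
      rw [Units.val_mul, Units.val_mul, Units.val_mul, Units.val_mul]
      show _ * Y * _ = c⁻¹ • (_ * (c • Y) * _)
      rw [Matrix.mul_smul, Matrix.smul_mul, inv_smul_smul₀ hc0]) hP
    have hfix : ∀ w, Y *ᵥ w = w → ((T⁻¹ * yg * T : GL (Fin n) F) : Matrix (Fin n) (Fin n) F) *ᵥ
        (((T⁻¹ : GL (Fin n) F) : Matrix (Fin n) (Fin n) F) *ᵥ w) = ((T⁻¹ : GL (Fin n) F) : Matrix (Fin n) (Fin n) F) *ᵥ w := by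
      intro w hw
      rw [Matrix.mulVec_mulVec, ← Units.val_mul, mul_inv_cancel_right, Units.val_mul, ← Matrix.mulVec_mulVec]
      show _ *ᵥ (Y *ᵥ w) = _
      rw [hw]
    have hli : LinearIndependent F ![((T⁻¹ : GL (Fin n) F) : Matrix (Fin n) (Fin n) F) *ᵥ u₁,
        ((T⁻¹ : GL (Fin n) F) : Matrix (Fin n) (Fin n) F) *ᵥ u₂] := by
      rw [LinearIndependent.pair_iff] at hu ⊢
      intro a b hab
      refine hu a b (Matrix.mulVec_injective_iff_isUnit.2 (T⁻¹).isUnit ?_)
      rw [Matrix.mulVec_zero, Matrix.mulVec_add, Matrix.mulVec_smul, Matrix.mulVec_smul, hab]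
    have h3 := eq_one_of_two_fixed hK hg hli (hfix _ h₁) (hfix _ h₂)
    have h4 : yg = 1 := by
      calc yg = T * (T⁻¹ * yg * T) * T⁻¹ := by group
        _ = 1 := by rw [h3, mul_one, mul_inv_cancel]
    exact congrArg Units.val h4

/-- sufficiency when `q` has order `n - 1` modulo `n` -/
theorem exists_conj_into (hK : Cfsg.Geo.IsFieldSubalgebra n K) (hn0 : (n : F) ≠ 0) (h3 : 3 ≤ n)
    (hc : orderOf ((Fintype.card F : ℕ) : ZMod n) = n - 1) (x : Matrix.SpecialLinearGroup (Fin n) F) {z : F}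
    (hz : ((x ^ n : Matrix.SpecialLinearGroup (Fin n) F) : Matrix (Fin n) (Fin n) F) = z • 1)
    (hns : ∀ z : F, (x : Matrix (Fin n) (Fin n) F) ≠ z • 1) :
    ∃ P : Matrix.SpecialLinearGroup (Fin n) F, P⁻¹ * x * P ∈ (Cfsg.Geo.subalgebraNormalizer K).comap
      (Matrix.SpecialLinearGroup.toGL : Matrix.SpecialLinearGroup (Fin n) F →* GL (Fin n) F) := by
  classical
  haveI : NeZero n := ⟨hn.out.ne_zero⟩
  have hnd : ¬ n ∣ Fintype.card F - 1 := fun h => by rw [(order_one_iff n).2 h] at hc; omega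
  obtain ⟨d, hd⟩ := exists_root_of_not_dvd (r := n) hnd z
  have hd0 : d ≠ 0 := by
    rintro rfl
    rw [zero_pow hn.out.ne_zero] at hd
    have hdet := congrArg Matrix.det hz
    rw [(x ^ n).2, ← hd, zero_smul, Matrix.det_zero] at hdet
    exact one_ne_zero hdet
  let f : (Fin n → F) →ₗ[F] (Fin n → F) := d⁻¹ • Matrix.toLin' (x : Matrix (Fin n) (Fin n) F)
  have hf : ∀ v, (f ^ n) v = v := fun v => by
    rw [show f ^ n = (d⁻¹) ^ n • Matrix.toLin' (x : Matrix (Fin n) (Fin n) F) ^ n from _root_.smul_pow _ _ _,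
      LinearMap.smul_apply, toLin'_pow_scalar hz, smul_smul, inv_pow, hd,
      inv_mul_cancel₀ (by rw [← hd]; exact pow_ne_zero _ hd0), one_smul]
  have hfx : ∀ v, (x : Matrix (Fin n) (Fin n) F) *ᵥ v = d • f v := fun v => by
    simp only [f, LinearMap.smul_apply, Matrix.toLin'_apply, smul_inv_smul₀ hd0]
  have hf1 : f ≠ 1 := fun e => hns d (Matrix.ext_of_mulVec_single fun i => by
    rw [hfx, e, Module.End.one_apply, Matrix.smul_mulVec, Matrix.one_mulVec])
  obtain ⟨g, hg, hgn, hg1, u, hu0, hgu⟩ := exists_frob hK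
  set g' : (Fin n → F) →ₗ[F] (Fin n → F) := Matrix.toLin' (g : Matrix (Fin n) (Fin n) F) with hg'
  have hg'n : ∀ v, (g' ^ n) v = v := fun v => by
    rw [hg', ← Matrix.toLin'_pow, ← Units.val_pow_eq_pow_val, hgn, Units.val_one, Matrix.toLin'_one, LinearMap.id_apply]
  have hg'1 : g' ≠ 1 := fun e => hg1 (Units.ext (Matrix.toLin'.injective (by
    rw [← hg', e, Units.val_one, Matrix.toLin'_one]; rfl)))
  obtain ⟨e, he, hedet⟩ := exists_conj_det hn0 hnd hc (Module.finrank_fin_fun F) hf hg'n hf1 hg'1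
    (exists_fix hn0 h3 hc (Module.finrank_fin_fun F) hf) ⟨u, hu0, by rw [hg', Matrix.toLin'_apply, hgu]⟩
  obtain ⟨P, hP⟩ := Inv.exists_SL e hedet x
  refine ⟨P, smul_mem hd0 ?_ hg⟩
  refine Matrix.ext_of_mulVec_single fun i => ?_
  show ((P⁻¹ * x * P : Matrix.SpecialLinearGroup (Fin n) F) : Matrix (Fin n) (Fin n) F) *ᵥ _ = _
  rw [hP, hfx, map_smul, he, LinearEquiv.apply_symm_apply, Matrix.smul_mulVec, hg', Matrix.toLin'_apply]

end field

end Cfsg.Agent.Forms.Elusive.Cyc
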