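import Mathlib
import Cfsg.Agent.Lib.Forms.Elusive.Linear

/-!
# Elements of prime order fixing subspaces, pairs or flags
-/

set_option autoImplicit false
set_option linter.unusedSectionVars false

open Polynomial Module

namespace Cfsg.Agent.Forms.Elusive

variable {F : Type*} [Field F] [Fintype F]

theorem order_pos (p : ℕ) [Fact p.Prime] [CharP F p] {r : ℕ} [hr : Fact r.Prime] (h : r ≠ p) :
    0 < orderOf ((Fintype.card F : ℕ) : ZMod r) := by
  refine Nat.pos_of_ne_zero fun e => ?_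
  have hd := orderOf_dvd_of_pow_eq_one (ZMod.pow_card_sub_one_eq_one (p := r)
    (fun e' => h ((charP_eq_of_cast_eq_zero p r).1 e') : ((Fintype.card F : ℕ) : ZMod r) ≠ 0))
  rw [e, zero_dvd_iff] at hd
  have := hr.out.two_le
  omega

/-- the condition on `(r, n, m)` -/
def Cond (F : Type*) [Fintype F] (r n m : ℕ) : Prop :=
  (orderOf ((Fintype.card F : ℕ) : ZMod r) = 1 ∧ (r ∣ m ∨ (padicValNat r n ≤ padicValNat r (Fintype.card F - 1) ∧
      (r = 2 → Even n → Fintype.card F % 4 = 1)))) ∨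
    (2 ≤ orderOf ((Fintype.card F : ℕ) : ZMod r) ∧ orderOf ((Fintype.card F : ℕ) : ZMod r) ≤ m ∧
      m % orderOf ((Fintype.card F : ℕ) : ZMod r) ≤ n % orderOf ((Fintype.card F : ℕ) : ZMod r))

/-- the condition for flags -/
def FlagCond (F : Type*) [Fintype F] (r n m : ℕ) : Prop :=
  (orderOf ((Fintype.card F : ℕ) : ZMod r) = 1 ∧ (r ∣ m ∨ (padicValNat r n ≤ padicValNat r (Fintype.card F - 1) ∧
      (r = 2 → Even n → Fintype.card F % 4 = 1)))) ∨
    (2 ≤ orderOf ((Fintype.card F : ℕ) : ZMod r) ∧ orderOf ((Fintype.card F : ℕ) : ZMod r) ≤ m ∧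
      2 * (m % orderOf ((Fintype.card F : ℕ) : ZMod r)) ≤ n % orderOf ((Fintype.card F : ℕ) : ZMod r))

variable {n : ℕ}

local notation "Vn" => (Fin n → F)
local notation "ord" r => orderOf ((Fintype.card F : ℕ) : ZMod r)

theorem mod_mul_add (a e s i : ℕ) (h : a = e + s * i) : a % i = e % i := by
  rw [h, Nat.add_mul_mod_self_right]

theorem shape_of_le {e s i m n : ℕ} (hn : n = e + s * i) (hmn : m ≤ n) (h : m % i ≤ n % i) :
    m - min (m / i) s * i ≤ e ∧ min (m / i) s * i ≤ m ∧ e + min (m / i) s * i ≤ n := by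
  have h1 := Nat.div_add_mod' m i
  have h2 : min (m / i) s * i ≤ m / i * i := Nat.mul_le_mul_right _ (min_le_left _ _)
  have h3 : min (m / i) s * i ≤ s * i := Nat.mul_le_mul_right _ (min_le_right _ _)
  refine ⟨?_, by omega, by omega⟩
  rcases Nat.le_total (m / i) s with hle | hle
  · rw [min_eq_left hle]
    have h5 : n % i ≤ e := by rw [mod_mul_add n e s i hn]; exact Nat.mod_le _ _
    omega
  · rw [min_eq_right hle]; omega

theorem free_shape {f : Vn →ₗ[F] Vn} {r : ℕ} [hr : Fact r.Prime] (hr0 : (r : F) ≠ 0)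
    (hf : ∀ v, (f ^ r) v = v) :
    ∃ s, n = finrank F (fixSp f) + s * (ord r) := by
  obtain ⟨D, -, -, -, hD, hsum⟩ := exists_free_part hr0 hf (W := (⊤ : Submodule F Vn)) le_top
  obtain ⟨s, hs⟩ := hD.dvd D hD.inv le_rfl
  rw [inf_top_eq, finrank_top, finrank_fin_fun] at hsum
  exact ⟨s, by rw [mul_comm, ← hs, hsum]⟩

theorem exists_inv_pair (p : ℕ) [Fact p.Prime] [CharP F p] {r : ℕ} [hr : Fact r.Prime] (hrp : r ≠ p)
    {m : ℕ} (hmn : m ≤ n) (hn : 0 < n) (hc : Cond F r n m) (x : Matrix.SpecialLinearGroup (Fin n) F)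
    (hz : ∃ z : F, ((x ^ r : Matrix.SpecialLinearGroup (Fin n) F) : Matrix (Fin n) (Fin n) F) = z • 1) :
    ∃ U W : Submodule F Vn, IsCompl U W ∧ finrank F U = m ∧
      U.map (Matrix.toLin' (x : Matrix (Fin n) (Fin n) F)) ≤ U ∧
      W.map (Matrix.toLin' (x : Matrix (Fin n) (Fin n) F)) ≤ W := by
  obtain ⟨z, hz⟩ := hz
  have hr0 := natCast_prime_ne_zero (F := F) p hrp
  rcases normalise r x hz hn with ⟨f, hf, hW⟩ | ⟨hd, hpow, k, hk, hk0, hdet⟩
  · obtain ⟨s, hs⟩ := free_shape hr0 hf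
    have hmod : m % (ord r) ≤ n % (ord r) := by
      rcases hc with ⟨h1, -⟩ | ⟨-, -, h⟩
      · rw [h1, Nat.mod_one, Nat.mod_one]
      · exact h
    obtain ⟨h1, h2, h3⟩ := shape_of_le hs hmn hmod
    obtain ⟨U, -, hU, -, -, hUd, -⟩ := exists_pair_inv (t' := 0) (j' := 0) (t := m - min (m / (ord r)) s * (ord r))
      (j := min (m / (ord r)) s) hr0 hf (by rwa [add_zero]) (by rw [add_zero, finrank_fin_fun]; exact h3)
    have hss : Module.End.IsSemisimple f :=
      isSemisimple_of_pow (c := 1) (fun v => by rw [hf, one_smul]) hr0 one_ne_zero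
    obtain ⟨W, hWi, -, hd, hsup, -⟩ := exists_compl hss hU (le_top : (⊤ : Submodule F Vn).map f ≤ ⊤) le_top
    exact ⟨U, W, ⟨hd, codisjoint_iff.2 hsup⟩, by rw [hUd]; omega, hW U hU, hW W hWi⟩
  · have hi : (ord r) = 1 := (order_one_iff r).2 hd
    have hrm : r ∣ m := by
      rcases hc with ⟨-, h | h⟩ | ⟨h, -⟩
      · exact h
      · exact absurd h ((exists_twist_iff hd hk hk0).1 ⟨z, hpow, hdet⟩)
      · omega
    obtain ⟨j, rfl⟩ := hrm
    have hss : Module.End.IsSemisimple (Matrix.toLin' (x : Matrix (Fin n) (Fin n) F)) :=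
      isSemisimple_of_pow (toLin'_pow_scalar hz) hr0 fun e => hpow 0 (by rw [e, zero_pow hr.out.ne_zero])
    obtain ⟨U, hU, -, hUd⟩ := (homog_of_not_pow (toLin'_pow_scalar hz) hpow).exists_sub j
      (by rw [finrank_top, finrank_fin_fun, mul_comm]; exact hmn)
    obtain ⟨W, hWi, -, hdis, hsup, -⟩ := exists_compl hss hU le_top le_top
    exact ⟨U, W, ⟨hdis, codisjoint_iff.2 hsup⟩, by rw [hUd, mul_comm], hU, hWi⟩

theorem exists_inv_flag (p : ℕ) [Fact p.Prime] [CharP F p] {r : ℕ} [hr : Fact r.Prime] (hrp : r ≠ p)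
    {m : ℕ} (hmn : 2 * m ≤ n) (hn : 0 < n) (hc : FlagCond F r n m) (x : Matrix.SpecialLinearGroup (Fin n) F)
    (hz : ∃ z : F, ((x ^ r : Matrix.SpecialLinearGroup (Fin n) F) : Matrix (Fin n) (Fin n) F) = z • 1) :
    ∃ U W : Submodule F Vn, U ≤ W ∧ finrank F U = m ∧ finrank F W = n - m ∧
      U.map (Matrix.toLin' (x : Matrix (Fin n) (Fin n) F)) ≤ U ∧
      W.map (Matrix.toLin' (x : Matrix (Fin n) (Fin n) F)) ≤ W := by
  obtain ⟨z, hz⟩ := hz
  have hr0 := natCast_prime_ne_zero (F := F) p hrp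
  rcases normalise r x hz hn with ⟨f, hf, hW⟩ | ⟨hd, hpow, k, hk, hk0, hdet⟩
  · obtain ⟨s, hs⟩ := free_shape hr0 hf
    set i := (ord r) with hi
    have hmod : 2 * (m % i) ≤ n % i := by
      rcases hc with ⟨h1, -⟩ | ⟨-, -, h⟩
      · rw [hi, h1, Nat.mod_one, Nat.mod_one]
      · exact h
    set j := min (m / i) s with hj
    set j' := min (m / i) (s - j) with hj'
    have h1 := Nat.div_add_mod' m i
    have hjm : j * i ≤ m / i * i := Nat.mul_le_mul_right _ (min_le_left _ _)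
    have hj'm : j' * i ≤ m / i * i := Nat.mul_le_mul_right _ (min_le_left _ _)
    have hjs : (j + j') * i ≤ s * i := Nat.mul_le_mul_right _ (by omega)
    have hadd : (j + j') * i = j * i + j' * i := add_mul _ _ _
    have htt : (m - j * i) + (m - j' * i) ≤ finrank F (fixSp f) := by
      by_cases hcase : 2 * (m / i) ≤ s
      · rw [show j = m / i by omega, show j' = m / i by omega]
        have h5 : n % i ≤ finrank F (fixSp f) := by rw [mod_mul_add n _ s i hs]; exact Nat.mod_le _ _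
        omega
      · have : j + j' = s := by omega
        rw [this] at hadd
        omega
    obtain ⟨U, U', hU, hU', hdis, hUd, hU'd⟩ := exists_pair_inv (t := m - j * i) (t' := m - j' * i)
      (j := j) (j' := j') hr0 hf htt (by rw [finrank_fin_fun, ← hi]; omega)
    rw [← hi] at hUd hU'd
    have hss : Module.End.IsSemisimple f :=
      isSemisimple_of_pow (c := 1) (fun v => by rw [hf, one_smul]) hr0 one_ne_zero
    obtain ⟨W, hWi, hUW, -, hWd⟩ := exists_flag_of_pair hss hU hU' hdis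
    rw [finrank_fin_fun, hU'd] at hWd
    exact ⟨U, W, hUW, by rw [hUd]; omega, by omega, hW U hU, hW W hWi⟩
  · have hi : (ord r) = 1 := (order_one_iff r).2 hd
    have hrm : r ∣ m := by
      rcases hc with ⟨-, h | h⟩ | ⟨h, -⟩
      · exact h
      · exact absurd h ((exists_twist_iff hd hk hk0).1 ⟨z, hpow, hdet⟩)
      · omega
    obtain ⟨j, rfl⟩ := hrm
    have hss : Module.End.IsSemisimple (Matrix.toLin' (x : Matrix (Fin n) (Fin n) F)) :=
      isSemisimple_of_pow (toLin'_pow_scalar hz) hr0 fun e => hpow 0 (by rw [e, zero_pow hr.out.ne_zero])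
    obtain ⟨U, U', hU, hU', -, -, hdis, hUd, hU'd⟩ :=
      (homog_of_not_pow (toLin'_pow_scalar hz) hpow).exists_pair hss (j := j) (j' := j)
        (by rw [finrank_top, finrank_fin_fun, ← two_mul, mul_assoc, mul_comm j]; exact hmn)
    obtain ⟨W, hWi, hUW, -, hWd⟩ := exists_flag_of_pair hss hU hU' hdis
    rw [finrank_fin_fun, hU'd, mul_comm] at hWd
    exact ⟨U, W, hUW, by rw [hUd, mul_comm], by omega, hU, hWi⟩

/-- an element fixing no `m`-space -/
theorem no_inv (p : ℕ) [Fact p.Prime] [CharP F p] {r : ℕ} [hr : Fact r.Prime] (hrp : r ≠ p)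
    {m : ℕ} (hmn : m ≤ n) (hmod : n % (ord r) < m) (hc : ¬ Cond F r n m) :
    ∃ x : Matrix.SpecialLinearGroup (Fin n) F,
      (∃ c : F, ((x ^ r : Matrix.SpecialLinearGroup (Fin n) F) : Matrix (Fin n) (Fin n) F) = c • 1) ∧
      (∀ c : F, (x : Matrix (Fin n) (Fin n) F) ≠ c • 1) ∧
      ∀ W : Submodule F Vn, W.map (Matrix.toLin' (x : Matrix (Fin n) (Fin n) F)) ≤ W → finrank F W ≠ m := by
  have hr0 := natCast_prime_ne_zero (F := F) p hrp
  have hpos := order_pos (F := F) p hrp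
  by_cases hd : r ∣ Fintype.card F - 1
  · have hi : (ord r) = 1 := (order_one_iff r).2 hd
    have h : ¬ r ∣ m ∧ ¬ (padicValNat r n ≤ padicValNat r (Fintype.card F - 1) ∧
        (r = 2 → Even n → Fintype.card F % 4 = 1)) :=
      ⟨fun h => hc (Or.inl ⟨hi, Or.inl h⟩), fun h => hc (Or.inl ⟨hi, Or.inr h⟩)⟩
    obtain ⟨x, h1, h2, h3⟩ := exists_twisted r hd (by omega : 0 < n) h.2
    exact ⟨x, h1, h2, fun W hW e => h.1 (e ▸ h3 W hW)⟩
  · have hi2 : 2 ≤ (ord r) := by
      rcases Nat.lt_or_ge (ord r) 2 with hlt | hge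
      · exact absurd ((order_one_iff r).1 (by omega)) hd
      · exact hge
    obtain ⟨x, h1, h2, h3, h4⟩ := exists_semisimple r hr0 hd (by omega : n % (ord r) < n)
    refine ⟨x, h1, h2, fun W hW e => hc (Or.inr ⟨hi2, ?_⟩)⟩
    obtain ⟨t, j, ht, hte, -⟩ := dim_of_inv hr0 h3 hW
    rw [e] at ht
    have hj : 1 ≤ j := by
      rcases Nat.eq_zero_or_pos j with rfl | hj
      · omega
      · exact hj
    have := Nat.le_mul_of_pos_left (ord r) hj
    refine ⟨by omega, ?_⟩
    rw [ht, Nat.add_mul_mod_self_right]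
    exact (Nat.mod_le _ _).trans (hte.trans h4)

/-- an element fixing no flag -/
theorem no_flag (p : ℕ) [Fact p.Prime] [CharP F p] {r : ℕ} [hr : Fact r.Prime] (hrp : r ≠ p)
    {m : ℕ} (hmn : 2 * m ≤ n) (hmod : n % (ord r) < 2 * m) (hc : ¬ FlagCond F r n m) :
    ∃ x : Matrix.SpecialLinearGroup (Fin n) F,
      (∃ c : F, ((x ^ r : Matrix.SpecialLinearGroup (Fin n) F) : Matrix (Fin n) (Fin n) F) = c • 1) ∧
      (∀ c : F, (x : Matrix (Fin n) (Fin n) F) ≠ c • 1) ∧
      ∀ U W : Submodule F Vn, U ≤ W → U.map (Matrix.toLin' (x : Matrix (Fin n) (Fin n) F)) ≤ U →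
        W.map (Matrix.toLin' (x : Matrix (Fin n) (Fin n) F)) ≤ W → finrank F U = m → finrank F W ≠ n - m := by
  have hr0 := natCast_prime_ne_zero (F := F) p hrp
  have hpos := order_pos (F := F) p hrp
  by_cases hd : r ∣ Fintype.card F - 1
  · have hi : (ord r) = 1 := (order_one_iff r).2 hd
    have h : ¬ r ∣ m ∧ ¬ (padicValNat r n ≤ padicValNat r (Fintype.card F - 1) ∧
        (r = 2 → Even n → Fintype.card F % 4 = 1)) :=
      ⟨fun h => hc (Or.inl ⟨hi, Or.inl h⟩), fun h => hc (Or.inl ⟨hi, Or.inr h⟩)⟩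
    obtain ⟨x, h1, h2, h3⟩ := exists_twisted r hd (by omega : 0 < n) h.2
    exact ⟨x, h1, h2, fun U W _ hU _ e _ => h.1 (e ▸ h3 U hU)⟩
  · have hi2 : 2 ≤ (ord r) := by
      rcases Nat.lt_or_ge (ord r) 2 with hlt | hge
      · exact absurd ((order_one_iff r).1 (by omega)) hd
      · exact hge
    obtain ⟨x, h1, h2, h3, h4⟩ := exists_semisimple r hr0 hd (by omega : n % (ord r) < n)
    refine ⟨x, h1, h2, fun U W hUW hU hW eU eW => hc (Or.inr ⟨hi2, ?_⟩)⟩
    have hss : Module.End.IsSemisimple (Matrix.toLin' (x : Matrix (Fin n) (Fin n) F)) :=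
      isSemisimple_of_pow (c := 1) (fun v => by rw [h3, one_smul]) hr0 one_ne_zero
    obtain ⟨U', hU', -, hdWU', -, hsum⟩ := exists_compl hss hW le_top le_top
    rw [finrank_top, finrank_fin_fun, eW] at hsum
    obtain ⟨D, -, -, -, hD, hDs⟩ := exists_free_part hr0 h3 hU
    obtain ⟨D', -, -, -, hD', hD's⟩ := exists_free_part hr0 h3 hU'
    obtain ⟨j, hj⟩ := hD.dvd D hD.inv le_rfl
    obtain ⟨j', hj'⟩ := hD'.dvd D' hD'.inv le_rfl
    set C := fixSp (Matrix.toLin' (x : Matrix (Fin n) (Fin n) F)) with hC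
    have hle : finrank F ↥(C ⊓ U) + finrank F ↥(C ⊓ U') ≤ finrank F C := by
      rw [← finrank_sup_of_disjoint ((hdWU'.mono_left hUW).mono inf_le_right inf_le_right)]
      exact Submodule.finrank_mono (sup_le inf_le_left inf_le_left)
    have hm1 : m = finrank F ↥(C ⊓ U) + j * (ord r) := by rw [mul_comm, ← hj, hDs, eU]
    have hm2 : m = finrank F ↥(C ⊓ U') + j' * (ord r) := by rw [mul_comm, ← hj', hD's]; omega
    have e1 := Nat.mod_le (finrank F ↥(C ⊓ U)) (ord r)
    have e2 := Nat.mod_le (finrank F ↥(C ⊓ U')) (ord r)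
    rw [← mod_mul_add m _ j _ hm1] at e1
    rw [← mod_mul_add m _ j' _ hm2] at e2
    refine ⟨?_, by omega⟩
    by_contra hlt
    have hj0 : j = 0 := by
      by_contra h0
      have := Nat.le_mul_of_pos_left (ord r) (Nat.pos_of_ne_zero h0)
      omega
    have hj'0 : j' = 0 := by
      by_contra h0
      have := Nat.le_mul_of_pos_left (ord r) (Nat.pos_of_ne_zero h0)
      omega
    rw [hj0, zero_mul] at hm1
    rw [hj'0, zero_mul] at hm2
    omega

/-- consequences of the divisibility of the number of subspaces -/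
theorem subspace_count (p : ℕ) [Fact p.Prime] [CharP F p] {r : ℕ} [hr : Fact r.Prime] {m : ℕ} (hmn : m ≤ n)
    (h : r ∣ Nat.card {W : Submodule F Vn // finrank F W = m}) : r ≠ p ∧ n % (ord r) < m := by
  have hm : m ≤ finrank F Vn := by rwa [finrank_fin_fun]
  refine ⟨fun e => not_char_dvd p hm (e ▸ h), ?_⟩
  obtain ⟨j, h1, h2, h3⟩ := exists_top_of_dvd hm h
  rw [finrank_fin_fun] at h1 h2
  have := mod_le_of_dvd h2 h3
  omega

theorem flag_count (p : ℕ) [Fact p.Prime] [CharP F p] {r : ℕ} [hr : Fact r.Prime] {m : ℕ} (hmn : 2 * m ≤ n)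
    (h : r ∣ Nat.card {P : Submodule F Vn × Submodule F Vn //
        P.1 ≤ P.2 ∧ finrank F P.1 = m ∧ finrank F P.2 = n - m}) : r ≠ p ∧ n % (ord r) < 2 * m := by
  rw [card_flags m hmn] at h
  have hm : m ≤ finrank F Vn := by rw [finrank_fin_fun]; omega
  have hm' : n - 2 * m ≤ finrank F (Fin (n - m) → F) := by rw [finrank_fin_fun]; omega
  rcases hr.out.dvd_mul.1 h with h | h
  · refine ⟨fun e => not_char_dvd p hm (e ▸ h), ?_⟩
    obtain ⟨j, h1, h2, h3⟩ := exists_top_of_dvd hm h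
    rw [finrank_fin_fun] at h1 h2
    have := mod_le_of_dvd h2 h3
    omega
  · refine ⟨fun e => not_char_dvd p hm' (e ▸ h), ?_⟩
    obtain ⟨j, h1, h2, h3⟩ := exists_bot_of_dvd hm' h
    rw [finrank_fin_fun] at h2
    have := mod_le_of_dvd (n := n) (by omega) h3
    omega

theorem pair_count (p : ℕ) [Fact p.Prime] [CharP F p] {r : ℕ} [hr : Fact r.Prime] {m : ℕ} (hmn : m ≤ n)
    (hrp : r ≠ p)
    (h : r ∣ Nat.card {P : Submodule F Vn × Submodule F Vn // IsCompl P.1 P.2 ∧ finrank F P.1 = m}) :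
    n % (ord r) < m := by
  rw [card_pairs] at h
  rcases hr.out.dvd_mul.1 h with h | h
  · exact (subspace_count p hmn h).2
  · exfalso
    obtain ⟨e, -, he⟩ := FiniteField.card F p
    rw [he, ← pow_mul] at h
    exact hrp ((Nat.prime_dvd_prime_iff_eq hr.out Fact.out).1 (hr.out.dvd_of_dvd_pow h))

end Cfsg.Agent.Forms.Elusive
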