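import Mathlib
import Cfsg.Agent.Lib.Forms.Spinor

/-!
# Self-adjoint square roots of a non-square in orthogonal groups

A self-adjoint `T` with `T * T = δ` makes `F^ι` a quadratic space over `F(√δ)`.  Normal bases, conjugacy of
such roots, roots related to an element squaring to `± 1`, and the rank of `g - g⁻¹` for `g` commuting with a root.
-/

set_option autoImplicit false
set_option linter.unusedSectionVars false

namespace Cfsg.Agent.Forms.Elusive.OrthQuad

open Module Matrix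
open Cfsg.Agent.Forms Cfsg.Agent.Forms.Reflections Cfsg.Agent.Forms.Bases Cfsg.Agent.Forms.QuadStd

variable {F : Type*} [Field F] {ι : Type} [Fintype ι] [DecidableEq ι] {Q : QuadraticForm F (ι → F)}

/-- a self-adjoint square root of `δ` -/
def Root (Q : QuadraticForm F (ι → F)) (δ : F) (T : (ι → F) →ₗ[F] (ι → F)) : Prop :=
  (∀ v, T (T v) = δ • v) ∧ ∀ u v, polB Q (T u) v = polB Q u (T v)

/-- the norm of the value of the line through `v` -/
noncomputable def nrm (Q : QuadraticForm F (ι → F)) (δ : F) (T : (ι → F) →ₗ[F] (ι → F)) (v : ι → F) : F :=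
  4 * δ * Q v ^ 2 - polB Q v (T v) ^ 2

theorem polB_comm (u v : ι → F) : polB Q u v = polB Q v u := QuadraticMap.polar_comm _ u v

theorem polB_self (v : ι → F) : polB Q v v = 2 * Q v := by
  rw [polB_apply, QuadraticMap.polar_self, nsmul_eq_mul, Nat.cast_ofNat]

theorem q_add (u v : ι → F) : Q (u + v) = Q u + Q v + polB Q u v := QuadraticMap.map_add Q u v

theorem q_eq (h2 : (2 : F) ≠ 0) (v : ι → F) : Q v = polB Q v v / 2 := by
  rw [polB_self]; field_simp

section roots

variable {δ : F} {T : (ι → F) →ₗ[F] (ι → F)}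

theorem Root.polar_TT (hT : Root Q δ T) (u v : ι → F) : polB Q (T u) (T v) = δ * polB Q u v := by
  rw [hT.2, hT.1, map_smul, smul_eq_mul]

theorem Root.q_T (hT : Root Q δ T) (h2 : (2 : F) ≠ 0) (v : ι → F) : Q (T v) = δ * Q v := by
  rw [q_eq h2, q_eq h2 v, hT.polar_TT, mul_div_assoc]

theorem Root.q_comb (hT : Root Q δ T) (h2 : (2 : F) ≠ 0) (v : ι → F) (s t : F) :
    Q (s • v + t • T v) = (s ^ 2 + δ * t ^ 2) * Q v + s * t * polB Q v (T v) := by
  simp only [q_add, QuadraticMap.map_smul, map_smul, LinearMap.smul_apply, hT.q_T h2, smul_eq_mul]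
  ring

theorem Root.c_comb (hT : Root Q δ T) (v : ι → F) (s t : F) :
    polB Q (s • v + t • T v) (T (s • v + t • T v)) =
      (s ^ 2 + δ * t ^ 2) * polB Q v (T v) + 4 * δ * (s * t) * Q v := by
  simp only [map_add, map_smul, hT.1, LinearMap.add_apply, LinearMap.smul_apply, smul_eq_mul, hT.polar_TT,
    polB_self, polB_comm (T v) v]
  ring

theorem norm_ne_zero (h2 : (2 : F) ≠ 0) (hδ : ¬ IsSquare δ) {A C : F} (h : A ≠ 0 ∨ C ≠ 0) :
    4 * δ * A ^ 2 - C ^ 2 ≠ 0 := by
  intro h0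
  by_cases hA : A = 0
  · rw [hA] at h0 h
    rcases h with h | h
    · exact h rfl
    · exact h (by simpa using h0)
  · exact hδ ⟨C / (2 * A), by field_simp; linear_combination h0⟩

variable [Finite F]

/-- square roots in the quadratic extension -/
theorem exists_sqrt (h2 : (2 : F) ≠ 0) (hδ : ¬ IsSquare δ) {a b n : F} (hn : n ≠ 0) (h : a ^ 2 - δ * b ^ 2 = n ^ 2) :
    ∃ s t : F, s ^ 2 + δ * t ^ 2 = a ∧ 2 * (s * t) = b := by
  have hδ0 : δ ≠ 0 := fun e => hδ (e ▸ ⟨0, by simp⟩)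
  by_cases hb : b = 0
  · subst hb
    by_cases ha : IsSquare a
    · obtain ⟨s, rfl⟩ := ha
      exact ⟨s, 0, by ring, by ring⟩
    · obtain ⟨w, hw⟩ := Bases.isSquare_mul_of_not ha hδ
      exact ⟨0, w / δ, by field_simp; linear_combination -hw, by ring⟩
  · have key : ∀ m : F, m ^ 2 = n ^ 2 → IsSquare ((a + m) / 2) → ∃ s t : F, s ^ 2 + δ * t ^ 2 = a ∧ 2 * (s * t) = b := by
      rintro m hm ⟨s, hs⟩
      have hs0 : s ≠ 0 := by
        rintro rfl
        rw [mul_zero, div_eq_zero_iff] at hs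
        have h4 := eq_neg_of_add_eq_zero_left (hs.resolve_right h2)
        have h3 : δ * b ^ 2 = 0 := by rw [h4] at h; linear_combination -h + hm
        simp [hδ0, hb] at h3
      field_simp at hs
      exact ⟨s, b / (2 * s), by field_simp; linear_combination (a - m - 2 * s ^ 2) * hs - h + hm, by field_simp⟩
    by_cases h1 : IsSquare ((a + n) / 2)
    · exact key n rfl h1
    by_cases h3 : IsSquare ((a + -n) / 2)
    · exact key (-n) (neg_sq n) h3
    exfalso
    obtain ⟨w, hw⟩ := Bases.isSquare_mul_of_not h1 h3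
    refine hδ ⟨2 * w / b, ?_⟩
    field_simp at hw ⊢
    linear_combination hw - h

/-- values of the lines with the same class of norms -/
theorem Root.exists_scale (hT : Root Q δ T) (h2 : (2 : F) ≠ 0) (hδ : ¬ IsSquare δ) {v : ι → F}
    (hv : nrm Q δ T v ≠ 0) {A C : F} (h0 : 4 * δ * A ^ 2 - C ^ 2 ≠ 0)
    (hsq : IsSquare (nrm Q δ T v * (4 * δ * A ^ 2 - C ^ 2))) :
    ∃ s t : F, Q (s • v + t • T v) = A ∧ polB Q (s • v + t • T v) (T (s • v + t • T v)) = C := by
  simp only [hT.q_comb h2, hT.c_comb]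
  rw [nrm] at hv hsq
  set A₀ := Q v
  set C₀ := polB Q v (T v)
  set M := 4 * δ * A₀ ^ 2 - C₀ ^ 2 with hM
  obtain ⟨w, hw⟩ := hsq
  have hw0 : w ≠ 0 := fun e => mul_ne_zero hv h0 (by rw [hw, e, mul_zero])
  obtain ⟨s, t, hs, ht⟩ := exists_sqrt h2 hδ (a := (4 * δ * A * A₀ - C * C₀) / M)
    (b := 2 * (C * A₀ - A * C₀) / M) (n := w / M) (div_ne_zero hw0 hv) (by
      field_simp
      rw [hM] at hw
      linear_combination hw)
  refine ⟨s, t, ?_, ?_⟩
  · rw [hs]
    field_simp at ht ⊢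
    linear_combination C₀ * ht
  · rw [hs]
    field_simp at ht ⊢
    linear_combination (4 * δ * A₀) * ht

omit [Finite F] in
theorem Root.split (hT : Root Q δ T) {W : Submodule F (ι → F)} (hWT : ∀ x ∈ W, T x ∈ W)
    (hW : NondegOn (polB Q) W) {v : ι → F} (hv : v ∈ W) (hn : nrm Q δ T v ≠ 0) :
    let R := W ⊓ (LinearMap.ker (polB Q v) ⊓ LinearMap.ker (polB Q (T v)))
    (∀ y ∈ R, T y ∈ R) ∧ NondegOn (polB Q) R ∧ (∀ z ∈ W, ∃ x y : F, z - (x • v + y • T v) ∈ R) ∧ R < W := by
  intro R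
  have hmem : ∀ y, y ∈ R ↔ y ∈ W ∧ polB Q v y = 0 ∧ polB Q (T v) y = 0 := fun y => by
    simp only [R, Submodule.mem_inf, LinearMap.mem_ker]
  have hdec : ∀ z ∈ W, ∃ x y : F, z - (x • v + y • T v) ∈ R := by
    intro z hz
    refine ⟨(2 * δ * Q v * polB Q v z - polB Q v (T v) * polB Q (T v) z) / nrm Q δ T v,
      (2 * Q v * polB Q (T v) z - polB Q v (T v) * polB Q v z) / nrm Q δ T v, (hmem _).2 ?_⟩
    refine ⟨W.sub_mem hz (W.add_mem (W.smul_mem _ hv) (W.smul_mem _ (hWT v hv))), ?_, ?_⟩ <;>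
      simp only [map_sub, map_add, map_smul, smul_eq_mul, polB_self, hT.polar_TT, polB_comm (T v) v] <;>
      field_simp <;> rw [nrm] <;> ring
  refine ⟨fun y hy => ?_, fun u hu hu' => ?_, hdec, ?_⟩
  · obtain ⟨h1, h2, h3⟩ := (hmem y).1 hy
    refine (hmem _).2 ⟨hWT y h1, ?_, ?_⟩
    · rw [← hT.2, h3]
    · rw [hT.polar_TT, h2, mul_zero]
  · obtain ⟨h1, h2, h3⟩ := (hmem u).1 hu
    refine hW u h1 fun z hz => ?_
    obtain ⟨x, y, hxy⟩ := hdec z hz
    have := hu' _ hxy
    simp only [map_sub, map_add, map_smul, smul_eq_mul, polB_comm u v, polB_comm u (T v), h2, h3] at this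
    linear_combination this
  · refine lt_of_le_of_ne inf_le_left fun e => hn ?_
    obtain ⟨-, h1, h2⟩ := (hmem v).1 (e.symm ▸ hv : v ∈ R)
    rw [polB_comm] at h2
    rw [polB_self] at h1
    rw [nrm, h2]
    linear_combination 2 * δ * Q v * h1

/-- orthogonal lines with non-degenerate planes -/
structure Fam (Q : QuadraticForm F (ι → F)) (δ : F) (T : (ι → F) →ₗ[F] (ι → F)) {k : ℕ} (e : Fin k → ι → F) :
    Prop where
  orth : ∀ i j, i ≠ j → polB Q (e i) (e j) = 0 ∧ polB Q (e i) (T (e j)) = 0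
  ne : ∀ i, nrm Q δ T (e i) ≠ 0

/-- the vectors `e i, T (e i)` -/
def pairVec (T : (ι → F) →ₗ[F] (ι → F)) {k : ℕ} (e : Fin k → ι → F) (z : Fin 2 × Fin k) : ι → F :=
  ![e z.2, T (e z.2)] z.1

omit [Finite F] in
theorem exists_anisotropic (h2 : (2 : F) ≠ 0) {W : Submodule F (ι → F)} (hW : NondegOn (polB Q) W) (hne : W ≠ ⊥) :
    ∃ v ∈ W, Q v ≠ 0 := by
  by_contra hcon
  push Not at hcon
  obtain ⟨u, hu, hu0⟩ := Submodule.exists_mem_ne_zero_of_ne_bot hne
  refine hu0 (hW u hu fun v hv => ?_)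
  have := q_add (Q := Q) u v
  rw [hcon _ (W.add_mem hu hv), hcon u hu, hcon v hv] at this
  linear_combination -this

theorem Root.exists_one (hT : Root Q δ T) (h2 : (2 : F) ≠ 0) (hδ : ¬ IsSquare δ) {W : Submodule F (ι → F)}
    (hWT : ∀ x ∈ W, T x ∈ W) {u w : ι → F} (hu : u ∈ W) (hw : w ∈ W) (h1 : polB Q u w = 0)
    (h1' : polB Q u (T w) = 0) (hnu : nrm Q δ T u ≠ 0) (hnw : nrm Q δ T w ≠ 0) :
    ∃ e ∈ W, Q e = 1 ∧ polB Q e (T e) = 0 := by
  have hδ0 : δ ≠ 0 := fun e => hδ (e ▸ ⟨0, by simp⟩)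
  have h40 : 4 * δ * (1 : F) ^ 2 - (0 : F) ^ 2 ≠ 0 := norm_ne_zero h2 hδ (Or.inl one_ne_zero)
  have hm : ∀ x ∈ W, ∀ s t : F, s • x + t • T x ∈ W := fun x hx s t =>
    W.add_mem (W.smul_mem _ hx) (W.smul_mem _ (hWT x hx))
  by_cases hsu : IsSquare (nrm Q δ T u * (4 * δ * (1 : F) ^ 2 - (0 : F) ^ 2))
  · obtain ⟨s, t, h3, h4⟩ := hT.exists_scale h2 hδ hnu h40 hsu
    exact ⟨_, hm u hu s t, h3, h4⟩
  by_cases hsw : IsSquare (nrm Q δ T w * (4 * δ * (1 : F) ^ 2 - (0 : F) ^ 2))
  · obtain ⟨s, t, h3, h4⟩ := hT.exists_scale h2 hδ hnw h40 hsw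
    exact ⟨_, hm w hw s t, h3, h4⟩
  obtain ⟨z, hz⟩ := Bases.isSquare_mul_of_not hsu hsw
  obtain ⟨c, y, hcy⟩ := Bases.exists_sq_add_sq h2 (one_ne_zero : (1 : F) ≠ 0) hnu δ
  have hy : y ≠ 0 := fun e => hδ ⟨c, by rw [e] at hcy; linear_combination -hcy⟩
  have hval : ∀ c' : F, c' ^ 2 = c ^ 2 → 4 * δ * ((2 : F)⁻¹) ^ 2 - c' ^ 2 = nrm Q δ T u * y ^ 2 := fun c' hc' => by
    rw [hc']; field_simp; linear_combination -4 * hcy
  obtain ⟨s, t, h3, h4⟩ := hT.exists_scale h2 hδ hnu (A := (2 : F)⁻¹) (C := c)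
    (by rw [hval c rfl]; exact mul_ne_zero hnu (pow_ne_zero _ hy))
    ⟨nrm Q δ T u * y, by rw [hval c rfl]; ring⟩
  have h40' : (4 : F) ≠ 0 := by
    rw [← show (2 : F) ^ 2 = 4 by norm_num]; exact pow_ne_zero 2 h2
  obtain ⟨s', t', h5, h6⟩ := hT.exists_scale h2 hδ hnw (A := (2 : F)⁻¹) (C := -c)
    (by rw [hval (-c) (neg_sq c)]; exact mul_ne_zero hnu (pow_ne_zero _ hy))
    ⟨z * y / (4 * δ), by rw [hval (-c) (neg_sq c)]; field_simp at hz ⊢; linear_combination hz⟩
  set u' := s • u + t • T u with hu'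
  set w' := s' • w + t' • T w with hw'
  have ho : polB Q u' w' = 0 ∧ polB Q u' (T w') = 0 ∧ polB Q w' (T u') = 0 := by
    simp only [hu', hw', map_add, map_smul, hT.1, LinearMap.add_apply, LinearMap.smul_apply, smul_eq_mul,
      hT.polar_TT, polB_comm w (T u), polB_comm (T w) (T u), hT.2 u w, polB_comm w u, polB_comm (T w) u, h1, h1']
    refine ⟨?_, ?_, ?_⟩ <;> ring
  refine ⟨u' + w', W.add_mem (hm u hu s t) (hm w hw s' t'), ?_, ?_⟩
  · rw [q_add, h3, h5, ho.1]; field_simp; norm_num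
  · simp only [map_add, LinearMap.add_apply, h4, h6, ho.2.1, ho.2.2]
    ring

theorem Root.exists_lines (hT : Root Q δ T) (h2 : (2 : F) ≠ 0) (hδ : ¬ IsSquare δ) :
    ∀ (n : ℕ) (W : Submodule F (ι → F)), finrank F W = n → (∀ x ∈ W, T x ∈ W) → NondegOn (polB Q) W →
      ∃ (k : ℕ) (e : Fin k → ι → F), (∀ i, e i ∈ W) ∧ Fam Q δ T e ∧
        (∀ i : Fin k, (i : ℕ) + 1 < k → Q (e i) = 1 ∧ polB Q (e i) (T (e i)) = 0) ∧
        W ≤ Submodule.span F (Set.range (pairVec T e)) := by
  intro n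
  induction n using Nat.strong_induction_on with
  | _ n ih =>
    intro W hn hWT hW
    by_cases hne : W = ⊥
    · exact ⟨0, Fin.elim0, fun i => i.elim0, ⟨fun i => i.elim0, fun i => i.elim0⟩, fun i => i.elim0,
        hne ▸ bot_le⟩
    obtain ⟨u, hu, hu0⟩ := exists_anisotropic h2 hW hne
    have hnu : nrm Q δ T u ≠ 0 := norm_ne_zero h2 hδ (Or.inl hu0)
    obtain ⟨hRT, hRnd, hdec, hlt⟩ := hT.split hWT hW hu hnu
    by_cases hR : W ⊓ (LinearMap.ker (polB Q u) ⊓ LinearMap.ker (polB Q (T u))) = ⊥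
    · refine ⟨1, fun _ => u, fun _ => hu, ⟨fun i j h => absurd (Subsingleton.elim i j) h, fun _ => hnu⟩,
        fun i hi => absurd hi (by omega), fun z hz => ?_⟩
      obtain ⟨x, y, hxy⟩ := hdec z hz
      rw [hR, Submodule.mem_bot, sub_eq_zero] at hxy
      rw [hxy]
      exact Submodule.add_mem _ (Submodule.smul_mem _ _ (Submodule.subset_span ⟨(0, 0), by simp [pairVec]⟩))
        (Submodule.smul_mem _ _ (Submodule.subset_span ⟨(1, 0), by simp [pairVec]⟩))
    obtain ⟨w, hw, hw0⟩ := exists_anisotropic h2 hRnd hR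
    simp only [Submodule.mem_inf, LinearMap.mem_ker] at hw
    obtain ⟨e₀, he₀, he1, he2⟩ := hT.exists_one h2 hδ hWT hu hw.1 hw.2.1 (by rw [← hT.2]; exact hw.2.2) hnu
      (norm_ne_zero h2 hδ (Or.inl hw0))
    have hn0 : nrm Q δ T e₀ ≠ 0 := norm_ne_zero h2 hδ (Or.inl (by rw [he1]; exact one_ne_zero))
    obtain ⟨hST, hSnd, hdec', hlt'⟩ := hT.split hWT hW he₀ hn0
    obtain ⟨k, e, hem, hfam, hval, hspan⟩ :=
      ih _ (hn ▸ Submodule.finrank_lt_finrank_of_lt hlt') _ rfl hST hSnd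
    simp only [Submodule.mem_inf, LinearMap.mem_ker] at hem
    refine ⟨k + 1, Fin.cons e₀ e, Fin.forall_fin_succ.2 ⟨he₀, fun i => (hem i).1⟩, ⟨?_, ?_⟩, ?_, fun z hz => ?_⟩
    · refine Fin.forall_fin_succ.2 ⟨Fin.forall_fin_succ.2 ⟨fun h => absurd rfl h, fun j _ => ?_⟩,
        fun i => Fin.forall_fin_succ.2 ⟨fun _ => ?_, fun j hij => ?_⟩⟩
      · simp only [Fin.cons_zero, Fin.cons_succ]
        exact ⟨(hem j).2.1, by rw [← hT.2]; exact (hem j).2.2⟩
      · simp only [Fin.cons_zero, Fin.cons_succ]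
        exact ⟨by rw [polB_comm]; exact (hem i).2.1, by rw [polB_comm]; exact (hem i).2.2⟩
      · simpa using hfam.orth i j fun h => hij (congrArg Fin.succ h)
    · exact Fin.forall_fin_succ.2 ⟨hn0, fun i => hfam.ne i⟩
    · exact Fin.forall_fin_succ.2 ⟨fun _ => ⟨he1, he2⟩, fun i hi => by
        simpa using hval i (by simpa using hi)⟩
    · obtain ⟨x, y, hxy⟩ := hdec' z hz
      set S := Submodule.span F (Set.range (pairVec T (Fin.cons e₀ e)))
      have hsub : Submodule.span F (Set.range (pairVec T e)) ≤ S := by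
        refine Submodule.span_le.2 ?_
        rintro _ ⟨⟨a, i⟩, rfl⟩
        exact Submodule.subset_span ⟨(a, i.succ), by simp [pairVec]⟩
      have h3 := hsub (hspan hxy)
      rw [show z = z - (x • e₀ + y • T e₀) + (x • e₀ + y • T e₀) by abel]
      exact S.add_mem h3 (S.add_mem (S.smul_mem _ (Submodule.subset_span ⟨(0, 0), by simp [pairVec]⟩))
        (S.smul_mem _ (Submodule.subset_span ⟨(1, 0), by simp [pairVec]⟩)))

omit [Finite F] in
theorem Fam.li (hT : Root Q δ T) {k : ℕ} {e : Fin k → ι → F} (h : Fam Q δ T e) :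
    LinearIndependent F (pairVec T e) := by
  rw [Fintype.linearIndependent_iff]
  intro g hg
  have key : ∀ (i : Fin k), g (0, i) * (2 * Q (e i)) + g (1, i) * polB Q (e i) (T (e i)) = 0 ∧
      g (0, i) * polB Q (e i) (T (e i)) + g (1, i) * (δ * (2 * Q (e i))) = 0 := by
    intro i
    have h1 := congrArg (polB Q (e i)) hg
    have h2 := congrArg (polB Q (T (e i))) hg
    simp only [Fintype.sum_prod_type, Fin.sum_univ_two, map_add, map_sum, map_smul, map_zero, smul_eq_mul] at h1 h2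
    constructor
    · rw [Finset.sum_eq_single i, Finset.sum_eq_single i] at h1
      · simpa [pairVec, polB_self] using h1
      all_goals first
        | (intro j _ hj; simp [pairVec, h.orth i j hj.symm])
        | simp
    · rw [Finset.sum_eq_single i, Finset.sum_eq_single i] at h2
      · simpa [pairVec, polB_self, hT.polar_TT, polB_comm (T (e i)) (e i)] using h2
      all_goals first
        | (intro j _ hj; simp [pairVec, hT.polar_TT, hT.2, h.orth i j hj.symm])
        | simp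
  rintro ⟨a, i⟩
  obtain ⟨h1, h2⟩ := key i
  have hne := h.ne i
  rw [nrm] at hne
  revert a
  refine Fin.forall_fin_two.2 ⟨?_, ?_⟩
  · exact (mul_eq_zero.1 (show g (0, i) * (4 * δ * Q (e i) ^ 2 - polB Q (e i) (T (e i)) ^ 2) = 0 by
      linear_combination 2 * δ * Q (e i) * h1 - polB Q (e i) (T (e i)) * h2)).resolve_right hne
  · exact (mul_eq_zero.1 (show g (1, i) * (4 * δ * Q (e i) ^ 2 - polB Q (e i) (T (e i)) ^ 2) = 0 by
      linear_combination 2 * Q (e i) * h2 - polB Q (e i) (T (e i)) * h1)).resolve_right hne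

/-- the basis of a full family -/
noncomputable def Fam.basis (hT : Root Q δ T) {k : ℕ} {e : Fin k → ι → F} (h : Fam Q δ T e)
    (hk : Fintype.card ι = 2 * k) [Nonempty (Fin k)] : Basis (Fin 2 × Fin k) F (ι → F) :=
  basisOfLinearIndependentOfCardEqFinrank (h.li hT) (by simp [hk])

omit [Finite F] in
theorem Fam.basis_apply (hT : Root Q δ T) {k : ℕ} {e : Fin k → ι → F} (h : Fam Q δ T e)
    (hk : Fintype.card ι = 2 * k) [Nonempty (Fin k)] (z : Fin 2 × Fin k) : h.basis hT hk z = pairVec T e z := by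
  simp [Fam.basis]

variable (hQ : (QuadraticMap.polarBilin Q).Nondegenerate)
include hQ

theorem Root.exists_normal (hT : Root Q δ T) (h2 : (2 : F) ≠ 0) (hδ : ¬ IsSquare δ) {d : ℕ}
    (hd : Fintype.card ι = 2 * d) :
    ∃ e : Fin d → ι → F, Fam Q δ T e ∧
      ∀ i : Fin d, (i : ℕ) + 1 < d → Q (e i) = 1 ∧ polB Q (e i) (T (e i)) = 0 := by
  obtain ⟨k, e, -, hfam, hval, hspan⟩ := hT.exists_lines h2 hδ _ ⊤ rfl (fun x _ => trivial) (nondegOn_top hQ.1)
  have h3 := Submodule.finrank_mono hspan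
  rw [finrank_top, Module.finrank_pi, finrank_span_eq_card (hfam.li hT)] at h3
  have h4 := (hfam.li hT).fintype_card_le_finrank
  rw [Module.finrank_pi] at h4
  simp only [Fintype.card_prod, Fintype.card_fin] at h3 h4
  obtain rfl : k = d := by omega
  exact ⟨e, hfam, hval⟩

/-- roots are conjugate -/
theorem exists_conj_root (h2 : (2 : F) ≠ 0) (hδ : ¬ IsSquare δ) {d : ℕ} (hd : Fintype.card ι = 2 * d) (hd1 : 1 ≤ d)
    {T' : (ι → F) →ₗ[F] (ι → F)} (hT : Root Q δ T) (hT' : Root Q δ T') :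
    ∃ g : Cfsg.isometryGroup F ⇑Q, ∀ v, act g (T v) = T' (act g v) := by
  classical
  haveI : Nonempty (Fin d) := ⟨⟨0, hd1⟩⟩
  obtain ⟨e, he, hev⟩ := hT.exists_normal hQ h2 hδ hd
  obtain ⟨f, hf, hfv⟩ := hT'.exists_normal hQ h2 hδ hd
  set l : Fin d := ⟨d - 1, by omega⟩
  have hnl : ∀ i, i ≠ l → (i : ℕ) + 1 < d := fun i hi => by
    have : (i : ℕ) ≠ d - 1 := fun e => hi (Fin.ext e)
    omega
  set b := he.basis hT hd
  set b' := hf.basis hT' hd
  have hgram : ∀ {T : (ι → F) →ₗ[F] (ι → F)} {e : Fin d → ι → F}, Root Q δ T → Fam Q δ T e →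
      ∀ (a a' : Fin 2) (i j : Fin d), polB Q (pairVec T e (a, i)) (pairVec T e (a', j)) =
        if i = j then !![2 * Q (e i), polB Q (e i) (T (e i)); polB Q (e i) (T (e i)), δ * (2 * Q (e i))] a a'
        else 0 := by
    intro T e hT he a a' i j
    by_cases hij : i = j
    · subst hij
      rw [if_pos rfl]
      fin_cases a <;> fin_cases a' <;> simp [pairVec, polB_self, hT.polar_TT, polB_comm (T (e i)) (e i)]
    · rw [if_neg hij]
      fin_cases a <;> fin_cases a' <;> simp [pairVec, hT.polar_TT, hT.2, he.orth i j hij]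
  have hdet : ∀ {T : (ι → F) →ₗ[F] (ι → F)} {e : Fin d → ι → F} (hT : Root Q δ T) (he : Fam Q δ T e),
      (∀ i : Fin d, (i : ℕ) + 1 < d → Q (e i) = 1 ∧ polB Q (e i) (T (e i)) = 0) →
      (LinearMap.BilinForm.toMatrix (he.basis hT hd) (polB Q)).det =
        (4 * δ) ^ (d - 1) * nrm Q δ T (e l) := by
    intro T e hT he hv
    have hM : LinearMap.BilinForm.toMatrix (he.basis hT hd) (polB Q) = Matrix.blockDiagonal fun i =>
        !![2 * Q (e i), polB Q (e i) (T (e i)); polB Q (e i) (T (e i)), δ * (2 * Q (e i))] := by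
      refine Matrix.ext ?_
      rintro ⟨a, i⟩ ⟨a', j⟩
      rw [LinearMap.BilinForm.toMatrix_apply, Fam.basis_apply, Fam.basis_apply, hgram hT he,
        Matrix.blockDiagonal_apply]
    rw [hM, Matrix.det_blockDiagonal, ← Finset.mul_prod_erase _ _ (Finset.mem_univ l), Finset.prod_congr rfl
      (g := fun _ => 4 * δ) (fun i hi => by
        obtain ⟨h3, h4⟩ := hv i (hnl i (Finset.ne_of_mem_erase hi))
        rw [Matrix.det_fin_two_of, h3, h4]; ring),
      Finset.prod_const, Finset.card_erase_of_mem (Finset.mem_univ l), Finset.card_univ, Fintype.card_fin,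
      Matrix.det_fin_two_of, nrm]
    ring
  have hsq : IsSquare (nrm Q δ T (e l) * nrm Q δ T' (f l)) := by
    let E := b.equiv b' (Equiv.refl _)
    have hc : LinearMap.BilinForm.toMatrix b (LinearMap.BilinForm.comp (polB Q) E.toLinearMap E.toLinearMap) =
        LinearMap.BilinForm.toMatrix b' (polB Q) := by
      refine Matrix.ext fun z w => ?_
      simp [LinearMap.BilinForm.toMatrix_apply, E]
    rw [LinearMap.BilinForm.toMatrix_comp b b] at hc
    have h3 := congrArg Matrix.det hc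
    rw [Matrix.det_mul, Matrix.det_mul, Matrix.det_transpose, hdet hT he hev, hdet hT' hf hfv] at h3
    refine ⟨(LinearMap.toMatrix b b E.toLinearMap).det * nrm Q δ T (e l), ?_⟩
    have h4 : (4 * δ) ^ (d - 1) ≠ 0 := pow_ne_zero _ (by
      simpa using norm_ne_zero h2 hδ (A := 1) (C := 0) (Or.inl one_ne_zero))
    refine mul_left_cancel₀ h4 ?_
    linear_combination -(nrm Q δ T (e l)) * h3
  obtain ⟨s, t, hs1, hs2⟩ := hT'.exists_scale h2 hδ (hf.ne l) (A := Q (e l)) (C := polB Q (e l) (T (e l)))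
    (he.ne l) (by rw [mul_comm]; exact hsq)
  set w := s • f l + t • T' (f l) with hw
  set f' := Function.update f l w
  have hf' : Fam Q δ T' f' := by
    refine ⟨fun i j hij => ?_, fun i => ?_⟩
    · have hA : ∀ j, j ≠ l → polB Q w (f j) = 0 ∧ polB Q w (T' (f j)) = 0 := fun j hj => by
        simp only [hw, map_add, map_smul, LinearMap.add_apply, LinearMap.smul_apply, smul_eq_mul, hT'.polar_TT,
          hT'.2, hf.orth l j hj.symm]
        constructor <;> ring
      simp only [f', Function.update_apply]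
      split_ifs with h3 h4 h4
      · exact absurd (h3.trans h4.symm) hij
      · exact hA j h4
      · exact ⟨by rw [polB_comm]; exact (hA i h3).1, by rw [← hT'.2, polB_comm]; exact (hA i h3).2⟩
      · exact hf.orth i j hij
    · simp only [f', Function.update_apply]
      split_ifs
      · rw [nrm, hs1, hs2]; exact he.ne l
      · exact hf.ne i
  have hval : ∀ i, Q (f' i) = Q (e i) ∧ polB Q (f' i) (T' (f' i)) = polB Q (e i) (T (e i)) := fun i => by
    by_cases hi : i = l
    · subst hi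
      simp only [f', Function.update_self, hs1, hs2, and_self]
    · simp only [f', Function.update_of_ne hi, (hev i (hnl i hi)).1, (hev i (hnl i hi)).2, hfv i (hnl i hi),
        and_self]
  set c := hf'.basis hT' hd
  let E := b.equiv c (Equiv.refl _)
  have hE : ∀ z, E (b z) = c z := fun z => by simp [E]
  have hpol : ∀ u v, polB Q (E u) (E v) = polB Q u v := by
    have h : LinearMap.BilinForm.comp (polB Q) E.toLinearMap E.toLinearMap = polB Q := by
      refine LinearMap.BilinForm.ext_basis b ?_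
      rintro ⟨a, i⟩ ⟨a', j⟩
      rw [LinearMap.BilinForm.comp_apply, LinearEquiv.coe_coe, hE, hE, Fam.basis_apply, Fam.basis_apply,
        Fam.basis_apply, Fam.basis_apply, hgram hT he, hgram hT' hf', (hval i).1, (hval i).2]
    exact fun u v => LinearMap.congr_fun₂ h u v
  refine ⟨isoOfEquiv ⇑Q E fun v => by rw [q_eq h2, hpol, ← q_eq h2], fun v => ?_⟩
  rw [act_apply, act_apply, isoOfEquiv_mulVec, isoOfEquiv_mulVec]
  have h : E.toLinearMap ∘ₗ T = T' ∘ₗ E.toLinearMap := by
    refine b.ext ?_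
    rintro ⟨a, i⟩
    simp only [LinearMap.comp_apply, LinearEquiv.coe_coe, hE]
    have h0 : ∀ a, b (a, i) = pairVec T e (a, i) := fun a => Fam.basis_apply _ _ _ _
    have h0' : ∀ a, c (a, i) = pairVec T' f' (a, i) := fun a => Fam.basis_apply _ _ _ _
    revert a
    refine Fin.forall_fin_two.2 ⟨?_, ?_⟩
    · rw [show T (b (0, i)) = b (1, i) by simp [h0, pairVec], hE]
      simp [h0', pairVec]
    · rw [show T (b (1, i)) = δ • b (0, i) by simp [h0, pairVec, hT.1], map_smul, hE]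
      simp [h0', pairVec, hT'.1]
  exact LinearMap.congr_fun h v

end roots

section rank

variable {δ : F}

/-- an element commuting with a root has `rank (g - g⁻¹)` divisible by four -/
theorem four_dvd_rank (hQ : (QuadraticMap.polarBilin Q).Nondegenerate) (h2 : (2 : F) ≠ 0) (hδ : ¬ IsSquare δ)
    {T : (ι → F) →ₗ[F] (ι → F)} (hT : Root Q δ T) (g : Cfsg.isometryGroup F ⇑Q)
    (hg : ∀ v, act g (T v) = T (act g v)) : 4 ∣ finrank F ↥(LinearMap.range (act g - act g⁻¹)) := by
  have hi : ∀ v, act g⁻¹ (act g v) = v := fun v => by rw [← act_mul, inv_mul_cancel, act_one]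
  have hi' : ∀ v, act g (act g⁻¹ v) = v := fun v => by rw [← act_mul, mul_inv_cancel, act_one]
  have hg' : ∀ v, act g⁻¹ (T v) = T (act g⁻¹ v) := fun v => by
    conv_lhs => rw [← hi' v, ← hg, hi]
  set S := act g - act g⁻¹ with hSdef
  set β : LinearMap.BilinForm F (ι → F) := (polB Q) ∘ₗ S with hβdef
  have hβ : ∀ u v, β u v = polB Q (S u) v := fun _ _ => rfl
  have hadj : ∀ u v, polB Q (act g u) v = polB Q u (act g⁻¹ v) := fun u v => by
    conv_lhs => rw [← hi' v]
    exact act_polar g u _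
  have hskew : ∀ u v, β u v = -β v u := fun u v => by
    rw [hβ, hβ, hSdef]
    simp only [LinearMap.sub_apply, map_sub]
    rw [hadj, hadj, polB_comm (act g⁻¹ u) v, polB_comm (act g⁻¹ v) u]
    ring
  have hTS : ∀ u, S (T u) = T (S u) := fun u => by
    rw [hSdef, LinearMap.sub_apply, LinearMap.sub_apply, hg, hg', map_sub]
  have hmove : ∀ u v, β u (T v) = β (T u) v := fun u v => by rw [hβ, hβ, hTS, hT.2]
  have hself : ∀ u, β u u = 0 := fun u => by
    have h := hskew u u
    exact (mul_eq_zero.1 (show (2 : F) * β u u = 0 by linear_combination h)).resolve_left h2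
  have hselfT : ∀ u, β u (T u) = 0 := fun u => by
    have h := hskew u (T u)
    rw [← hmove] at h
    exact (mul_eq_zero.1 (show (2 : F) * β u (T u) = 0 by linear_combination h)).resolve_left h2
  have key : ∀ (n : ℕ) (W : Submodule F (ι → F)), finrank F W = n → (∀ x ∈ W, T x ∈ W) → LinearMap.ker S ≤ W →
      (∀ u ∈ W, (∀ v ∈ W, β u v = 0) → u ∈ LinearMap.ker S) →
      ∃ k, finrank F W = finrank F ↥(LinearMap.ker S) + 4 * k := by
    intro n
    induction n using Nat.strong_induction_on with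
    | _ n ih =>
      intro W hn hWT hle hrad
      by_cases heq : LinearMap.ker S = W
      · exact ⟨0, by rw [heq, mul_zero, add_zero]⟩
      obtain ⟨v, hv, hvN⟩ := SetLike.exists_of_lt (lt_of_le_of_ne hle heq)
      obtain ⟨w, hw, hvw⟩ : ∃ w ∈ W, β v w ≠ 0 := by
        by_contra hcon
        push Not at hcon
        exact hvN (hrad v hv hcon)
      set b := β v w
      set c := β v (T w) with hc
      have hD : δ * b ^ 2 - c ^ 2 ≠ 0 := fun h => hδ ⟨c / b, by field_simp; linear_combination h⟩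
      set L : (ι → F) →ₗ[F] (Fin 4 → F) := LinearMap.pi ![β.flip v, β.flip (T v), β.flip w, β.flip (T w)] with hL
      have hL0 : ∀ y, L y = 0 ↔ β y v = 0 ∧ β y (T v) = 0 ∧ β y w = 0 ∧ β y (T w) = 0 := fun y => by
        simp [hL, funext_iff, Fin.forall_fin_succ]
      have hcov : ∀ z ∈ W, ∃ a₁ a₂ a₃ a₄ : F,
          L (z - (a₁ • v + a₂ • T v + a₃ • w + a₄ • T w)) = 0 := by
        intro z hz
        refine ⟨(δ * b * β z w - c * β z (T w)) / (δ * b ^ 2 - c ^ 2),
          (b * β z (T w) - c * β z w) / (δ * b ^ 2 - c ^ 2),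
          -(δ * b * β z v - c * β z (T v)) / (δ * b ^ 2 - c ^ 2),
          -(b * β z (T v) - c * β z v) / (δ * b ^ 2 - c ^ 2), (hL0 _).2 ?_⟩
        have e1 : β (T v) w = c := by rw [← hmove]
        have e2 : β (T v) (T w) = δ * b := by rw [← hmove, hT.1, map_smul, smul_eq_mul]
        have e3 : β (T v) v = 0 := by rw [← hmove, hselfT]
        have e4 : β (T w) w = 0 := by rw [← hmove, hselfT]
        have f1 : β w v = -b := hskew w v
        have f2 : β w (T v) = -c := by rw [hskew, e1]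
        have f3 : β (T w) v = -c := by rw [hskew]
        have f4 : β (T w) (T v) = -(δ * b) := by rw [hskew, e2]
        simp only [map_sub, map_add, map_smul, LinearMap.sub_apply, LinearMap.add_apply, LinearMap.smul_apply,
          smul_eq_mul, hself, hselfT, e1, e2, e3, e4, f1, f2, f3, f4, ← hc]
        refine ⟨?_, ?_, ?_, ?_⟩ <;> field_simp <;> ring
      set W' := W ⊓ LinearMap.ker L with hW'
      have hsurj : LinearMap.range (L.domRestrict W) = ⊤ := by
        refine eq_top_iff.2 fun y _ => ?_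
        obtain ⟨a₁, a₂, a₃, a₄, h1, h3, h4, h5⟩ : ∃ a₁ a₂ a₃ a₄ : F, -a₃ * b - a₄ * c = y 0 ∧
            -a₃ * c - a₄ * (δ * b) = y 1 ∧ a₁ * b + a₂ * c = y 2 ∧ a₁ * c + a₂ * (δ * b) = y 3 :=
          ⟨(δ * b * y 2 - c * y 3) / (δ * b ^ 2 - c ^ 2), (b * y 3 - c * y 2) / (δ * b ^ 2 - c ^ 2),
            -(δ * b * y 0 - c * y 1) / (δ * b ^ 2 - c ^ 2), -(b * y 1 - c * y 0) / (δ * b ^ 2 - c ^ 2),
            by field_simp; ring, by field_simp; ring, by field_simp; ring, by field_simp; ring⟩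
        refine ⟨⟨a₁ • v + a₂ • T v + a₃ • w + a₄ • T w, W.add_mem (W.add_mem (W.add_mem (W.smul_mem _ hv)
          (W.smul_mem _ (hWT v hv))) (W.smul_mem _ hw)) (W.smul_mem _ (hWT w hw))⟩, ?_⟩
        have e1 : β (T v) w = c := by rw [← hmove]
        have e2 : β (T v) (T w) = δ * b := by rw [← hmove, hT.1, map_smul, smul_eq_mul]
        have e3 : β (T v) v = 0 := by rw [← hmove, hselfT]
        have e4 : β (T w) w = 0 := by rw [← hmove, hselfT]
        have f1 : β w v = -b := hskew w v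
        have f2 : β w (T v) = -c := by rw [hskew, e1]
        have f3 : β (T w) v = -c := by rw [hskew]
        have f4 : β (T w) (T v) = -(δ * b) := by rw [hskew, e2]
        funext i
        fin_cases i <;>
          simp only [hL, LinearMap.domRestrict_apply, LinearMap.pi_apply, Matrix.cons_val_zero, Matrix.cons_val_one,
            Matrix.cons_val, LinearMap.flip_apply, LinearMap.BilinForm.flip_apply, map_add, map_smul, LinearMap.add_apply, LinearMap.smul_apply,
            smul_eq_mul, hself, hselfT, e1, e2, e3, e4, f1, f2, f3, f4, ← hc, Fin.zero_eta, Fin.mk_one, Fin.reduceFinMk]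
        · linear_combination h1
        · linear_combination h3
        · linear_combination h4
        · linear_combination h5
      have hdim : finrank F W = finrank F W' + 4 := by
        have h := LinearMap.finrank_range_add_finrank_ker (L.domRestrict W)
        rw [hsurj, finrank_top, Module.finrank_pi, Fintype.card_fin, LinearMap.ker_domRestrict] at h
        rw [← h, hW', show (LinearMap.ker L).comap W.subtype = (W ⊓ LinearMap.ker L).comap W.subtype by
          ext y; simp, (Submodule.comapSubtypeEquivOfLe inf_le_left).finrank_eq, add_comm]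
      obtain ⟨k, hk⟩ := ih (finrank F W') (by omega) W' rfl
        (fun y hy => by
          obtain ⟨hy1, hy2⟩ := Submodule.mem_inf.1 hy
          obtain ⟨h1, h3, h4, h5⟩ := (hL0 y).1 hy2
          refine Submodule.mem_inf.2 ⟨hWT y hy1, (hL0 _).2 ⟨?_, ?_, ?_, ?_⟩⟩
          · rw [← hmove, h3]
          · rw [← hmove, hT.1, map_smul, h1, smul_zero]
          · rw [← hmove, h5]
          · rw [← hmove, hT.1, map_smul, h4, smul_zero])
        (fun y hy => Submodule.mem_inf.2 ⟨hle hy, (hL0 y).2 (by simp [hβ, LinearMap.mem_ker.1 hy])⟩)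
        (fun u hu h => by
          obtain ⟨hu1, hu2⟩ := Submodule.mem_inf.1 hu
          obtain ⟨h1, h3, h4, h5⟩ := (hL0 u).1 hu2
          refine hrad u hu1 fun z hz => ?_
          obtain ⟨a₁, a₂, a₃, a₄, hz'⟩ := hcov z hz
          have h6 := h _ (Submodule.mem_inf.2 ⟨W.sub_mem hz (W.add_mem (W.add_mem (W.add_mem (W.smul_mem _ hv)
            (W.smul_mem _ (hWT v hv))) (W.smul_mem _ hw)) (W.smul_mem _ (hWT w hw))), hz'⟩)
          simpa [h1, h3, h4, h5] using h6)
      exact ⟨k + 1, by omega⟩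
  obtain ⟨k, hk⟩ := key _ ⊤ rfl (fun _ _ => trivial) le_top fun u _ hu =>
    LinearMap.mem_ker.2 (hQ.1 _ fun v => hu v trivial)
  have h := LinearMap.finrank_range_add_finrank_ker S
  rw [finrank_top] at hk
  exact ⟨k, by omega⟩

end rank

end Cfsg.Agent.Forms.Elusive.OrthQuad
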