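import Mathlib
import Cfsg.Agent.Lib.Forms.Elusive.OrthQuadRoots
import Cfsg.Agent.Lib.Forms.Elusive.OrthUnipotent
import Cfsg.Agent.Lib.Forms.Disc
import Cfsg.Agent.Lib.Classical.IsoInvariant.TypeSplit
import Cfsg.Agent.Lib.Classical.OrthForms
import Cfsg.Prelude.Def_GeometricClasses

/-!
# The index of a normalizer of a self-adjoint quadratic extension in `Ω_{2d}`

The centralizer of the root contains a copy of the orthogonal group of the associated form over `F(√δ)`, whose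
order forces `4 ∤ ord_r q` for the primes `r ≠ p` dividing the index.
-/

set_option autoImplicit false
set_option linter.unusedSectionVars false

namespace Cfsg.Agent.Forms.Elusive.OrthQuad

open Module Matrix
open Cfsg.Agent.Forms Cfsg.Agent.Forms.Reflections Cfsg.Agent.Forms.QuadStd
open Cfsg.Agent.Classical Cfsg.Agent.Classical.OrthTypes

local notation "Ext[" F ", " δ "]" => QuadraticAlgebra F δ 0

variable {F : Type*} [Field F] [Fintype F] {ι : Type} [Fintype ι] [DecidableEq ι] {Q : QuadraticForm F (ι → F)}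

/-- the type of a form from its discriminant -/
theorem isPlus_iff_det (h2 : (2 : F) ≠ 0) (hQ : (QuadraticMap.polarBilin Q).Nondegenerate) {m : ℕ}
    (hm : Fintype.card ι = 2 * m) {σ : Type*} [Fintype σ] [DecidableEq σ] (b : Basis σ F (ι → F)) :
    IsPlus Q m ↔ IsSquare ((-1 : F) ^ m * (LinearMap.BilinForm.toMatrix b (polB Q)).det) := by
  have hg : Disc.gram (polB Q) b = LinearMap.BilinForm.toMatrix b (polB Q) := Matrix.ext fun i j => by
    simp [Disc.gram, LinearMap.BilinForm.toMatrix_apply]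
  rw [← hg, ← Disc.exists_lagrangian_iff h2 (polB Q) ⟨fun u v => QuadraticMap.polar_comm _ u v⟩ hQ
    (by rw [Module.finrank_pi, hm]) b]
  constructor
  · rintro ⟨U, hU, hd⟩
    exact ⟨U, hd, fun x hx y hy => by
      rw [polB_apply, QuadraticMap.polar, hU _ (U.add_mem hx hy), hU x hx, hU y hy, sub_zero, sub_zero]⟩
  · rintro ⟨U, hd, hU⟩
    exact ⟨U, fun u hu => by rw [q_eq h2, hU u hu u hu, zero_div], hd⟩

section

variable {δ : F} {T : (ι → F) →ₗ[F] (ι → F)}

theorem Fam.det (hT : Root Q δ T) {k : ℕ} {e : Fin k → ι → F} (h : Fam Q δ T e) (hk : Fintype.card ι = 2 * k)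
    [Nonempty (Fin k)] :
    (LinearMap.BilinForm.toMatrix (h.basis hT hk) (polB Q)).det = ∏ i, nrm Q δ T (e i) := by
  have hM : LinearMap.BilinForm.toMatrix (h.basis hT hk) (polB Q) = Matrix.blockDiagonal fun i =>
      !![2 * Q (e i), polB Q (e i) (T (e i)); polB Q (e i) (T (e i)), δ * (2 * Q (e i))] := by
    refine Matrix.ext ?_
    rintro ⟨a, i⟩ ⟨a', j⟩
    rw [LinearMap.BilinForm.toMatrix_apply, Fam.basis_apply, Fam.basis_apply, Matrix.blockDiagonal_apply]
    by_cases hij : i = j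
    · subst hij
      rw [if_pos rfl]
      fin_cases a <;> fin_cases a' <;> simp [pairVec, polB_self, hT.polar_TT, polB_comm (T (e i)) (e i)]
    · rw [if_neg hij]
      fin_cases a <;> fin_cases a' <;> simp [pairVec, hT.polar_TT, hT.2, h.orth i j hij]
  rw [hM, Matrix.det_blockDiagonal]
  exact Finset.prod_congr rfl fun i _ => by rw [Matrix.det_fin_two_of, nrm]; ring

end

theorem ext_fact {δ : F} (hδ : ¬ IsSquare δ) : Fact (∀ r : F, r ^ 2 ≠ δ + 0 * r) :=
  ⟨fun r hr => hδ ⟨r, by linear_combination -hr⟩⟩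

theorem prod_split {M : Type*} [CommMonoid M] (f : ℕ → M) (e : ℕ) :
    (∏ a ∈ Finset.range (2 * e), f a) =
      (∏ a ∈ Finset.range e, f (2 * a)) * ∏ a ∈ Finset.range e, f (2 * a + 1) := by
  induction e with
  | zero => simp
  | succ e ih =>
    rw [show 2 * (e + 1) = 2 * e + 1 + 1 by ring, Finset.prod_range_succ, Finset.prod_range_succ, ih,
      Finset.prod_range_succ, Finset.prod_range_succ]
    simp only [mul_comm, mul_assoc, mul_left_comm]

theorem relIndex_dvd_card (Q : QuadraticForm F (ι → F)) (N : Subgroup (GL ι F)) :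
    N.relIndex (Cfsg.Geo.omegaGL ⇑Q) ∣ Nat.card (Cfsg.isometryGroup F ⇑Q) := by
  refine (Subgroup.index_dvd_card (N.subgroupOf (Cfsg.Geo.omegaGL ⇑Q))).trans ?_
  rw [Cfsg.Geo.omegaGL, Subgroup.card_map_of_injective (Subgroup.subtype_injective _)]
  exact Subgroup.card_subgroup_dvd_card _

/-- the index is bounded by the centralizer of a root -/
theorem card_ext_dvd (hQ : (QuadraticMap.polarBilin Q).Nondegenerate) (h2 : (2 : F) ≠ 0)
    (hn : 2 ≤ Fintype.card ι) {T : (ι → F) →ₗ[F] (ι → F)} (N : Subgroup (GL ι F))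
    (hN : ∀ g : Cfsg.isometryGroup F ⇑Q, (∀ v, act g (T v) = T (act g v)) → (g : GL ι F) ∈ N)
    (C : Subgroup (Cfsg.isometryGroup F ⇑Q)) (hC : ∀ g ∈ C, ∀ v, act g (T v) = T (act g v)) {r : ℕ}
    (hr : r ∣ N.relIndex (Cfsg.Geo.omegaGL ⇑Q)) : r * Nat.card C ∣ Nat.card (Cfsg.isometryGroup F ⇑Q) := by
  set Ω := Cfsg.Omega F ⇑Q
  haveI : Ω.Normal := inferInstanceAs (commutator _).Normal
  have h1 : Nat.card C ∣ 4 * Nat.card ↥(Ω ⊓ C) := by
    have h := Subgroup.relIndex_mul_relIndex ⊥ (Ω ⊓ C) C bot_le inf_le_right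
    rw [Subgroup.relIndex_bot_left, Subgroup.relIndex_bot_left, Subgroup.inf_relIndex_right] at h
    rw [← h, mul_comm 4]
    exact Nat.mul_dvd_mul_left _ (Spinor.omega_index hQ h2 hn ▸ Subgroup.relIndex_dvd_index_of_normal Ω C)
  set φ := (Cfsg.isometryGroup F ⇑Q).subtype
  have hinj : Function.Injective φ := Subgroup.subtype_injective _
  have h3 : (Ω ⊓ C).map φ ≤ N ⊓ Cfsg.Geo.omegaGL ⇑Q := by
    rintro _ ⟨g, hg, rfl⟩
    exact ⟨hN g (hC g hg.2), ⟨g, hg.1, rfl⟩⟩
  have h4 : Nat.card ↥(Ω ⊓ C) ∣ Nat.card ↥(N ⊓ Cfsg.Geo.omegaGL ⇑Q) := by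
    rw [← Subgroup.card_map_of_injective (K := Ω ⊓ C) hinj]
    exact Subgroup.card_dvd_of_le h3
  have h5 : Nat.card ↥(N ⊓ Cfsg.Geo.omegaGL ⇑Q) * N.relIndex (Cfsg.Geo.omegaGL ⇑Q) = Nat.card Ω := by
    rw [← Subgroup.inf_relIndex_right N, ← Subgroup.relIndex_bot_left,
      Subgroup.relIndex_mul_relIndex _ _ _ bot_le inf_le_right, Subgroup.relIndex_bot_left, Cfsg.Geo.omegaGL,
      Subgroup.card_map_of_injective hinj]
  have h6 : Nat.card (Cfsg.isometryGroup F ⇑Q) = 4 * Nat.card Ω := by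
    rw [← Spinor.omega_index hQ h2 hn, mul_comm, Subgroup.card_mul_index]
  rw [h6, ← h5, mul_comm r]
  calc Nat.card C * r ∣ 4 * Nat.card ↥(Ω ⊓ C) * r := Nat.mul_dvd_mul_right h1 _
    _ ∣ 4 * (Nat.card ↥(N ⊓ Cfsg.Geo.omegaGL ⇑Q) * N.relIndex (Cfsg.Geo.omegaGL ⇑Q)) := by
        rw [mul_assoc]; exact Nat.mul_dvd_mul_left 4 (Nat.mul_dvd_mul h4 hr)

/-- the orthogonal group over the extension inside the centralizer -/
theorem exists_ext (h2 : (2 : F) ≠ 0) {δ : F} (hδ : ¬ IsSquare δ) [Fact (∀ r : F, r ^ 2 ≠ δ + 0 * r)]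
    {d : ℕ} (hd : Fintype.card ι = 2 * d) [Nonempty (Fin d)] {T : (ι → F) →ₗ[F] (ι → F)} (hT : Root Q δ T)
    {e : Fin d → ι → F} (he : Fam Q δ T e) :
    ∃ (R : QuadraticForm (QuadraticAlgebra F δ 0) (Fin d → QuadraticAlgebra F δ 0))
      (C : Subgroup (Cfsg.isometryGroup F ⇑Q)),
      R = QuadraticMap.weightedSumSquares (QuadraticAlgebra F δ 0)
        (fun i => (⟨Q (e i), polB Q (e i) (T (e i)) / (2 * δ)⟩ : QuadraticAlgebra F δ 0)) ∧
      (∀ g ∈ C, ∀ v, act g (T v) = T (act g v)) ∧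
      Nat.card C = Nat.card (Cfsg.isometryGroup (QuadraticAlgebra F δ 0) ⇑R) := by
  classical
  have hδ0 : δ ≠ 0 := fun e => hδ (e ▸ ⟨0, by simp⟩)
  set κ : Fin d → Ext[F, δ] := fun i => ⟨Q (e i), polB Q (e i) (T (e i)) / (2 * δ)⟩ with hκ
  set R := QuadraticMap.weightedSumSquares Ext[F, δ] κ with hR
  let Φ₀ : (Fin d → Ext[F, δ]) →ₗ[F] (ι → F) :=
    { toFun := fun w => ∑ i, ((w i).re • e i + (w i).im • T (e i))
      map_add' := fun u v => by
        rw [← Finset.sum_add_distrib]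
        refine Finset.sum_congr rfl fun i _ => ?_
        simp only [Pi.add_apply, QuadraticAlgebra.re_add, QuadraticAlgebra.im_add]
        module
      map_smul' := fun c u => by
        rw [RingHom.id_apply, Finset.smul_sum]
        refine Finset.sum_congr rfl fun i _ => ?_
        simp only [Pi.smul_apply, QuadraticAlgebra.re_smul, QuadraticAlgebra.im_smul, smul_eq_mul]
        module }
  have hΦ₀ : ∀ w, Φ₀ w = ∑ i, ((w i).re • e i + (w i).im • T (e i)) := fun w => rfl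
  have hinj : Function.Injective Φ₀ := by
    rw [← LinearMap.ker_eq_bot, LinearMap.ker_eq_bot']
    intro w hw
    have h := Fintype.linearIndependent_iff.1 (he.li hT) (fun z => ![(w z.2).re, (w z.2).im] z.1) (by
      rw [Fintype.sum_prod_type, Fin.sum_univ_two, ← Finset.sum_add_distrib, ← hw, hΦ₀]
      exact Finset.sum_congr rfl fun i _ => by simp [pairVec])
    funext i
    exact QuadraticAlgebra.ext (by simpa using h (0, i)) (by simpa using h (1, i))
  let Φ : (Fin d → Ext[F, δ]) ≃ₗ[F] (ι → F) := LinearEquiv.ofBijective Φ₀ ⟨hinj,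
    (LinearMap.injective_iff_surjective_of_finrank_eq_finrank (by
      rw [Module.finrank_pi_fintype, Module.finrank_pi, hd, Finset.sum_const, QuadraticAlgebra.finrank_eq_two,
        Finset.card_univ, Fintype.card_fin, smul_eq_mul, mul_comm])).1 hinj⟩
  have hΦ : ∀ w, Φ w = ∑ i, ((w i).re • e i + (w i).im • T (e i)) := fun w => rfl
  let θ : Ext[F, δ] := ⟨0, 1⟩
  have hθ : ∀ w, Φ (θ • w) = T (Φ w) := fun w => by
    rw [hΦ, hΦ, map_sum]
    refine Finset.sum_congr rfl fun i _ => ?_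
    simp only [Pi.smul_apply, smul_eq_mul, QuadraticAlgebra.re_mul, QuadraticAlgebra.im_mul, θ, map_add, map_smul,
      hT.1]
    module
  have hq : ∀ w, Q (Φ w) = (R w).re := by
    intro w
    set x : Fin d → ι → F := fun i => (w i).re • e i + (w i).im • T (e i) with hx
    have ho : ∀ i j, i ≠ j → polB Q (x i) (x j) = 0 := fun i j hij => by
      simp [hx, hT.polar_TT, hT.2, hT.1, he.orth i j hij]
    have h1 : Q (Φ w) = ∑ i, Q (x i) := by
      have h3 : ∀ i, polB Q (x i) (∑ j, x j) = polB Q (x i) (x i) := fun i => by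
        rw [map_sum, Finset.sum_eq_single i (fun j _ hj => ho i j (Ne.symm hj)) (by simp)]
      have h5 : polB Q (∑ i, x i) (∑ i, x i) = ∑ i, polB Q (x i) (x i) := by
        conv_lhs => rw [map_sum (polB Q), LinearMap.sum_apply]
        exact Finset.sum_congr rfl fun i _ => h3 i
      rw [q_eq h2, hΦ, show (∑ i, ((w i).re • e i + (w i).im • T (e i))) = ∑ i, x i from rfl, h5, Finset.sum_div]
      exact Finset.sum_congr rfl fun i _ => (q_eq h2 _).symm
    have h4 : ∀ f : Fin d → Ext[F, δ], (∑ i, f i).re = ∑ i, (f i).re := fun f =>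
      map_sum (⟨⟨QuadraticAlgebra.re, rfl⟩, fun _ _ => rfl⟩ : Ext[F, δ] →+ F) f Finset.univ
    rw [h1, hR, QuadraticMap.weightedSumSquares_apply, h4]
    refine Finset.sum_congr rfl fun i _ => ?_
    simp only [hx, hT.q_comb h2, hκ, smul_eq_mul, QuadraticAlgebra.re_mul, QuadraticAlgebra.im_mul, zero_mul,
      add_zero]
    field_simp
    ring
  have hinv : ∀ (g : Cfsg.isometryGroup Ext[F, δ] ⇑R) w, act g⁻¹ (act g w) = w := fun g w => by
    rw [← act_mul, inv_mul_cancel, act_one]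
  have hinv' : ∀ (g : Cfsg.isometryGroup Ext[F, δ] ⇑R) w, act g (act g⁻¹ w) = w := fun g w => by
    rw [← act_mul, mul_inv_cancel, act_one]
  let E : Cfsg.isometryGroup Ext[F, δ] ⇑R → ((ι → F) ≃ₗ[F] (ι → F)) := fun g =>
    Φ.symm.trans (((LinearEquiv.ofLinearMap (act g) (act g⁻¹) (LinearMap.ext (hinv' g))
      (LinearMap.ext (hinv g))).restrictScalars F).trans Φ)
  have hEv : ∀ g v, E g v = Φ (act g (Φ.symm v)) := fun g v => rfl
  have hEq : ∀ g v, Q (E g v) = Q v := fun g v => by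
    rw [hEv, hq, act_map, ← hq, Φ.apply_symm_apply]
  let ψ : Cfsg.isometryGroup Ext[F, δ] ⇑R →* Cfsg.isometryGroup F ⇑Q :=
    MonoidHom.mk' (fun g => isoOfEquiv ⇑Q (E g) (hEq g)) fun g g' => iso_ext fun v => by
      rw [mul_mulVec_iso, isoOfEquiv_mulVec, isoOfEquiv_mulVec, isoOfEquiv_mulVec, hEv, hEv, hEv, Φ.symm_apply_apply,
        act_mul]
  have hψ : ∀ g v, act (ψ g) v = Φ (act g (Φ.symm v)) := fun g v =>
    (act_apply (ψ g) v).trans ((isoOfEquiv_mulVec ⇑Q (E g) (hEq g) v).trans (hEv g v))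
  refine ⟨R, ψ.range, hR, ?_, ?_⟩
  · rintro _ ⟨g, rfl⟩ v
    have h1 : Φ.symm (T v) = θ • Φ.symm v := Φ.injective (by rw [Φ.apply_symm_apply, hθ, Φ.apply_symm_apply])
    rw [hψ, hψ, h1, map_smul, hθ]
  · refine (Nat.card_congr (MonoidHom.ofInjective (f := ψ) fun g g' h => ?_).toEquiv).symm
    refine iso_ext fun w => ?_
    have h1 := hψ g (Φ w)
    rw [h, hψ, Φ.symm_apply_apply, Φ.injective.eq_iff] at h1
    rw [← act_apply, ← act_apply, h1]

theorem wss_polar {K : Type*} [Field K] {d : ℕ} (c : Fin d → K) (u v : Fin d → K) :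
    polB (QuadraticMap.weightedSumSquares K c) u v = ∑ i, 2 * c i * (u i * v i) := by
  rw [polB_apply, QuadraticMap.polar, QuadraticMap.weightedSumSquares_apply,
    QuadraticMap.weightedSumSquares_apply, QuadraticMap.weightedSumSquares_apply, ← Finset.sum_sub_distrib,
    ← Finset.sum_sub_distrib]
  refine Finset.sum_congr rfl fun i _ => ?_
  simp only [smul_eq_mul, Pi.add_apply]
  ring

theorem isSquare_iff_norm (h2 : (2 : F) ≠ 0) {δ : F} (hδ : ¬ IsSquare δ) [Fact (∀ r : F, r ^ 2 ≠ δ + 0 * r)]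
    {x : QuadraticAlgebra F δ 0} (hx : x ≠ 0) : IsSquare x ↔ IsSquare (QuadraticAlgebra.norm x) := by
  constructor
  · exact fun h => h.map _
  · rintro ⟨n, hn⟩
    have h0 : QuadraticAlgebra.norm x ≠ 0 := fun e => hx (QuadraticAlgebra.norm_eq_zero_iff_eq_zero.1 e)
    rw [QuadraticAlgebra.norm_def] at hn h0
    obtain ⟨s, t, hs, ht⟩ := exists_sqrt h2 hδ (a := x.re) (b := x.im) (n := n)
      (fun e => h0 (by rw [hn, e, mul_zero])) (by linear_combination hn)
    exact ⟨⟨s, t⟩, QuadraticAlgebra.ext (by simp; linear_combination -hs) (by simp; linear_combination -ht)⟩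

/-- **The index.**  For `4 ∣ ord_r q` the prime `r` does not divide the index. -/
theorem not_dvd_index (hQ : (QuadraticMap.polarBilin Q).Nondegenerate) (h2 : (2 : F) ≠ 0) {δ : F}
    (hδ : ¬ IsSquare δ) {d : ℕ} (hd : Fintype.card ι = 2 * d) (hd2 : 2 ≤ d) {T : (ι → F) →ₗ[F] (ι → F)}
    (hT : Root Q δ T) (N : Subgroup (GL ι F))
    (hN : ∀ g : Cfsg.isometryGroup F ⇑Q, (∀ v, act g (T v) = T (act g v)) → (g : GL ι F) ∈ N)
    (p : ℕ) [Fact p.Prime] [CharP F p] {r i : ℕ} [hr : Fact r.Prime] (hrp : r ≠ p)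
    (hi : i = orderOf ((Fintype.card F : ℕ) : ZMod r)) (h4 : 4 ∣ i)
    (hdvd : r ∣ N.relIndex (Cfsg.Geo.omegaGL ⇑Q)) : False := by
  classical
  haveI : Nonempty (Fin d) := ⟨⟨0, by omega⟩⟩
  haveI := ext_fact hδ
  letI : Fintype (QuadraticAlgebra F δ 0) := Fintype.ofEquiv _ (QuadraticAlgebra.equivProd δ 0).symm
  have hn : 2 ≤ Fintype.card ι := by omega
  have hδ0 : δ ≠ 0 := fun e => hδ (e ▸ ⟨0, by simp⟩)
  obtain ⟨e, he, -⟩ := hT.exists_normal hQ h2 hδ hd
  obtain ⟨R, C, hRdef, hC, hcard⟩ := exists_ext h2 hδ hd hT he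
  have hX := card_ext_dvd hQ h2 hn N hN C hC hdvd
  rw [hcard] at hX
  set q := Fintype.card F
  have hqL : Fintype.card Ext[F, δ] = q ^ 2 := by
    rw [Fintype.card_congr (QuadraticAlgebra.equivProd δ 0), Fintype.card_prod, sq]
  have h2L : (2 : Ext[F, δ]) ≠ 0 := fun h => h2 (by
    have h1 := congrArg QuadraticAlgebra.re h
    rwa [show (2 : Ext[F, δ]) = (1 : Ext[F, δ]) + 1 by norm_num, QuadraticAlgebra.re_add, QuadraticAlgebra.re_one,
      QuadraticAlgebra.re_zero, show (1 : F) + 1 = 2 by norm_num] at h1)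
  set κ : Fin d → Ext[F, δ] := fun i => ⟨Q (e i), polB Q (e i) (T (e i)) / (2 * δ)⟩ with hκ
  have hκn : ∀ i, 4 * δ * QuadraticAlgebra.norm (κ i) = nrm Q δ T (e i) := fun i => by
    rw [QuadraticAlgebra.norm_def, nrm, hκ]
    field_simp
    ring
  have hκ0 : ∀ i, κ i ≠ 0 := fun i h => he.ne i (by rw [← hκn, h, QuadraticAlgebra.norm_zero, mul_zero])
  have hM : LinearMap.BilinForm.toMatrix (Pi.basisFun Ext[F, δ] (Fin d)) (polB R) =
      Matrix.diagonal fun i => 2 * κ i := by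
    refine Matrix.ext fun a b => ?_
    rw [LinearMap.BilinForm.toMatrix_apply, hRdef, wss_polar, Matrix.diagonal_apply]
    by_cases hab : a = b
    · subst hab
      simp [Pi.single_apply]
    · rw [if_neg hab]
      simp [Pi.single_apply, hab, Ne.symm hab]
  have hdetR : (LinearMap.BilinForm.toMatrix (Pi.basisFun Ext[F, δ] (Fin d)) (polB R)).det = ∏ i, 2 * κ i := by
    rw [hM, Matrix.det_diagonal]
  have hdet0 : (∏ i, 2 * κ i) ≠ 0 := Finset.prod_ne_zero_iff.2 fun i _ => mul_ne_zero h2L (hκ0 i)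
  have hRn : (QuadraticMap.polarBilin R).Nondegenerate :=
    (LinearMap.BilinForm.nondegenerate_iff_det_ne_zero (Pi.basisFun Ext[F, δ] (Fin d))).2 (hdetR ▸ hdet0)
  have hrq : ¬ r ∣ q := fun h => by
    obtain ⟨n, -, hn⟩ := FiniteField.card F p
    rw [show q = p ^ (n : ℕ) from hn] at h
    exact hrp ((Nat.prime_dvd_prime_iff_eq hr.out Fact.out).1 (hr.out.dvd_of_dvd_pow h))
  have hord : ∀ m, r ∣ q ^ m - 1 → i ∣ m := fun m h => by
    rw [← ZMod.natCast_eq_zero_iff, Nat.cast_sub (Nat.one_le_pow _ _ Fintype.card_pos), Nat.cast_pow, Nat.cast_one,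
      sub_eq_zero] at h
    rw [hi]
    exact orderOf_dvd_of_pow_eq_one h
  have hpow : ∀ n, ¬ r ∣ q ^ n := fun n h => hrq (hr.out.dvd_of_dvd_pow h)
  have hodd : ∀ n, ¬ r ∣ ∏ a ∈ Finset.range n, (q ^ (2 * (2 * a + 1)) - 1) := fun n h => by
    obtain ⟨a, -, ha⟩ := (hr.out.prime.dvd_finsetProd_iff _).1 h
    obtain ⟨u, hu⟩ := h4.trans (hord _ ha)
    omega
  have hpos : ∀ (n : ℕ) (f : ℕ → ℕ), (∀ a, 0 < f a) → 0 < ∏ a ∈ Finset.range n, (q ^ f a - 1) := fun n f hf =>
    Finset.prod_pos fun a _ => Nat.sub_pos_of_lt (Nat.one_lt_pow (hf a).ne' Fintype.one_lt_card)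
  obtain ⟨W, hW1, hW2, hW⟩ := IsoInvariant.TypeSplit.natCard_O (Q := Q) (by omega : 1 ≤ d) hd hQ
  rw [hW] at hX
  rcases Nat.even_or_odd' d with ⟨k, hdk | hdk⟩
  · -- `d` even: the types agree
    have hRcard : Fintype.card (Fin d) = 2 * k := by rw [Fintype.card_fin, hdk]
    obtain ⟨U, hU1, hU2, hU⟩ := IsoInvariant.TypeSplit.natCard_O (Q := R) (by omega : 1 ≤ k) hRcard hRn
    have htype : IsPlus R k ↔ IsPlus Q d := by
      rw [isPlus_iff_det h2L hRn hRcard (Pi.basisFun Ext[F, δ] (Fin d)), hdetR,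
        isPlus_iff_det h2 hQ hd (he.basis hT hd), he.det hT hd,
        isSquare_iff_norm h2 hδ (mul_ne_zero (pow_ne_zero _ (neg_ne_zero.2 one_ne_zero)) hdet0),
        map_mul, map_pow, map_prod, QuadraticAlgebra.norm_neg, QuadraticAlgebra.norm_one, one_pow, one_mul,
        show (-1 : F) ^ d = 1 by rw [hdk, pow_mul, neg_one_sq, one_pow], one_mul,
        Finset.prod_congr rfl fun i _ => (hκn i).symm]
      simp only [map_mul, Finset.prod_mul_distrib, Finset.prod_const, Finset.card_univ, Fintype.card_fin,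
        show QuadraticAlgebra.norm (2 : Ext[F, δ]) = (4 : F) by
          rw [← Nat.cast_ofNat (R := Ext[F, δ]), QuadraticAlgebra.norm_natCast]; norm_num, hdk, pow_mul]
      have h4F : (4 : F) ≠ 0 := by
        rw [← show (2 : F) ^ 2 = 4 by norm_num]; exact pow_ne_zero 2 h2
      constructor
      · rintro ⟨w, hw⟩
        exact ⟨w * δ ^ k, by linear_combination (δ ^ k * δ ^ k) * hw⟩
      · rintro ⟨w, hw⟩
        refine ⟨w / δ ^ k, ?_⟩
        field_simp
        linear_combination hw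
    have hUW : U = W := by
      by_cases hp : IsPlus Q d
      · rw [hU1 (htype.2 hp), hW1 hp, hqL, ← pow_mul, hdk]
      · rw [hU2 (fun h => hp (htype.1 h)), hW2 hp, hqL, ← pow_mul, hdk]
    obtain ⟨k, rfl⟩ : ∃ j, k = j + 1 := ⟨k - 1, by omega⟩
    rw [hU, hUW, hqL, ← pow_mul, show d - 1 = 2 * k + 1 by omega, Finset.prod_range_succ, prod_split,
      show k + 1 - 1 = k by omega] at hX
    have hW0 : 0 < W := by
      by_cases hp : IsPlus Q d
      · rw [hW1 hp]; exact Nat.sub_pos_of_lt (Nat.one_lt_pow (by omega) Fintype.one_lt_card)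
      · rw [hW2 hp]; omega
    simp only [← pow_mul] at hX
    have hP := hpos k (fun a => 2 * (2 * (a + 1))) fun a => by omega
    have h3 : r ∣ q ^ (d * (2 * k + 1)) * ∏ a ∈ Finset.range (k + 1), (q ^ (2 * (2 * a + 1)) - 1) := by
      have e1 : ∀ a, q ^ (2 * (2 * a + 1 + 1)) - 1 = q ^ (2 * (2 * (a + 1))) - 1 := fun a => by ring_nf
      rw [Finset.prod_congr rfl fun a _ => e1 a] at hX
      refine Nat.dvd_of_mul_dvd_mul_right (Nat.mul_pos (Nat.mul_pos two_pos hW0) hP) ?_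
      refine (Dvd.intro (q ^ (2 * ((k + 1) * k))) ?_).trans (hX.trans (dvd_of_eq ?_))
      · ring
      · rw [Finset.prod_range_succ _ k]
        ring
    rcases hr.out.dvd_mul.1 h3 with h | h
    · exact hpow _ h
    · exact hodd _ h
  · -- `d` odd
    have hRcard : Fintype.card (Fin d) = 2 * k + 1 := by rw [Fintype.card_fin, hdk]
    have hcO : Nat.card (Cfsg.isometryGroup Ext[F, δ] ⇑R) =
        2 * (q ^ 2) ^ (k ^ 2) * ∏ a ∈ Finset.range k, ((q ^ 2) ^ (2 * (a + 1)) - 1) := by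
      obtain ⟨c, hc, E, hE⟩ := OrthUnipotent.odd_similar hRcard (by simp; ring : Fintype.card
        (Unit ⊕ (Fin k ⊕ Fin k)) = 2 * k + 1) R (OrthForms.oddQ Ext[F, δ] k) hRn (OrthForms.oddQ_nondeg h2L k)
      have h := IsoInvariant.TypeSplit.natCard_iso_le (Q := c • R) E fun x => by rw [hE]; rfl
      rw [OrthForms.natCard_O_odd hqL h2L] at h
      rw [← h]
      refine Nat.card_congr (Equiv.subtypeEquivRight fun g => ?_)
      rw [QuadStd.mem_isometry_iff, QuadStd.mem_isometry_iff]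
      simp [hc]
    rw [hcO, show d - 1 = 2 * k by omega, prod_split] at hX
    simp only [← pow_mul] at hX
    have hP := hpos k (fun a => 2 * (2 * (a + 1))) fun a => by omega
    have h3 : r ∣ q ^ (d * (2 * k)) * W * ∏ a ∈ Finset.range k, (q ^ (2 * (2 * a + 1)) - 1) := by
      have e1 : ∀ a, q ^ (2 * (2 * a + 1 + 1)) - 1 = q ^ (2 * (2 * (a + 1))) - 1 := fun a => by ring_nf
      rw [Finset.prod_congr rfl fun a _ => e1 a] at hX
      refine Nat.dvd_of_mul_dvd_mul_right (Nat.mul_pos two_pos hP) ?_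
      refine (Dvd.intro (q ^ (2 * k ^ 2)) ?_).trans (hX.trans (dvd_of_eq ?_))
      · ring
      · ring
    rcases hr.out.dvd_mul.1 h3 with h | h
    · rcases hr.out.dvd_mul.1 h with h | h
      · exact hpow _ h
      · obtain ⟨u, hu⟩ : 4 ∣ 2 * d := by
          refine h4.trans ?_
          by_cases hp : IsPlus Q d
          · exact (hord d (hW1 hp ▸ h)).trans (dvd_mul_left _ _)
          · rw [hW2 hp, ← ZMod.natCast_eq_zero_iff, Nat.cast_add, Nat.cast_pow, Nat.cast_one,
              add_eq_zero_iff_eq_neg] at h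
            rw [hi]
            exact orderOf_dvd_of_pow_eq_one (by rw [mul_comm, pow_mul, h, neg_one_sq])
        omega
    · exact hodd _ h

end Cfsg.Agent.Forms.Elusive.OrthQuad
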