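import Mathlib
import Cfsg.Agent.Lib.Forms.Elusive.OrthQuadRoots

/-!
# Elements squaring to `± 1` commute up to sign with a self-adjoint root
-/

set_option autoImplicit false
set_option linter.unusedSectionVars false

namespace Cfsg.Agent.Forms.Elusive.OrthQuad

open Module Matrix
open Cfsg.Agent.Forms Cfsg.Agent.Forms.Reflections Cfsg.Agent.Forms.Bases Cfsg.Agent.Forms.QuadStd
  Cfsg.Agent.Forms.Spinor

variable {F : Type*} [Field F] [Finite F] {ι : Type} [Fintype ι] [DecidableEq ι] {Q : QuadraticForm F (ι → F)}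

/-- pairwise orthogonal anisotropic vectors -/
def OrthFam {σ : Type} (Q : QuadraticForm F (ι → F)) (f : σ → ι → F) : Prop :=
  (∀ a b, a ≠ b → polB Q (f a) (f b) = 0) ∧ ∀ a, Q (f a) ≠ 0

omit [Finite F] in
theorem exists_pairs (h2 : (2 : F) ≠ 0) (Inv : Submodule F (ι → F) → Prop) (P : (ι → F) → (ι → F) → Prop)
    (step : ∀ W, Inv W → NondegOn (polB Q) W → W ≠ ⊥ → ∃ v ∈ W, ∃ w ∈ W, Q v ≠ 0 ∧ Q w ≠ 0 ∧ polB Q v w = 0 ∧
      P v w ∧ Inv (W ⊓ LinearMap.ker (polB Q v) ⊓ LinearMap.ker (polB Q w))) :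
    ∀ (n : ℕ) (W : Submodule F (ι → F)), finrank F W = n → Inv W → NondegOn (polB Q) W →
      ∃ (k : ℕ) (v w : Fin k → ι → F), (∀ s, Sum.elim v w s ∈ W) ∧ OrthFam Q (Sum.elim v w) ∧
        (∀ i, P (v i) (w i)) ∧ W ≤ Submodule.span F (Set.range (Sum.elim v w)) := by
  have hrefl : ∀ u v, polB Q u v = 0 → polB Q v u = 0 := fun u v h => by rw [polB_comm]; exact h
  intro n
  induction n using Nat.strong_induction_on with
  | _ n ih =>
    intro W hn hI hW
    by_cases hne : W = ⊥
    · exact ⟨0, Fin.elim0, Fin.elim0, fun s => isEmptyElim s, ⟨fun s => isEmptyElim s, fun s => isEmptyElim s⟩,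
        fun i => i.elim0, hne ▸ bot_le⟩
    obtain ⟨v, hv, w, hw, hv0, hw0, hvw, hP, hI'⟩ := step W hI hW hne
    have hvv : polB Q v v ≠ 0 := by rw [polB_self]; exact mul_ne_zero h2 hv0
    have hww : polB Q w w ≠ 0 := by rw [polB_self]; exact mul_ne_zero h2 hw0
    obtain ⟨hnd1, hproj1, hfin1⟩ := split_anisotropic _ hrefl hW hv hvv
    obtain ⟨hnd2, hproj2, hfin2⟩ := split_anisotropic _ hrefl hnd1 (Submodule.mem_inf.2 ⟨hw, hvw⟩) hww
    obtain ⟨k, p, m, hmem, ⟨horth, hne'⟩, hPs, hspan⟩ := ih _ (by omega) _ rfl hI' hnd2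
    simp only [Submodule.mem_inf, LinearMap.mem_ker] at hmem
    let emb : Fin k ⊕ Fin k → Fin (k + 1) ⊕ Fin (k + 1) := Sum.map Fin.succ Fin.succ
    have hemb : ∀ s, Sum.elim (Fin.cons v p) (Fin.cons w m : Fin (k + 1) → ι → F) (emb s) = Sum.elim p m s := by
      rintro (i | i) <;> simp [emb]
    have hcases : ∀ s : Fin (k + 1) ⊕ Fin (k + 1), s = Sum.inl 0 ∨ s = Sum.inr 0 ∨ ∃ s', s = emb s' := by
      rintro (i | i) <;> cases i using Fin.cases with
        | zero => simp
        | succ i => first | exact Or.inr (Or.inr ⟨Sum.inl i, rfl⟩) | exact Or.inr (Or.inr ⟨Sum.inr i, rfl⟩)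
    refine ⟨k + 1, Fin.cons v p, Fin.cons w m, fun s => ?_, ⟨fun a b hab => ?_, fun s => ?_⟩,
      Fin.forall_fin_succ.2 ⟨hP, fun i => by simpa using hPs i⟩, fun z hz => ?_⟩
    · rcases hcases s with rfl | rfl | ⟨s', rfl⟩
      · simpa using hv
      · simpa using hw
      · rw [hemb]; exact (hmem s').1.1
    · rcases hcases a with rfl | rfl | ⟨a', rfl⟩ <;> rcases hcases b with rfl | rfl | ⟨b', rfl⟩ <;>
        simp only [hemb, Sum.elim_inl, Sum.elim_inr, Fin.cons_zero]
      · exact absurd rfl hab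
      · exact hvw
      · exact (hmem b').1.2
      · exact hrefl _ _ hvw
      · exact absurd rfl hab
      · exact (hmem b').2
      · exact hrefl _ _ (hmem a').1.2
      · exact hrefl _ _ (hmem a').2
      · exact horth _ _ fun h => hab (congrArg emb h)
    · rcases hcases s with rfl | rfl | ⟨s', rfl⟩
      · simpa using hv0
      · simpa using hw0
      · rw [hemb]; exact hne' s'
    · set S := Submodule.span F (Set.range (Sum.elim (Fin.cons v p) (Fin.cons w m : Fin (k + 1) → ι → F)))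
      have hsub : Submodule.span F (Set.range (Sum.elim p m)) ≤ S := by
        refine Submodule.span_le.2 ?_
        rintro _ ⟨s, rfl⟩
        exact Submodule.subset_span ⟨emb s, hemb s⟩
      have h1 := hproj2 _ (hproj1 z hz)
      set z₁ := z - (polB Q v z / polB Q v v) • v
      have h3 := hsub (hspan h1)
      rw [show z = z₁ - (polB Q w z₁ / polB Q w w) • w + (polB Q w z₁ / polB Q w w) • w +
        (polB Q v z / polB Q v v) • v by simp only [z₁]; abel]
      exact S.add_mem (S.add_mem h3 (S.smul_mem _ (Submodule.subset_span ⟨Sum.inr 0, by simp⟩)))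
        (S.smul_mem _ (Submodule.subset_span ⟨Sum.inl 0, by simp⟩))

/-- planes related to an element squaring to `z` -/
theorem exists_planes (hQ : (QuadraticMap.polarBilin Q).Nondegenerate) (h2 : (2 : F) ≠ 0) {d : ℕ}
    (hd : Fintype.card ι = 2 * d) {x : Cfsg.isometryGroup F ⇑Q} (hpar : par x = 1) {z : F} (hz : z = 1 ∨ z = -1)
    (hx : ∀ v, act x (act x v) = z • v) :
    ∃ (κ : Type) (_ : Fintype κ) (_ : DecidableEq κ) (p m : κ → ι → F), OrthFam Q (Sum.elim p m) ∧
      ⊤ ≤ Submodule.span F (Set.range (Sum.elim p m)) ∧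
      (z = 1 → ∀ i, ∃ c : F, act x (p i) = c • p i ∧ act x (m i) = c • m i) ∧
      (z = -1 → ∀ i, act x (p i) = m i ∧ act x (m i) = -p i ∧ Q (m i) = Q (p i)) := by
  classical
  have hne1 : (1 : F) ≠ -1 := fun e => h2 (by linear_combination e)
  rcases hz with rfl | rfl
  · simp only [one_smul] at hx
    have hev : Even (finrank F ↥(fixSp x)) := by
      rw [par, neg_one_pow_eq_one_iff_even (by decide), hd, Nat.even_add] at hpar
      exact hpar.2 (even_two_mul d)
    have hev' : Even (finrank F ↥(imSp x)) := by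
      have := finrank_imSp hQ x
      rw [hd] at this
      exact (Nat.even_add.1 (this ▸ even_two_mul d)).2 hev
    have him : ∀ y ∈ imSp x, act x y = (-1 : F) • y := by
      rintro _ ⟨y, rfl⟩
      rw [LinearMap.sub_apply, LinearMap.id_apply, map_sub, hx, neg_one_smul, neg_sub]
    have hcross : ∀ a ∈ fixSp x, ∀ b ∈ imSp x, polB Q a b = 0 := fun a ha b hb => by
      have h : polB Q (act x a) (act x b) = polB Q a b := act_polar x a b
      rw [mem_fixSp.1 ha, him b hb, map_smul, smul_eq_mul] at h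
      exact (mul_eq_zero.1 (show (2 : F) * polB Q a b = 0 by linear_combination -h)).resolve_left h2
    have hdec : ∀ y : ι → F, ∃ a ∈ fixSp x, ∃ b ∈ imSp x, a + b = y := fun y =>
      ⟨(2 : F)⁻¹ • (y + act x y), mem_fixSp.2 (by rw [map_smul, map_add, hx, add_comm]),
        (-(2 : F)⁻¹) • (act x y - y), (imSp x).smul_mem _ ⟨y, rfl⟩, by
          match_scalars
          · field_simp; norm_num
          · ring⟩
    have hnd : NondegOn (polB Q) (fixSp x) ∧ NondegOn (polB Q) (imSp x) := by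
      constructor <;> intro u hu h <;> refine hQ.1 u fun y => ?_ <;> obtain ⟨a, ha, b, hb, rfl⟩ := hdec y <;>
        change polB Q u (a + b) = 0 <;> rw [map_add]
      · rw [h a ha, hcross u hu b hb, add_zero]
      · rw [h b hb, polB_comm, hcross a ha u hu, add_zero]
    have hpairs : ∀ (c : F) (W : Submodule F (ι → F)), Even (finrank F W) → (∀ y ∈ W, act x y = c • y) →
        NondegOn (polB Q) W → ∃ (k : ℕ) (v w : Fin k → ι → F), (∀ s, Sum.elim v w s ∈ W) ∧ OrthFam Q (Sum.elim v w) ∧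
          (∀ i, act x (v i) = c • v i ∧ act x (w i) = c • w i) ∧
          W ≤ Submodule.span F (Set.range (Sum.elim v w)) := by
      intro c W h1 h3 h4
      refine exists_pairs h2 (fun U => Even (finrank F U) ∧ ∀ y ∈ U, act x y = c • y)
        (fun v w => act x v = c • v ∧ act x w = c • w) ?_ _ W rfl ⟨h1, h3⟩ h4
      rintro U ⟨hU, hUx⟩ hUnd hne
      have hrefl : ∀ u v, polB Q u v = 0 → polB Q v u = 0 := fun u v h => by rw [polB_comm]; exact h
      obtain ⟨v, hv, hv0⟩ := exists_anisotropic h2 hUnd hne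
      obtain ⟨hnd1, -, hfin1⟩ :=
        split_anisotropic _ hrefl hUnd hv (by rw [polB_self]; exact mul_ne_zero h2 hv0)
      obtain ⟨w, hw, hw0⟩ := exists_anisotropic h2 hnd1 fun e => by
        rw [e, finrank_bot] at hfin1
        rw [← hfin1] at hU
        simp at hU
      obtain ⟨-, -, hfin2⟩ :=
        split_anisotropic _ hrefl hnd1 hw (by rw [polB_self]; exact mul_ne_zero h2 hw0)
      refine ⟨v, hv, w, hw.1, hv0, hw0, hw.2, ⟨hUx v hv, hUx w hw.1⟩, ?_, fun y hy => hUx y hy.1.1⟩
      rw [← hfin1, ← hfin2, add_assoc] at hU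
      exact (Nat.even_add.1 hU).2 even_two
    obtain ⟨k, v, w, hm1, ho1, hP1, hs1⟩ := hpairs 1 _ hev (fun y hy => by rw [one_smul]; exact mem_fixSp.1 hy) hnd.1
    obtain ⟨l, v', w', hm2, ho2, hP2, hs2⟩ := hpairs (-1) _ hev' him hnd.2
    let f : (Fin k ⊕ Fin l) ⊕ (Fin k ⊕ Fin l) → ι → F := Sum.elim (Sum.elim v v') (Sum.elim w w')
    let i₁ : Fin k ⊕ Fin k → (Fin k ⊕ Fin l) ⊕ (Fin k ⊕ Fin l) := Sum.map Sum.inl Sum.inl
    let i₂ : Fin l ⊕ Fin l → (Fin k ⊕ Fin l) ⊕ (Fin k ⊕ Fin l) := Sum.map Sum.inr Sum.inr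
    have hi1 : ∀ s, f (i₁ s) = Sum.elim v w s := by rintro (i | i) <;> rfl
    have hi2 : ∀ s, f (i₂ s) = Sum.elim v' w' s := by rintro (i | i) <;> rfl
    have hcases : ∀ s, (∃ a, s = i₁ a) ∨ ∃ a, s = i₂ a := by
      rintro ((i | i) | (i | i))
      exacts [Or.inl ⟨Sum.inl i, rfl⟩, Or.inr ⟨Sum.inl i, rfl⟩, Or.inl ⟨Sum.inr i, rfl⟩, Or.inr ⟨Sum.inr i, rfl⟩]
    refine ⟨Fin k ⊕ Fin l, inferInstance, inferInstance, Sum.elim v v', Sum.elim w w', ⟨?_, ?_⟩, ?_, fun _ => ?_,
      fun h => absurd h hne1⟩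
    · intro a b hab
      show polB Q (f a) (f b) = 0
      rcases hcases a with ⟨a', rfl⟩ | ⟨a', rfl⟩ <;> rcases hcases b with ⟨b', rfl⟩ | ⟨b', rfl⟩ <;>
        simp only [hi1, hi2]
      · exact ho1.1 _ _ fun h => hab (congrArg i₁ h)
      · exact hcross _ (hm1 a') _ (hm2 b')
      · rw [polB_comm]; exact hcross _ (hm1 b') _ (hm2 a')
      · exact ho2.1 _ _ fun h => hab (congrArg i₂ h)
    · intro a
      show Q (f a) ≠ 0
      rcases hcases a with ⟨a', rfl⟩ | ⟨a', rfl⟩
      · rw [hi1]; exact ho1.2 a'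
      · rw [hi2]; exact ho2.2 a'
    · intro y _
      obtain ⟨a, ha, b, hb, rfl⟩ := hdec y
      refine Submodule.add_mem _ ?_ ?_
      · refine Submodule.span_mono ?_ (hs1 ha)
        rintro _ ⟨s, rfl⟩; exact ⟨i₁ s, hi1 s⟩
      · refine Submodule.span_mono ?_ (hs2 hb)
        rintro _ ⟨s, rfl⟩; exact ⟨i₂ s, hi2 s⟩
    · rintro (i | i)
      · exact ⟨1, hP1 i⟩
      · exact ⟨-1, hP2 i⟩
  · simp only [neg_one_smul] at hx
    obtain ⟨k, v, w, -, ho, hP, hs⟩ := exists_pairs h2 (fun U : Submodule F (ι → F) => ∀ y ∈ U, act x y ∈ U)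
      (fun v w => w = act x v) (fun U hU hUnd hne => by
        obtain ⟨v, hv, hv0⟩ := exists_anisotropic h2 hUnd hne
        have hvx : polB Q v (act x v) = 0 := by
          have h : polB Q (act x v) (act x (act x v)) = polB Q v (act x v) := act_polar x _ _
          rw [hx, map_neg, polB_comm (act x v) v] at h
          exact (mul_eq_zero.1 (show (2 : F) * polB Q v (act x v) = 0 by linear_combination -h)).resolve_left h2
        refine ⟨v, hv, _, hU v hv, hv0, by rwa [act_map], hvx, rfl, fun y hy => ?_⟩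
        simp only [Submodule.mem_inf, LinearMap.mem_ker] at hy ⊢
        refine ⟨⟨hU y hy.1.1, ?_⟩, ?_⟩
        · have h : polB Q (act x v) (act x (act x y)) = polB Q v (act x y) := act_polar x _ _
          rw [← h, hx, map_neg, hy.2, neg_zero]
        · exact (act_polar x v y).trans hy.1.2)
      _ ⊤ rfl (fun _ _ => trivial) (nondegOn_top hQ.1)
    refine ⟨Fin k, inferInstance, inferInstance, v, w, ho, hs, fun h => absurd h.symm hne1, fun _ i => ?_⟩
    rw [hP i, hx, act_map]
    exact ⟨rfl, rfl, rfl⟩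

/-- two roots exchanged by a reflection, both related to `x` -/
theorem exists_flip (hQ : (QuadraticMap.polarBilin Q).Nondegenerate) (h2 : (2 : F) ≠ 0) (δ : F) {d : ℕ}
    (hd : Fintype.card ι = 2 * d) (hd1 : 1 ≤ d) {x : Cfsg.isometryGroup F ⇑Q} (hpar : par x = 1) {z : F}
    (hz : z = 1 ∨ z = -1) (hx : ∀ v, act x (act x v) = z • v) :
    ∃ (T T' : (ι → F) →ₗ[F] (ι → F)) (v : ι → F), Q v ≠ 0 ∧
      (Root Q δ T ∧ ∀ y, act x (T y) = z • T (act x y)) ∧ (Root Q δ T' ∧ ∀ y, act x (T' y) = z • T' (act x y)) ∧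
      ∀ y, act (reflect Q v) (T y) = T' (act (reflect Q v) y) := by
  classical
  obtain ⟨κ, _, _, p, m, ⟨horth, hne⟩, hspan, hone, hneg⟩ := exists_planes hQ h2 hd hpar hz hx
  have hli : LinearIndependent F (Sum.elim p m) :=
    Bases.linearIndependent_of_orth (B := polB Q) horth fun s => by
      rw [polB_self]; exact mul_ne_zero h2 (hne s)
  let b := Basis.mk hli hspan
  have hb : ∀ s, b s = Sum.elim p m s := fun s => Basis.mk_apply _ _ _
  haveI : Nonempty κ := by
    by_contra hcon
    rw [not_nonempty_iff] at hcon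
    have h := hd ▸ (Module.finrank_pi (R := F) (ι := ι))
    rw [finrank_eq_card_basis b] at h
    simp at h
    omega
  obtain ⟨i₀⟩ := ‹Nonempty κ›
  have hex : ∀ i, ∃ a t : F, a ^ 2 + Q (p i) * Q (m i) * t ^ 2 = δ := fun i => by
    obtain ⟨a, t, h⟩ := Bases.exists_sq_add_sq h2 (one_ne_zero : (1 : F) ≠ 0)
      (mul_ne_zero (hne (Sum.inl i)) (hne (Sum.inr i))) δ
    simp only [Sum.elim_inl, Sum.elim_inr] at h
    exact ⟨a, t, by linear_combination h⟩
  choose a t hat using hex
  let mk : (κ → F) → (ι → F) →ₗ[F] (ι → F) := fun t => b.constr F (Sum.elim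
    (fun i => a i • p i + (t i * Q (p i)) • m i) (fun i => (t i * Q (m i)) • p i - a i • m i))
  have hmp : ∀ t i, mk t (p i) = a i • p i + (t i * Q (p i)) • m i := fun t i => by
    simp only [mk]; rw [← Sum.elim_inl p m, ← hb, Basis.constr_basis, Sum.elim_inl, hb]; rfl
  have hmm : ∀ t i, mk t (m i) = (t i * Q (m i)) • p i - a i • m i := fun t i => by
    simp only [mk]; rw [← Sum.elim_inr p m, ← hb, Basis.constr_basis, Sum.elim_inr, hb]; rfl
  have hgood : ∀ t : κ → F, (∀ i, a i ^ 2 + Q (p i) * Q (m i) * t i ^ 2 = δ) →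
      Root Q δ (mk t) ∧ ∀ y, act x (mk t y) = z • mk t (act x y) := by
    intro t ht
    refine ⟨⟨fun v => ?_, fun u v => ?_⟩, fun y => ?_⟩
    · have h : mk t ∘ₗ mk t = δ • LinearMap.id := b.ext fun s => by
        rw [hb]
        rcases s with i | i <;>
          simp only [Sum.elim_inl, Sum.elim_inr, LinearMap.comp_apply, LinearMap.smul_apply, LinearMap.id_apply,
            hmp, hmm, map_add, map_sub, map_smul] <;>
          match_scalars <;> first | linear_combination ht i | ring
      exact LinearMap.congr_fun h v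
    · have h : LinearMap.BilinForm.compLeft (polB Q) (mk t) = LinearMap.BilinForm.compRight (polB Q) (mk t) := by
        refine LinearMap.BilinForm.ext_basis b fun s s' => ?_
        rw [LinearMap.BilinForm.compLeft_apply, LinearMap.BilinForm.compRight_apply, hb, hb]
        by_cases hss : s = s'
        · subst hss
          exact polB_comm _ _
        rcases s with i | i <;> rcases s' with j | j <;>
          simp only [Sum.elim_inl, Sum.elim_inr, hmp, hmm, map_add, map_sub, map_smul, LinearMap.add_apply,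
            LinearMap.sub_apply, LinearMap.smul_apply, smul_eq_mul]
        · have e1 := horth (Sum.inl i) (Sum.inl j) hss
          have e2 := horth (Sum.inr i) (Sum.inl j) Sum.inr_ne_inl
          have e3 := horth (Sum.inl i) (Sum.inr j) Sum.inl_ne_inr
          simp only [Sum.elim_inl, Sum.elim_inr] at e1 e2 e3
          rw [e1, e2, e3]; ring
        · by_cases hij : i = j
          · subst hij
            have e1 := horth (Sum.inl i) (Sum.inr i) Sum.inl_ne_inr
            simp only [Sum.elim_inl, Sum.elim_inr] at e1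
            rw [e1, polB_self, polB_self]; ring
          · have e1 := horth (Sum.inl i) (Sum.inl j) fun h => hij (Sum.inl.inj h)
            have e2 := horth (Sum.inr i) (Sum.inr j) fun h => hij (Sum.inr.inj h)
            have e3 := horth (Sum.inl i) (Sum.inr j) Sum.inl_ne_inr
            simp only [Sum.elim_inl, Sum.elim_inr] at e1 e2 e3
            rw [e1, e2, e3]; ring
        · by_cases hij : i = j
          · subst hij
            have e1 := horth (Sum.inr i) (Sum.inl i) Sum.inr_ne_inl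
            simp only [Sum.elim_inl, Sum.elim_inr] at e1
            rw [e1, polB_self, polB_self]; ring
          · have e1 := horth (Sum.inl i) (Sum.inl j) fun h => hij (Sum.inl.inj h)
            have e2 := horth (Sum.inr i) (Sum.inr j) fun h => hij (Sum.inr.inj h)
            have e3 := horth (Sum.inr i) (Sum.inl j) Sum.inr_ne_inl
            simp only [Sum.elim_inl, Sum.elim_inr] at e1 e2 e3
            rw [e1, e2, e3]; ring
        · have e1 := horth (Sum.inr i) (Sum.inr j) hss
          have e2 := horth (Sum.inr i) (Sum.inl j) Sum.inr_ne_inl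
          have e3 := horth (Sum.inl i) (Sum.inr j) Sum.inl_ne_inr
          simp only [Sum.elim_inl, Sum.elim_inr] at e1 e2 e3
          rw [e1, e2, e3]; ring
      exact LinearMap.congr_fun₂ h u v
    · have h : act x ∘ₗ mk t = z • (mk t ∘ₗ act x) := b.ext fun s => by
        rw [hb]
        rcases hz with rfl | rfl
        · rcases s with i | i <;>
            obtain ⟨c, h1, h3⟩ := hone rfl i <;>
            simp only [Sum.elim_inl, Sum.elim_inr, LinearMap.comp_apply, LinearMap.smul_apply, hmp, hmm, map_add,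
              map_sub, map_smul, h1, h3] <;>
            module
        · rcases s with i | i <;>
            obtain ⟨h1, h3, h4⟩ := hneg rfl i <;>
            simp only [Sum.elim_inl, Sum.elim_inr, LinearMap.comp_apply, LinearMap.smul_apply, hmp, hmm, map_add,
              map_sub, map_smul, map_neg, h1, h3, h4] <;>
            module
      exact LinearMap.congr_fun h y
  set t' := Function.update t i₀ (-t i₀) with ht'
  refine ⟨mk t, mk t', m i₀, hne (Sum.inr i₀), hgood t hat, hgood t' (fun i => ?_), fun y => ?_⟩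
  · by_cases hi : i = i₀
    · subst hi; rw [ht', Function.update_self, neg_sq]; exact hat i
    · rw [ht', Function.update_of_ne hi]; exact hat i
  · have hrp : ∀ i, act (reflect Q (m i₀)) (p i) = p i := fun i => by
      rw [act_reflect, ← polB_apply, show polB Q (m i₀) (p i) = 0 from horth (Sum.inr i₀) (Sum.inl i) Sum.inr_ne_inl,
        mul_zero, zero_smul, sub_zero]
    have hrm : ∀ i, act (reflect Q (m i₀)) (m i) = if i = i₀ then -m i else m i := fun i => by
      split_ifs with hi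
      · subst hi
        rw [act_reflect, ← polB_apply, polB_self, mul_left_comm, inv_mul_cancel₀ (show Q (m i) ≠ 0 from hne (Sum.inr i))]
        module
      · rw [act_reflect, ← polB_apply, show polB Q (m i₀) (m i) = 0 from
          horth (Sum.inr i₀) (Sum.inr i) fun e => hi (Sum.inr.inj e).symm, mul_zero, zero_smul, sub_zero]
    have h : act (reflect Q (m i₀)) ∘ₗ mk t = mk t' ∘ₗ act (reflect Q (m i₀)) := b.ext fun s => by
      rw [hb]
      rcases s with i | i <;> by_cases hi : i = i₀ <;>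
        simp only [Sum.elim_inl, Sum.elim_inr, LinearMap.comp_apply, hmp, hmm, map_add, map_sub, map_smul, hrp, hrm,
          hi, if_true, if_false, map_neg, ht', Function.update_self, Function.update_of_ne, ne_eq, not_false_iff] <;>
        module
    exact LinearMap.congr_fun h y

/-- **Elements squaring to `± 1`.**  An element of `Ω` squaring to `z = ± 1` is conjugate in `Ω` to one commuting
up to `z` with a given root. -/
theorem exists_conj_sign {F : Type*} [Field F] [Fintype F] {ι : Type} [Fintype ι] [DecidableEq ι]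
    {Q : QuadraticForm F (ι → F)} (hQ : (QuadraticMap.polarBilin Q).Nondegenerate) (h2 : (2 : F) ≠ 0) {δ : F}
    (hδ : ¬ IsSquare δ) {d : ℕ} (hd : Fintype.card ι = 2 * d) (hd2 : 2 ≤ d) {T₀ : (ι → F) →ₗ[F] (ι → F)}
    (hT₀ : Root Q δ T₀) {x : Cfsg.isometryGroup F ⇑Q} (hxΩ : x ∈ Cfsg.Omega F ⇑Q) {z : F} (hz : z = 1 ∨ z = -1)
    (hx : ∀ v, act x (act x v) = z • v) :
    ∃ g ∈ Cfsg.Omega F ⇑Q, ∀ v, act (g⁻¹ * x * g) (T₀ v) = z • T₀ (act (g⁻¹ * x * g) v) := by
  classical
  have hn : 2 ≤ Fintype.card ι := by omega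
  rw [← ker_pairHom hQ h2 hn, MonoidHom.mem_ker] at hxΩ
  have hpar : par x = 1 := congrArg Prod.fst hxΩ
  obtain ⟨T, T', v, hv, hT, hT', hflip⟩ := exists_flip hQ h2 δ hd (by omega) hpar hz hx
  obtain ⟨g, hg⟩ := exists_conj_root hQ h2 hδ hd (by omega) hT₀ hT.1
  -- fix the determinant
  obtain ⟨T₁, g₁, hT₁, hg₁, hdet⟩ : ∃ (T₁ : (ι → F) →ₗ[F] (ι → F)) (g₁ : Cfsg.isometryGroup F ⇑Q),
      (∀ y, act x (T₁ y) = z • T₁ (act x y)) ∧ (∀ y, act g₁ (T₀ y) = T₁ (act g₁ y)) ∧
        (pairHom hQ h2 g₁).1 = 1 := by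
    rcases Int.units_eq_one_or (pairHom hQ h2 g).1 with h | h
    · exact ⟨T, g, hT.2, hg, h⟩
    · refine ⟨T', reflect Q v * g, hT'.2, fun y => by rw [act_mul, act_mul, hg, hflip], ?_⟩
      rw [map_mul, Prod.fst_mul, h, pairHom_reflect hQ h2 hv]
      rfl
  -- fix the spinor norm
  obtain ⟨e, he, hev⟩ := hT₀.exists_normal hQ h2 hδ hd
  obtain ⟨he1, he2⟩ := hev ⟨0, by omega⟩ (by simp; omega)
  set e₀ := e ⟨0, by omega⟩
  have hTe : Q (T₀ e₀) = δ := by rw [hT₀.q_T h2, he1, mul_one]
  have hδ0 : δ ≠ 0 := fun e => hδ (e ▸ ⟨0, by simp⟩)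
  set s := reflect Q e₀ * reflect Q (T₀ e₀) with hs
  have hpair : pairHom hQ h2 s = (1, -1) := by
    rw [hs, map_mul, pairHom_reflect hQ h2 (by rw [he1]; exact one_ne_zero), pairHom_reflect hQ h2
      (by rw [hTe]; exact hδ0), if_pos (by rw [he1]; exact IsSquare.one), if_neg (by rw [hTe]; exact hδ)]
    rfl
  have hcomm : ∀ y, act s (T₀ y) = T₀ (act s y) := fun y => by
    simp only [hs, act_mul, act_reflect, ← polB_apply, hTe, he1, inv_one, one_mul, map_sub, map_smul,
      LinearMap.sub_apply, hT₀.polar_TT, he2, hT₀.1, smul_eq_mul, ← hT₀.2 e₀ y]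
    match_scalars <;> field_simp <;> ring
  have hfin : ∀ g' : Cfsg.isometryGroup F ⇑Q, (∀ y, act g' (T₀ y) = T₁ (act g' y)) → pairHom hQ h2 g' = 1 →
      ∃ g ∈ Cfsg.Omega F ⇑Q, ∀ v, act (g⁻¹ * x * g) (T₀ v) = z • T₀ (act (g⁻¹ * x * g) v) := by
    intro g' hg' hp
    refine ⟨g', by rw [← ker_pairHom hQ h2 hn]; exact hp, fun y => ?_⟩
    have hinv : ∀ w, act g'⁻¹ (T₁ w) = T₀ (act g'⁻¹ w) := fun w => by
      conv_lhs => rw [← act_one (Q := Q) w, ← mul_inv_cancel g', act_mul, ← hg', ← act_mul, inv_mul_cancel, act_one]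
    rw [act_mul, act_mul, act_mul, act_mul, hg', hT₁, map_smul, hinv]
  rcases Int.units_eq_one_or (pairHom hQ h2 g₁).2 with h | h
  · exact hfin g₁ hg₁ (Prod.ext hdet h)
  · refine hfin (g₁ * s) (fun y => by rw [act_mul g₁ s, act_mul g₁ s, hcomm, hg₁]) ?_
    rw [map_mul, hpair]
    exact Prod.ext (by simp [hdet]) (by simp [h])

end Cfsg.Agent.Forms.Elusive.OrthQuad
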