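import Mathlib
import Cfsg.Agent.Lib.Forms.Elusive.OrthQuadTwo
import Cfsg.Agent.Lib.Forms.Elusive.OrthQuadIndex
import Cfsg.Agent.Lib.Forms.Elusive.Semisimple
import Cfsg.Agent.Lib.Forms.Max.QuadExt
import Cfsg.Agent.Lib.Classical.OrthPrimeClasses
import Cfsg.Agent.Lib.Classical.OrthEichler

/-!
# Elements of prime order and the quadratic field-extension subgroups of `Ω±_{2d}(q)`
-/

set_option autoImplicit false
set_option linter.unusedSectionVars false

namespace Cfsg.Agent.Forms.Elusive.OrthQuad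

open Module Matrix
open Cfsg.Agent.Forms Cfsg.Agent.Forms.Reflections Cfsg.Agent.Forms.QuadStd
open Cfsg.Agent.Classical Cfsg.Agent.Classical.OrthTypes
open Cfsg.Agent.Classical.StarFactor (Fac)
open Cfsg.Agent.Classical.Orth (eich act_eich)

variable {F : Type*} [Field F] [Fintype F] {ι : Type} [Fintype ι] [DecidableEq ι] {Q : QuadraticForm F (ι → F)}

/-- two independent singular vectors, orthogonal to one another -/
theorem exists_singular_pair (hQ : (QuadraticMap.polarBilin Q).Nondegenerate) {d : ℕ}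
    (hd : Fintype.card ι = 2 * d) (hd3 : 3 ≤ d) :
    ∃ u w : ι → F, Q u = 0 ∧ Q w = 0 ∧ QuadraticMap.polar Q u w = 0 ∧ LinearIndependent F ![u, w] := by
  have key : ∀ {κ : Type} [Fintype κ] [DecidableEq κ] (R : QuadraticForm F (κ → F))
      (e : (ι → F) ≃ₗ[F] (κ → F)) (_ : ∀ x, R (e x) = Q x) (a b : κ) (_ : a ≠ b)
      (_ : R (Pi.single a 1) = 0) (_ : R (Pi.single b 1) = 0) (_ : R (Pi.single a 1 + Pi.single b 1) = 0),
      ∃ u w : ι → F, Q u = 0 ∧ Q w = 0 ∧ QuadraticMap.polar Q u w = 0 ∧ LinearIndependent F ![u, w] := by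
    intro κ _ _ R e he a b hab ha hb hab'
    refine ⟨e.symm (Pi.single a 1), e.symm (Pi.single b 1), by rw [← he, e.apply_symm_apply, ha],
      by rw [← he, e.apply_symm_apply, hb], ?_, ?_⟩
    · rw [QuadraticMap.polar, ← map_add, ← he, ← he (e.symm (Pi.single a 1)), ← he (e.symm (Pi.single b 1)),
        e.apply_symm_apply, e.apply_symm_apply, e.apply_symm_apply, ha, hb, hab', sub_zero, sub_zero]
    · refine LinearIndependent.pair_iff.2 fun s t h => ?_
      have h1 := congrArg e h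
      rw [map_add, map_smul, map_smul, e.apply_symm_apply, e.apply_symm_apply, map_zero] at h1
      have h3 := congrFun h1 a
      have h4 := congrFun h1 b
      simp [Pi.single_apply, hab, Ne.symm hab] at h3 h4
      exact ⟨h3, h4⟩
  rcases normal_form hd hQ with ⟨-, e, he⟩ | ⟨-, -, ζ, e, -, he⟩
  · refine key _ e he (Sum.inl ⟨0, by omega⟩) (Sum.inl ⟨1, by omega⟩) (by simp [Fin.ext_iff]) ?_ ?_ ?_ <;>
      simp [PlusStd.plusQ_apply, Cfsg.quadFormPlus]
  · refine key _ e he (Sum.inl (Sum.inl ⟨0, by omega⟩)) (Sum.inl (Sum.inl ⟨1, by omega⟩)) (by simp [Fin.ext_iff])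
      ?_ ?_ ?_ <;>
      simp [OrthForms.minQ_eq, Cfsg.quadFormMinus]

/-- an element of order `p` in `Ω` commuting with no root -/
theorem exists_free_unipotent (hQ : (QuadraticMap.polarBilin Q).Nondegenerate) (h2 : (2 : F) ≠ 0) (p : ℕ)
    [hp : Fact p.Prime] [CharP F p] {δ : F} (hδ : ¬ IsSquare δ) {d : ℕ} (hd : Fintype.card ι = 2 * d) (hd3 : 3 ≤ d) :
    ∃ x : Cfsg.isometryGroup F ⇑Q, x ∈ Cfsg.Omega F ⇑Q ∧ x ^ p = 1 ∧ x ≠ 1 ∧
      ∀ T, Root Q δ T → ¬ ∀ v, act x (T v) = T (act x v) := by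
  obtain ⟨u, w, hu, hw, huw, hli⟩ := exists_singular_pair hQ hd hd3
  have hnw : QuadraticMap.polar Q u (-w) = 0 := by rw [QuadraticMap.polar_neg_right, huw, neg_zero]
  set g := eich u w hu huw with hg
  have hpow : ∀ (n : ℕ) v, act (g ^ n) v = Classical.Orth.eichLin Q u ((n : F) • w) v := fun n => by
    induction n with
    | zero => intro v; rw [pow_zero, act_one, Nat.cast_zero, zero_smul, Classical.Orth.eichLin_zero]
    | succ n ih =>
      intro v
      have hh : act g (Classical.Orth.eichLin Q u ((n : F) • w) v) =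
          Classical.Orth.eichLin Q u w (Classical.Orth.eichLin Q u ((n : F) • w) v) :=
        (act_eich hu huw _).trans (Classical.Orth.eichLin_apply u w _).symm
      rw [pow_succ', act_mul, ih, hh, Classical.Orth.eichLin_add hu huw
        (by rw [QuadraticMap.polar_smul_right, huw, smul_zero]), Nat.cast_succ, add_smul, one_smul, add_comm w]
  have hgp : g ^ p = 1 := iso_ext fun v => by
    rw [← act_apply, ← act_apply, hpow, CharP.cast_eq_zero, zero_smul, Classical.Orth.eichLin_zero, act_one]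
  have hF2 : Fintype.card F ≠ 2 := Spinor.two_ne_card hQ h2
  have hodd : Odd p := hp.out.odd_of_ne_two fun e => h2 (by
    subst e; exact_mod_cast CharP.cast_eq_zero F 2)
  have hinv : act g⁻¹ = Classical.Orth.eichLin Q u (-w) := LinearMap.ext fun v => by
    have h : g * eich u (-w) hu hnw = 1 := iso_ext fun z => by
      rw [← act_apply, ← act_apply, act_mul, act_one, act_eich hu hnw, ← Classical.Orth.eichLin_apply,
        hg, act_eich hu huw, ← Classical.Orth.eichLin_apply, Classical.Orth.eichLin_add hu huw hnw, add_neg_cancel,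
        Classical.Orth.eichLin_zero]
    rw [inv_eq_of_mul_eq_one_right h, act_eich hu hnw, Classical.Orth.eichLin_apply]
  obtain ⟨v, hv⟩ : ∃ v, polB Q v u ≠ 0 := by
    by_contra hcon
    push Not at hcon
    exact hli.ne_zero 0 (hQ.2 u hcon)
  have hS : ∀ z, act g z - act g⁻¹ z = (2 * polB Q z u) • w + (-(2 * polB Q z w)) • u := fun z => by
    rw [hinv, Classical.Orth.eichLin_apply, hg, act_eich]
    simp only [← polB_apply, map_neg, hw, QuadraticMap.map_neg, zero_mul, zero_smul, sub_zero]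
    module
  have hSne : act g v - act g⁻¹ v ≠ 0 := fun e => by
    rw [hS, add_comm] at e
    exact mul_ne_zero h2 hv (LinearIndependent.pair_iff.1 hli _ _ e).2
  refine ⟨g, OrthUnipotent.mem_omega Q hQ hF2 hodd hgp, hgp, fun e => hSne (by rw [e, inv_one, sub_self]),
    fun T hT hc => ?_⟩
  have h4 := four_dvd_rank hQ h2 hδ hT g hc
  have hle : LinearMap.range (act g - act g⁻¹) ≤ Submodule.span F {w, u} := by
    rintro _ ⟨z, rfl⟩
    rw [LinearMap.sub_apply, hS]
    exact Submodule.mem_span_pair.2 ⟨_, _, rfl⟩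
  have h1 : finrank F ↥(LinearMap.range (act g - act g⁻¹)) ≤ 2 := by
    refine (Submodule.finrank_mono hle).trans ?_
    classical
    have h := finrank_span_le_card (R := F) ({w, u} : Set (ι → F))
    refine h.trans ?_
    rw [Set.toFinset_insert, Set.toFinset_singleton]
    exact Finset.card_le_two
  have h3 : LinearMap.range (act g - act g⁻¹) ≠ ⊥ := fun e => hSne (by
    have := LinearMap.range_eq_bot.1 e
    exact LinearMap.congr_fun this v)
  have h5 : finrank F ↥(LinearMap.range (act g - act g⁻¹)) ≠ 0 := fun e => h3 (Submodule.finrank_eq_zero.1 e)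
  obtain ⟨k, hk⟩ := h4
  omega

/-- a semisimple element of `Ω` of order `r` with `rank (x - x⁻¹) ≡ 2 (mod 4)` -/
theorem exists_free_semisimple (hQ : (QuadraticMap.polarBilin Q).Nondegenerate) (h2 : (2 : F) ≠ 0) (p : ℕ)
    [hp : Fact p.Prime] [CharP F p] {δ : F} (hδ : ¬ IsSquare δ) {d : ℕ} (hd : Fintype.card ι = 2 * d)
    {r i c : ℕ} [hr : Fact r.Prime] (hr2 : r ≠ 2) (hrp : r ≠ p) (hi : i = orderOf ((Fintype.card F : ℕ) : ZMod r))
    (hc : c = if Even i then i else 2 * i) (hcd : c ≤ 2 * d)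
    (htype : c = 2 * d → (IsPlus Q d ↔ Odd i ∨ Even (2 * d / i))) (h4 : ¬ 4 ∣ i) :
    ∃ x : Cfsg.isometryGroup F ⇑Q, x ∈ Cfsg.Omega F ⇑Q ∧ x ^ r = 1 ∧ x ≠ 1 ∧
      ∀ T, Root Q δ T → ¬ ∀ v, act x (T v) = T (act x v) := by
  classical
  obtain ⟨t, ht⟩ : i ∣ r - 1 := by
    rw [hi]
    refine ZMod.orderOf_dvd_card_sub_one fun e => ?_
    rw [ZMod.natCast_eq_zero_iff] at e
    obtain ⟨n, -, hn⟩ := FiniteField.card F p
    rw [hn] at e
    exact hrp ((Nat.prime_dvd_prime_iff_eq hr.out hp.out).1 (hr.out.dvd_of_dvd_pow e))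
  obtain ⟨hS, P, hP, hfac⟩ := OrthPrimeClasses.setting_of (F := F) (p := p) (t := t) rfl hr.out hr2 hrp hi
    (by rw [ht, mul_comm])
  have hipos := OrthPrimeClasses.ne_of_pos hS
  have hr1 : 1 < r := hr.out.one_lt
  obtain ⟨π, hπ⟩ : P.Nonempty := Finset.card_pos.1 (hP ▸ Nat.pos_of_ne_zero fun e => by
    rw [e, mul_zero] at ht; omega)
  have hπf := (hfac π).1 hπ
  obtain ⟨hπs, hπss⟩ := hπf.star_fac hS.cast_ne hS.deg
  -- the free part
  obtain ⟨s₀, hs₀f, hs₀deg, hs₀inv⟩ : ∃ s₀ : Multiset (Polynomial F), (∀ x ∈ s₀, Fac r x) ∧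
      (s₀.map Polynomial.natDegree).sum = c ∧ s₀.map (StarFactor.star r) = s₀ := by
    by_cases he : Even i
    · refine ⟨{π}, by simpa using hπf, by simpa [hc, he] using hS.deg π hπf, ?_⟩
      rw [Multiset.map_singleton, (hπf.star_eq_iff hS.cast_ne hS.ne_two hS.deg).2 he]
    · refine ⟨{π, StarFactor.star r π}, ?_, ?_, ?_⟩
      · intro x hx
        simp only [Multiset.insert_eq_cons, Multiset.mem_cons, Multiset.mem_singleton] at hx
        rcases hx with rfl | rfl
        exacts [hπf, hπs]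
      · simp [hc, he, Multiset.insert_eq_cons, hS.deg π hπf, hS.deg _ hπs, two_mul]
      · simp [Multiset.insert_eq_cons, hπss, Multiset.cons_swap, ← Multiset.singleton_add, add_comm]
  set s := s₀ + Multiset.replicate (2 * d - c) (Polynomial.X - Polynomial.C (1 : F)) with hs
  have hgood : OrthPrimeClasses.Good r (2 * d) s := by
    refine ⟨⟨fun x hx => ?_, ?_⟩, ?_⟩
    · rcases Multiset.mem_add.1 hx with h | h
      · exact ⟨(hs₀f x h).monic, (hs₀f x h).irr, (hs₀f x h).dvd⟩
      · rw [Multiset.eq_of_mem_replicate h]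
        exact ⟨Polynomial.monic_X_sub_C 1, Polynomial.irreducible_X_sub_C 1,
          by rw [map_one]; exact sub_one_dvd_pow_sub_one _ _⟩
    · rw [hs, Multiset.map_add, Multiset.sum_add, hs₀deg, Multiset.map_replicate, Polynomial.natDegree_X_sub_C,
        Multiset.sum_replicate, smul_eq_mul, mul_one]
      omega
    · rw [hs, Multiset.map_add, hs₀inv, Multiset.map_replicate, StarFactor.star_X_sub_one hS.cast_ne]
  obtain ⟨A, hA⟩ := OrthPrimeClasses.exists_datum_even hS hd hQ hgood (by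
    by_cases hcd' : c = 2 * d
    · exact Or.inr (htype hcd')
    · refine Or.inl (Multiset.mem_add.2 (Or.inr (Multiset.mem_replicate.2 ⟨by omega, rfl⟩))))
  obtain ⟨g, hg, hgA⟩ := OrthRealise.exists_elt hr.out.pos ⇑Q A hA.pres hA.pow
  have hact : act g = Matrix.toLin' A := by rw [act, hgA]
  -- the fixed space
  have hfix : finrank F ↥(Reflections.fixSp g) = 2 * d - c := by
    have hpow : ∀ v, (Matrix.toLin' A ^ r) v = (1 : F) • v := fun v => by
      rw [← Matrix.toLin'_pow, hA.pow, Matrix.toLin'_one, one_smul, LinearMap.id_apply]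
    have hss := isSemisimple_of_pow hpow hS.cast_ne one_ne_zero
    have h := LinearMap.finrank_maxGenEigenspace_eq (Matrix.toLin' A) 1
    rw [hss.isFinitelySemisimple.maxGenEigenspace_eq_eigenspace, Matrix.charpoly_toLin', hA.char, hs,
      Multiset.prod_add, Multiset.prod_replicate, Polynomial.rootMultiplicity_mul_X_sub_C_pow] at h
    · rw [show Module.End.eigenspace (Matrix.toLin' A) 1 = Reflections.fixSp g from Submodule.ext fun v => by
        rw [Module.End.mem_eigenspace_iff, Reflections.mem_fixSp, hact, one_smul],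
        Polynomial.rootMultiplicity_eq_zero, zero_add] at h
      · exact h
      · rw [Polynomial.IsRoot, Polynomial.eval_multiset_prod, Multiset.prod_eq_zero_iff, Multiset.mem_map]
        rintro ⟨x, hx, hx0⟩
        exact (hs₀f x hx).ne (Polynomial.eq_of_monic_of_associated (hs₀f x hx).monic (Polynomial.monic_X_sub_C 1)
          (((Polynomial.irreducible_X_sub_C (1 : F)).associated_of_dvd (hs₀f x hx).irr
            (Polynomial.dvd_iff_isRoot.2 hx0)).symm))
    · exact (Polynomial.monic_multiset_prod_of_monic _ _ fun x hx => (hs₀f x hx).monic).ne_zero |>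
        fun h => by simpa using h
  have hodd : Odd r := hr.out.odd_of_ne_two hr2
  have hcpos : 0 < c := by rw [hc]; split_ifs <;> omega
  refine ⟨g, OrthUnipotent.mem_omega Q hQ (Spinor.two_ne_card hQ h2) hodd hg, hg, fun e => ?_, fun T hT hcm => ?_⟩
  · rw [e, Reflections.fixSp_one, finrank_top, Module.finrank_pi, hd] at hfix
    omega
  have h5 := four_dvd_rank hQ h2 hδ hT g hcm
  have hker : LinearMap.ker (act g - act g⁻¹) = Reflections.fixSp g := by
    obtain ⟨k, hk⟩ := hodd
    have hpw : ∀ (n : ℕ) v, act (g ^ 2) v = v → act ((g ^ 2) ^ n) v = v := fun n v hv => by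
      induction n with
      | zero => rw [pow_zero, act_one]
      | succ n ih => rw [pow_succ, act_mul, hv, ih]
    refine Submodule.ext fun v => ?_
    rw [LinearMap.mem_ker, LinearMap.sub_apply, sub_eq_zero, Reflections.mem_fixSp]
    constructor
    · intro h
      have h3 : act (g ^ 2) v = v := by
        rw [sq, act_mul, h, ← act_mul, mul_inv_cancel, act_one]
      have h6 := hpw k v h3
      rw [← pow_mul] at h6
      have h7 : act (g ^ r) v = v := by rw [hg, act_one]
      rw [hk, pow_succ', act_mul, h6] at h7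
      exact h7
    · intro h
      rw [h]
      conv_rhs => rw [← h, ← act_mul, inv_mul_cancel, act_one]
  have h6 := LinearMap.finrank_range_add_finrank_ker (act g - act g⁻¹)
  rw [hker, hfix, Module.finrank_pi, hd] at h6
  obtain ⟨k, hk⟩ := h5
  have hrank : c = 4 * k := by omega
  rw [hc] at hrank
  split_ifs at hrank with he
  · exact h4 ⟨k, hrank⟩
  · exact he ⟨k, by omega⟩

/-- the possible `c` -/
theorem exists_size (hQ : (QuadraticMap.polarBilin Q).Nondegenerate) {d : ℕ} (hd : Fintype.card ι = 2 * d)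
    (hd1 : 1 ≤ d) (p : ℕ) [hp : Fact p.Prime] [CharP F p] {r i : ℕ} [hr : Fact r.Prime] (hr2 : r ≠ 2) (hrp : r ≠ p)
    (hi : i = orderOf ((Fintype.card F : ℕ) : ZMod r)) (hdvd : r ∣ Nat.card (Cfsg.isometryGroup F ⇑Q)) :
    (if Even i then i else 2 * i) ≤ 2 * d ∧
      ((if Even i then i else 2 * i) = 2 * d → (IsPlus Q d ↔ Odd i ∨ Even (2 * d / i))) := by
  obtain ⟨W, hW1, hW2, hW⟩ := IsoInvariant.TypeSplit.natCard_O hd1 hd hQ
  have hrq : ¬ r ∣ Fintype.card F := fun h => by
    obtain ⟨n, -, hn⟩ := FiniteField.card F p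
    rw [hn] at h
    exact hrp ((Nat.prime_dvd_prime_iff_eq hr.out Fact.out).1 (hr.out.dvd_of_dvd_pow h))
  have hord : ∀ m, r ∣ Fintype.card F ^ m - 1 ↔ i ∣ m := fun m => by
    rw [hi, orderOf_dvd_iff_pow_eq_one, ← ZMod.natCast_eq_zero_iff,
      Nat.cast_sub (Nat.one_le_pow _ _ Fintype.card_pos), Nat.cast_pow, Nat.cast_one, sub_eq_zero]
  have hlt : ∀ m, 0 < m → i ∣ 2 * m → (if Even i then i else 2 * i) ≤ 2 * m := fun m hm h => by
    split_ifs with he
    · exact Nat.le_of_dvd (by omega) h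
    · have h3 : i ∣ m := (Nat.Coprime.dvd_mul_left
        (Nat.coprime_two_right.2 (Nat.not_even_iff_odd.1 he))).1 h
      have := Nat.le_of_dvd hm h3
      omega
  rw [hW] at hdvd
  rcases hr.out.dvd_mul.1 hdvd with h | h
  · rcases hr.out.dvd_mul.1 h with h | h
    · rcases hr.out.dvd_mul.1 h with h | h
      · exact absurd ((Nat.prime_dvd_prime_iff_eq hr.out Nat.prime_two).1 h) hr2
      · exact absurd (hr.out.dvd_of_dvd_pow h) hrq
    by_cases hplus : IsPlus Q d
    · rw [hW1 hplus, hord] at h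
      refine ⟨hlt d (by omega) (h.trans (dvd_mul_left _ _)), fun h3 => iff_of_true hplus ?_⟩
      split_ifs at h3 with he
      · exact absurd (Nat.le_of_dvd (by omega) h) (by omega)
      · exact Or.inl (Nat.not_even_iff_odd.1 he)
    · rw [hW2 hplus, ← ZMod.natCast_eq_zero_iff, Nat.cast_add, Nat.cast_pow, Nat.cast_one,
        add_eq_zero_iff_eq_neg] at h
      have hn : ¬ i ∣ d := fun h3 => by
        rw [hi, orderOf_dvd_iff_pow_eq_one, h] at h3
        haveI : Fact (2 < r) := ⟨by have := hr.out.two_le; omega⟩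
        exact ZMod.neg_one_ne_one h3
      have h3 : i ∣ 2 * d := by
        rw [hi]
        exact orderOf_dvd_of_pow_eq_one (by rw [mul_comm, pow_mul, h, neg_one_sq])
      refine ⟨hlt d (by omega) h3, fun h5 => iff_of_false hplus ?_⟩
      have he : Even i := by
        by_contra ho
        exact hn ((Nat.Coprime.dvd_mul_left (Nat.coprime_two_right.2 (Nat.not_even_iff_odd.1 ho))).1 h3)
      rw [if_pos he] at h5
      rintro (h6 | h6)
      · exact (Nat.not_odd_iff_even.2 he) h6
      · rw [h5, Nat.div_self (by omega)] at h6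
        exact Nat.not_even_one h6
  · obtain ⟨a, ha, ha'⟩ := (hr.out.prime.dvd_finsetProd_iff _).1 h
    have := hlt (a + 1) (by omega) ((hord _).1 ha')
    have := Finset.mem_range.1 ha
    exact ⟨by omega, fun h5 => by omega⟩

/-- **Elements of prime order and quadratic field extensions.** -/
theorem main (p : ℕ) [Fact p.Prime] [CharP F p] (hQ : (QuadraticMap.polarBilin Q).Nondegenerate)
    (hodd : Odd (Fintype.card F)) {d : ℕ} (hd : Fintype.card ι = 2 * d) (hd3 : 3 ≤ d)
    {K : Subalgebra F (Matrix ι ι F)} (hK : Cfsg.Geo.IsFieldSubalgebra 2 K)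
    (hKf : Cfsg.Geo.IsSelfAdjointFor (QuadraticMap.polar ⇑Q) K) (r : ℕ) [Fact r.Prime]
    (hΩ : r ∣ (Cfsg.Geo.subalgebraNormalizer K).relIndex (Cfsg.Geo.omegaGL ⇑Q)) :
    (∀ x ∈ Cfsg.Geo.omegaGL ⇑Q, (∃ z : F, ((x ^ r : GL ι F) : Matrix ι ι F) = z • (1 : Matrix ι ι F)) →
      (∀ z : F, (x : Matrix ι ι F) ≠ z • (1 : Matrix ι ι F)) →
      ∃ g ∈ Cfsg.Geo.omegaGL ⇑Q, g⁻¹ * x * g ∈ Cfsg.Geo.subalgebraNormalizer K) ↔ r = 2 := by
  classical
  have h2 : (2 : F) ≠ 0 := OrthForms.two_ne_zero_of_odd hodd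
  haveI : Nonempty ι := Fintype.card_pos_iff.1 (by omega)
  obtain ⟨θ, a, N, hθ, hsq, -, hirr, hspan⟩ := Max.QuadExt.exists_gen hK
  set θ₀ := θ - (a / 2) • (1 : Matrix ι ι F) with hθ₀def
  set δ := a / 2 * (a / 2) - N with hδdef
  have hθ₀ : θ₀ ∈ K := K.sub_mem hθ (K.smul_mem K.one_mem _)
  have hδ : ¬ IsSquare δ := by
    rintro ⟨s, hs⟩
    refine hirr (s + a / 2) ?_
    rw [hδdef] at hs
    field_simp at hs ⊢
    linear_combination -hs
  have hspan₀ : ∀ x ∈ K, ∃ s t : F, x = s • (1 : Matrix ι ι F) + t • θ₀ := fun x hx => by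
    obtain ⟨s, t, rfl⟩ := hspan x hx
    exact ⟨s + t * (a / 2), t, by rw [hθ₀def]; module⟩
  have hθθ : θ₀ * θ₀ = δ • (1 : Matrix ι ι F) := by
    rw [hθ₀def, hδdef]
    simp only [Matrix.mul_sub, Matrix.sub_mul, Matrix.mul_smul, Matrix.smul_mul, Matrix.mul_one, Matrix.one_mul, hsq]
    match_scalars <;> field_simp <;> ring
  have hsq₀ : θ₀ * θ₀ = (0 : F) • θ₀ - (-δ) • (1 : Matrix ι ι F) := by
    rw [hθθ, zero_smul, zero_sub, neg_smul, neg_neg]
  set T₀ := Matrix.toLin' θ₀ with hT₀
  have hroot : Root Q δ T₀ := by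
    refine ⟨fun v => ?_, fun u v => ?_⟩
    · rw [hT₀, Matrix.toLin'_apply, Matrix.toLin'_apply, Matrix.mulVec_mulVec, hθθ, Matrix.smul_mulVec,
        Matrix.one_mulVec]
    · rw [hT₀, Matrix.toLin'_apply, Matrix.toLin'_apply]
      exact hKf θ₀ hθ₀ u v
  have hmem : ∀ g : Cfsg.isometryGroup F ⇑Q, (g : GL ι F) ∈ Cfsg.Geo.subalgebraNormalizer K ↔
      ∃ ε : F, (ε = 1 ∨ ε = -1) ∧ ∀ v, act g (T₀ v) = ε • T₀ (act g v) := fun g => by
    rw [Max.QuadExt.mem_normalizer hK hspan₀ hθ₀ hsq₀]
    simp only [act_apply, hT₀, Matrix.toLin'_apply, zero_smul, zero_sub]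
    constructor
    · rintro (h | h)
      · exact ⟨1, Or.inl rfl, fun v => by rw [one_smul, h]⟩
      · exact ⟨-1, Or.inr rfl, fun v => by rw [neg_one_smul, h]⟩
    · rintro ⟨ε, rfl | rfl, h⟩
      · exact Or.inl fun v => by rw [h, one_smul]
      · exact Or.inr fun v => by rw [h, neg_one_smul]
  have hδ0 : δ ≠ 0 := fun e => hδ (e ▸ ⟨0, by simp⟩)
  obtain ⟨v₀, -, hv₀⟩ := exists_anisotropic h2 (Bases.nondegOn_top hQ.1) (fun e => by
    have h := congrArg (fun W : Submodule F (ι → F) => finrank F W) e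
    simp only [finrank_top, finrank_bot, Module.finrank_pi] at h
    omega)
  -- scalar isometries are signs
  have hscal : ∀ (x : Cfsg.isometryGroup F ⇑Q) (z : F), (∀ v, act x v = z • v) → z = 1 ∨ z = -1 := fun x z hx => by
    have h := act_map x v₀
    rw [hx, QuadraticMap.map_smul, smul_eq_mul] at h
    exact mul_self_eq_one_iff.1 ((mul_eq_right₀ hv₀).1 h)
  constructor
  · intro H
    by_contra hr2
    have hro : Odd r := (Fact.out : r.Prime).odd_of_ne_two hr2
    have key : ∀ x : Cfsg.isometryGroup F ⇑Q, x ∈ Cfsg.Omega F ⇑Q → x ^ r = 1 → x ≠ 1 →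
        ∃ T, Root Q δ T ∧ ∀ v, act x (T v) = T (act x v) := by
      intro x hx hxr hx1
      obtain ⟨_, ⟨g, hg, rfl⟩, hgx⟩ := H (x : GL ι F) ⟨x, hx, rfl⟩
        ⟨1, by rw [one_smul, ← Subgroup.coe_pow, hxr]; rfl⟩ fun z hz => hx1 (by
          have hxz : ∀ v, act x v = z • v := fun v => by rw [act_apply, hz, Matrix.smul_mulVec, Matrix.one_mulVec]
          rcases hscal x z hxz with rfl | rfl
          · exact iso_ext fun v => by rw [← act_apply, ← act_apply, hxz, one_smul, act_one]
          · exfalso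
            have hpw : ∀ n : ℕ, act (x ^ n) v₀ = (-1 : F) ^ n • v₀ := fun n => by
              induction n with
              | zero => rw [pow_zero, pow_zero, one_smul, act_one]
              | succ n ih => rw [pow_succ', act_mul, ih, map_smul, hxz, smul_smul, ← pow_succ]
            have h := hpw r
            rw [hxr, act_one, hro.neg_one_pow, neg_one_smul] at h
            have h3 := congrArg Q h
            have h4 : (2 : F) • v₀ = 0 := by rw [two_smul]; exact add_eq_zero_iff_eq_neg.2 h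
            exact hv₀ (by rw [(smul_eq_zero.1 h4).resolve_left h2, QuadraticMap.map_zero]))
      obtain ⟨y, hy⟩ : ∃ y, y = g⁻¹ * x * g := ⟨_, rfl⟩
      obtain ⟨ε, hε, hc⟩ := (hmem y).1 (by rw [hy]; exact hgx)
      have hyr : ∀ (n : ℕ) v, act (y ^ n) (T₀ v) = ε ^ n • T₀ (act (y ^ n) v) := fun n => by
        induction n with
        | zero => intro v; rw [pow_zero, pow_zero, one_smul, act_one, act_one]
        | succ n ih => intro v; rw [pow_succ', act_mul, act_mul, ih, map_smul, hc, smul_smul, ← pow_succ]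
      have hε1 : ε = 1 := by
        rcases hε with h | h
        · exact h
        · exfalso
          have h5 := hyr r v₀
          rw [hy, ← inv_inv g, inv_inv g⁻¹, conj_pow, hxr, mul_one, inv_inv, inv_mul_cancel, h,
            hro.neg_one_pow, act_one, act_one, neg_one_smul] at h5
          have h6 : (2 : F) • T₀ v₀ = 0 := by rw [two_smul]; exact add_eq_zero_iff_eq_neg.2 h5
          have h7 := congrArg T₀ ((smul_eq_zero.1 h6).resolve_left h2)
          rw [hroot.1, map_zero, smul_eq_zero] at h7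
          exact hv₀ (by rw [h7.resolve_left hδ0, QuadraticMap.map_zero])
      have hcan : ∀ v, act g (act g⁻¹ v) = v := fun v => by rw [← act_mul, mul_inv_cancel, act_one]
      have hcan' : ∀ v, act g⁻¹ (act g v) = v := fun v => by rw [← act_mul, inv_mul_cancel, act_one]
      refine ⟨act g ∘ₗ T₀ ∘ₗ act g⁻¹, ⟨fun v => ?_, fun u v => ?_⟩, fun v => ?_⟩
      · simp only [LinearMap.comp_apply, hcan', hroot.1, map_smul, hcan]
      · simp only [LinearMap.comp_apply]
        conv_lhs => rw [← hcan v, polB_apply, act_polar, ← polB_apply, hroot.2]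
        conv_rhs => rw [← hcan u, polB_apply, act_polar, ← polB_apply]
      · have h5 := hc (act g⁻¹ v)
        rw [hε1, one_smul, hy, act_mul, act_mul, act_mul, act_mul, hcan] at h5
        simp only [LinearMap.comp_apply]
        rw [← h5, hcan]
    by_cases hrp : r = p
    · subst hrp
      obtain ⟨x, hx, hxr, hx1, hfree⟩ := exists_free_unipotent hQ h2 r hδ hd hd3
      obtain ⟨T, hT, hc⟩ := key x hx hxr hx1
      exact hfree T hT hc
    · obtain ⟨hcd, htype⟩ := exists_size hQ hd (by omega) p hr2 hrp rfl (hΩ.trans (relIndex_dvd_card Q _))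
      obtain ⟨x, hx, hxr, hx1, hfree⟩ := exists_free_semisimple hQ h2 p hδ hd hr2 hrp rfl rfl hcd htype
        fun h4 => not_dvd_index hQ h2 hδ hd (by omega) hroot _
          (fun g hg => (hmem g).2 ⟨1, Or.inl rfl, fun v => by rw [one_smul, hg]⟩) p hrp rfl h4 hΩ
      obtain ⟨T, hT, hc⟩ := key x hx hxr hx1
      exact hfree T hT hc
  · rintro rfl _ ⟨x, hx, rfl⟩ ⟨z, hz⟩ -
    have hxx : ∀ v, act x (act x v) = z • v := fun v => by
      rw [← act_mul, ← sq, act_apply]
      show (((x : GL ι F) ^ 2 : GL ι F) : Matrix ι ι F) *ᵥ v = _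
      rw [show ((x : GL ι F) ^ 2 : GL ι F) = ((Cfsg.isometryGroup F ⇑Q).subtype x) ^ 2 from rfl, hz,
        Matrix.smul_mulVec, Matrix.one_mulVec]
    have hz1 : z = 1 ∨ z = -1 := hscal (x * x) z fun v => by rw [act_mul, hxx]
    obtain ⟨g, hg, hc⟩ := exists_conj_sign hQ h2 hδ hd (by omega) hroot hx hz1 hxx
    exact ⟨(g : GL ι F), ⟨g, hg, rfl⟩, (hmem (g⁻¹ * x * g)).2 ⟨z, hz1, hc⟩⟩

end Cfsg.Agent.Forms.Elusive.OrthQuad
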