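import Mathlib
import Cfsg.Agent.Lib.Classical.JordanClasses

/-!
# Unipotent matrices under field extensions and determinants of their centralisers
-/

set_option autoImplicit false
set_option linter.unusedSectionVars false

open Module

namespace Cfsg.Agent.Forms.Elusive

open Cfsg.Agent.Classical.JordanChains

variable {K L : Type*} [Field K] [Field L] {n : ℕ}

/-- chains survive an extension of the field -/
theorem chains_map (φ : K →+* L) {g : GL (Fin n) K} {t : ℕ} {d : Fin t → ℕ} {v : Fin t → Fin n → K}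
    (h : Chains (nil g) d v) :
    Chains (nil (Matrix.GeneralLinearGroup.map φ g)) d (fun k => φ ∘ v k) := by
  classical
  have hN : ∀ x : Fin n → K, nil (Matrix.GeneralLinearGroup.map φ g) (φ ∘ x) = φ ∘ nil g x := by
    intro x
    funext i
    have hM : ((g : Matrix (Fin n) (Fin n) K).map φ - 1) = ((g : Matrix (Fin n) (Fin n) K) - 1).map φ := by
      rw [Matrix.map_sub _ (map_sub φ), Matrix.map_one _ (map_zero φ) (map_one φ)]
    show Matrix.toLin' ((g : Matrix (Fin n) (Fin n) K).map φ - 1) (φ ∘ x) i = _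
    rw [hM, Matrix.toLin'_apply, Function.comp_apply, nil, Matrix.toLin'_apply, RingHom.map_mulVec]
  have hpow : ∀ (j : ℕ) (x : Fin n → K),
      (nil (Matrix.GeneralLinearGroup.map φ g) ^ j) (φ ∘ x) = φ ∘ (nil g ^ j) x := by
    intro j
    induction j with
    | zero => intro x; rfl
    | succ j ih =>
      intro x
      rw [pow_succ', pow_succ', Module.End.mul_apply, Module.End.mul_apply, ih, hN]
  have hfam : (fun i : Idx d => (nil (Matrix.GeneralLinearGroup.map φ g) ^ (i.2 : ℕ)) (φ ∘ v i.1)) =
      fun i => φ ∘ (nil g ^ (i.2 : ℕ)) (v i.1) := funext fun i => hpow _ _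
  have hsp : ⊤ ≤ Submodule.span L
      (Set.range fun i : Idx d => φ ∘ (nil g ^ (i.2 : ℕ)) (v i.1)) := by
    rw [← (Pi.basisFun L (Fin n)).span_eq, Submodule.span_le]
    rintro _ ⟨j, rfl⟩
    have hmap : ∀ x ∈ Submodule.span K (Set.range fun i : Idx d => (nil g ^ (i.2 : ℕ)) (v i.1)),
        φ ∘ x ∈ Submodule.span L (Set.range fun i : Idx d => φ ∘ (nil g ^ (i.2 : ℕ)) (v i.1)) := by
      intro x hx
      induction hx using Submodule.span_induction with
      | mem y hy => obtain ⟨i, rfl⟩ := hy; exact Submodule.subset_span ⟨i, rfl⟩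
      | zero =>
        rw [show (φ ∘ (0 : Fin n → K)) = (0 : Fin n → L) from funext fun i => map_zero φ]
        exact zero_mem _
      | add y z _ _ hy hz =>
        rw [show φ ∘ (y + z) = φ ∘ y + φ ∘ z from funext fun i => map_add φ _ _]
        exact add_mem hy hz
      | smul c y _ hy =>
        rw [show φ ∘ (c • y) = φ c • (φ ∘ y) from funext fun i => map_mul φ _ _]
        exact Submodule.smul_mem _ _ hy
    have h1 := hmap (Pi.single j 1) (h.span Submodule.mem_top)
    rw [show φ ∘ (Pi.single j 1 : Fin n → K) = (Pi.single j 1 : Fin n → L) from funext fun i => by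
      rcases eq_or_ne i j with rfl | hne <;> simp [*]] at h1
    rw [Pi.basisFun_apply]
    exact h1
  refine ⟨h.pos, fun _ => trivial, fun k => ?_, ?_, ?_⟩
  · rw [hpow, h.kill]; exact funext fun i => map_zero φ
  · rw [hfam]
    refine linearIndependent_of_top_le_span_of_card_eq_finrank hsp ?_
    rw [Module.finrank_fin_fun, Fintype.card_sigma, show n = ∑ k, d k by
      rw [← h.finrank_eq, Module.finrank_fin_fun]]
    simp
  · rw [hfam]; exact hsp

theorem unip_map (φ : K →+* L) {g : GL (Fin n) K} (hg : Unip g) :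
    Unip (Matrix.GeneralLinearGroup.map φ g) := by
  obtain ⟨t, d, v, h⟩ := exists_chains (nil g) hg
  exact ⟨n, ((chains_map φ h).pow_eq_zero_iff n).2 fun k => by
    calc d k ≤ ∑ k, d k := Finset.single_le_sum (fun _ _ => Nat.zero_le _) (Finset.mem_univ k)
      _ = n := by rw [← h.finrank_eq, Module.finrank_fin_fun]⟩

/-- the Jordan type is invariant under extension of the field -/
theorem partition_map (φ : K →+* L) {g : GL (Fin n) K} (hg : Unip g)
    (hg' : Unip (Matrix.GeneralLinearGroup.map φ g)) :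
    partition (Matrix.GeneralLinearGroup.map φ g) hg' = partition g hg := by
  obtain ⟨t, d, v, h⟩ := exists_chains (nil g) hg
  exact Nat.Partition.ext ((partition_eq hg' (chains_map φ h)).trans (partition_eq hg h).symm)

/-- scaling one chain gives an element of the centraliser -/
theorem exists_cent_det {g : GL (Fin n) L} (hg : Unip g) {j : ℕ} (hj : j ∈ (partition g hg).parts)
    (c : Lˣ) : ∃ C : GL (Fin n) L, C * g = g * C ∧ Matrix.GeneralLinearGroup.det C = c ^ j := by
  classical
  obtain ⟨t, d, v, h⟩ := exists_chains (nil g) hg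
  rw [partition_eq hg h] at hj
  obtain ⟨k₀, -, rfl⟩ := Multiset.mem_map.1 hj
  let s : Idx d → Lˣ := fun i => if i.1 = k₀ then c else 1
  let e : (Fin n → L) ≃ₗ[L] (Fin n → L) := h.basis.equiv (h.basis.unitsSMul s) (Equiv.refl _)
  have he : ∀ i, e (h.basis i) = (s i : L) • h.basis i := fun i => by
    simp only [e, Basis.equiv_apply, Equiv.refl_apply, Basis.unitsSMul_apply, Units.smul_def]
  let C : GL (Fin n) L := ⟨LinearMap.toMatrix' e.toLinearMap, LinearMap.toMatrix' e.symm.toLinearMap,
    by rw [← LinearMap.toMatrix'_comp]; simp, by rw [← LinearMap.toMatrix'_comp]; simp⟩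
  have hC : ∀ y, Matrix.mulVec (C : Matrix (Fin n) (Fin n) L) y = e y := fun y => by
    simp [C, LinearMap.toMatrix'_mulVec]
  refine ⟨C, ?_, ?_⟩
  · have key : e.toLinearMap ∘ₗ nil g = nil g ∘ₗ e.toLinearMap := by
      refine h.basis.ext fun i => ?_
      rw [LinearMap.comp_apply, LinearMap.comp_apply, LinearEquiv.coe_coe, he, map_smul, h.basis_apply,
        ← Module.End.mul_apply, ← pow_succ']
      by_cases hlt : (i.2 : ℕ) + 1 < d i.1
      · have h1 := h.basis_apply ⟨i.1, ⟨(i.2 : ℕ) + 1, hlt⟩⟩
        rw [← h1, he]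
      · rw [Classical.JordanChains.pow_eq_zero_of_le (h.kill i.1) (by omega), map_zero, smul_zero]
    refine Units.ext (Matrix.ext_iff_mulVec.2 fun x => ?_)
    have hx := LinearMap.congr_fun key x
    rw [LinearMap.comp_apply, LinearMap.comp_apply, LinearEquiv.coe_coe, nil, Matrix.toLin'_apply,
      Matrix.toLin'_apply, Matrix.sub_mulVec, Matrix.sub_mulVec, Matrix.one_mulVec, Matrix.one_mulVec,
      map_sub] at hx
    simp only [Units.val_mul, ← Matrix.mulVec_mulVec, hC]
    exact sub_left_inj.1 hx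
  · refine Units.ext ?_
    rw [Matrix.GeneralLinearGroup.val_det_apply, Units.val_pow_eq_pow_val]
    show (LinearMap.toMatrix' e.toLinearMap).det = _
    rw [LinearMap.det_toMatrix', ← LinearMap.det_toMatrix h.basis,
      show LinearMap.toMatrix h.basis h.basis e.toLinearMap = Matrix.diagonal fun i => (s i : L) from by
        ext a b
        rw [LinearMap.toMatrix_apply, LinearEquiv.coe_coe, he, map_smul, Finsupp.smul_apply,
          Basis.repr_self, Finsupp.single_apply, Matrix.diagonal_apply]
        by_cases hab : a = b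
        · subst hab; simp
        · simp [hab, Ne.symm hab],
      Matrix.det_diagonal, Fintype.prod_sigma, Finset.prod_eq_single k₀]
    · simp [s]
    · intro k _ hk; simp [s, hk]
    · simp

/-- the centraliser of a unipotent matrix with all parts equal to two has square determinants -/
theorem cent_det_square {g : GL (Fin n) L} (hg : Unip g) (h2 : ∀ a ∈ (partition g hg).parts, a = 2)
    {C : GL (Fin n) L} (hC : C * g = g * C) :
    ∃ w : L, (C : Matrix (Fin n) (Fin n) L).det = w * w := by
  classical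
  obtain ⟨t, d, v, h⟩ := exists_chains (nil g) hg
  have hd : ∀ k, d k = 2 := fun k => h2 _ (by
    rw [partition_eq hg h]; exact Multiset.mem_map.2 ⟨k, Finset.mem_univ k, rfl⟩)
  let σ : Fin t ⊕ Fin t ≃ Idx d :=
    (((Equiv.sigmaCongrRight fun k => finCongr (hd k)).trans (Equiv.sigmaEquivProd _ _)).trans
      ((Equiv.prodComm _ _).trans ((Equiv.prodCongr finTwoEquiv (Equiv.refl _)).trans
        (Equiv.boolProdEquivSum (Fin t))))).symm
  let b : Basis (Fin t ⊕ Fin t) L (Fin n → L) := h.basis.reindex σ.symm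
  have hb : ∀ i, b i = (nil g ^ ((σ i).2 : ℕ)) (v (σ i).1) := fun i => by
    simp [b, h.basis_apply]
  have hσl : ∀ k, ((σ (Sum.inl k)).2 : ℕ) = 0 ∧ (σ (Sum.inl k)).1 = k := fun k => ⟨rfl, rfl⟩
  have hσr : ∀ k, ((σ (Sum.inr k)).2 : ℕ) = 1 ∧ (σ (Sum.inr k)).1 = k := fun k => ⟨rfl, rfl⟩
  have hbl : ∀ k, b (Sum.inl k) = v k := fun k => by
    rw [hb, (hσl k).1, (hσl k).2, pow_zero]; rfl
  have hbr : ∀ k, b (Sum.inr k) = nil g (v k) := fun k => by
    rw [hb, (hσr k).1, (hσr k).2, pow_one]
  set f : (Fin n → L) →ₗ[L] (Fin n → L) := Matrix.toLin' (C : Matrix (Fin n) (Fin n) L) with hf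
  have hcomm : ∀ x, f (nil g x) = nil g (f x) := fun x => by
    simp only [hf, nil, Matrix.toLin'_apply, Matrix.mulVec_mulVec]
    rw [mul_sub, sub_mul, mul_one, one_mul, ← Units.val_mul, ← Units.val_mul, hC]
  have hNb : ∀ i, nil g (b i) = Sum.elim (fun k => b (Sum.inr k)) (fun _ => 0) i := by
    rintro (k | k)
    · rw [hbl]; exact (hbr k).symm
    · rw [hbr, Sum.elim_inr]
      have := h.kill k
      rwa [hd, pow_two, Module.End.mul_apply] at this
  set M := LinearMap.toMatrix b b f with hM
  -- the image of a second-layer vector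
  have himg : ∀ k, f (b (Sum.inr k)) = ∑ l, M (Sum.inl l) (Sum.inl k) • b (Sum.inr l) := fun k => by
    rw [hbr, hcomm, ← hbl]
    conv_lhs => rw [← b.sum_repr (f (b (Sum.inl k)))]
    simp only [map_sum, map_add, map_smul, hNb, Fintype.sum_sum_type, Sum.elim_inl, Sum.elim_inr, smul_zero,
      Finset.sum_const_zero, add_zero, hM, LinearMap.toMatrix_apply]
  have h12 : ∀ l k, M (Sum.inl l) (Sum.inr k) = 0 := fun l k => by
    rw [hM, LinearMap.toMatrix_apply, himg, map_sum, Finsupp.finsetSum_apply]
    refine Finset.sum_eq_zero fun i _ => ?_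
    simp
  have h22 : ∀ l k, M (Sum.inr l) (Sum.inr k) = M (Sum.inl l) (Sum.inl k) := fun l k => by
    conv_lhs => rw [hM, LinearMap.toMatrix_apply, himg, map_sum, Finsupp.finsetSum_apply]
    rw [Finset.sum_eq_single l]
    · simp
    · intro i _ hi; simp [hi]
    · simp
  refine ⟨M.toBlocks₁₁.det, ?_⟩
  have e : M = Matrix.fromBlocks M.toBlocks₁₁ 0 M.toBlocks₂₁ M.toBlocks₁₁ := by
    ext i j
    rcases i with i | i <;> rcases j with j | j <;> simp [Matrix.toBlocks₁₁, Matrix.toBlocks₂₁, h12, h22]
  rw [← LinearMap.det_toLin', ← hf, ← LinearMap.det_toMatrix b, ← hM]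
  conv_lhs => rw [e]
  rw [Matrix.det_fromBlocks_zero₁₂]

end Cfsg.Agent.Forms.Elusive
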