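import Mathlib
import Cfsg.Prelude.Def_GeometricClasses
import Cfsg.Agent.Lib.Forms.Elusive.UnipotentField

/-!
# Elements of order three and subfield groups in characteristic three
-/

set_option autoImplicit false
set_option linter.unusedSectionVars false

open Module

namespace Cfsg.Agent.Forms.Elusive

open Cfsg.Agent.Classical.JordanChains

variable {F : Type*} [Field F] [Fintype F] {n : ℕ}

/-- a scalar matrix as an invertible matrix -/
noncomputable def scal (c : Fˣ) : GL (Fin n) F :=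
  Units.map (Matrix.scalar (Fin n) : F →+* Matrix (Fin n) (Fin n) F).toMonoidHom c

theorem scal_val (c : Fˣ) : ((scal c : GL (Fin n) F) : Matrix (Fin n) (Fin n) F) = (c : F) • 1 := by
  show Matrix.scalar (Fin n) (c : F) = _
  rw [Matrix.scalar_apply, Matrix.smul_one_eq_diagonal]

theorem scal_comm (c : Fˣ) (g : GL (Fin n) F) : scal c * g = g * scal c :=
  Units.ext (by simp [scal_val])

/-- membership of the standard subfield group -/
theorem mem_subfield_iff (F₀ : Subfield F) (g : GL (Fin n) F) :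
    g ∈ Cfsg.Geo.subfieldSubgroup F₀ 1 ↔
      ∃ (h : GL (Fin n) ↥F₀) (c : Fˣ), g = Matrix.GeneralLinearGroup.map F₀.subtype h * scal c := by
  have e : Cfsg.Geo.subfieldSubgroup F₀ (1 : GL (Fin n) F) =
      (Matrix.GeneralLinearGroup.map (F₀.subtype : F₀ →+* F)).range ⊔ Cfsg.Geo.scalars (Fin n) F := by
    rw [Cfsg.Geo.subfieldSubgroup, map_one]
    exact Subgroup.map_id _
  haveI : (Cfsg.Geo.scalars (Fin n) F).Normal := ⟨fun a ⟨c, hc⟩ b => ⟨c, by
    rw [← hc]
    show scal c = b * scal c * b⁻¹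
    rw [← scal_comm c b, mul_inv_cancel_right]⟩⟩
  rw [e, Subgroup.mem_sup_of_normal_right]
  constructor
  · rintro ⟨_, ⟨h, rfl⟩, _, ⟨c, rfl⟩, rfl⟩
    exact ⟨h, c, rfl⟩
  · rintro ⟨h, c, rfl⟩
    exact ⟨_, ⟨h, rfl⟩, _, ⟨c, rfl⟩, rfl⟩

theorem exists_det {K : Type*} [Field K] (hn : 0 < n) (u : Kˣ) : ∃ D : GL (Fin n) K, Matrix.GeneralLinearGroup.det D = u := by
  classical
  refine ⟨Matrix.GeneralLinearGroup.mkOfDetNeZero
    (Matrix.diagonal fun i => if i = ⟨0, hn⟩ then (u : K) else 1) (by simp [Matrix.det_diagonal]), Units.ext ?_⟩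
  simp [Matrix.GeneralLinearGroup.val_det_apply, Matrix.det_diagonal]

theorem three_ne_two [CharP F 3] : (2 : F) ≠ 0 := by
  intro h
  have : (3 : ℕ) ∣ 2 := (CharP.cast_eq_zero_iff F 3 2).1 (by exact_mod_cast h)
  omega

/-- a non-square of `F` inside a subfield of odd degree -/
theorem exists_nonsquare_sub [CharP F 3] (F₀ : Subfield F) (k : ℕ) (hk : Odd k)
    (hqk : Fintype.card F = Nat.card ↥F₀ ^ k) : ∃ u : (↥F₀)ˣ, ¬ ∃ w : F, w * w = ((u : ↥F₀) : F) := by
  haveI := Fintype.ofFinite ↥F₀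
  have h2 : (2 : F) ≠ 0 := three_ne_two
  haveI : CharP ↥F₀ 3 := F₀.subtype.charP Subtype.val_injective 3
  have hchar : ringChar ↥F₀ ≠ 2 := by rw [ringChar.eq ↥F₀ 3]; omega
  obtain ⟨u, hu⟩ := FiniteField.exists_nonsquare hchar
  have hu0 : u ≠ 0 := by rintro rfl; exact hu ⟨0, by simp⟩
  refine ⟨Units.mk0 u hu0, ?_⟩
  rintro ⟨w, hw⟩
  rw [Units.val_mk0] at hw
  rw [Nat.card_eq_fintype_card] at hqk
  set q₀ := Fintype.card ↥F₀ with hq₀
  have hpow : ((u : F)) ^ (q₀ / 2) = -1 := by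
    rcases FiniteField.pow_dichotomy hchar hu0 with h | h
    · exact absurd ((FiniteField.isSquare_iff hchar hu0).2 h) hu
    · have := congrArg F₀.subtype h
      simpa using this
  have hw0 : w ≠ 0 := by
    rintro rfl
    rw [mul_zero] at hw
    exact hu0 (Subtype.ext hw.symm)
  have hodd : 2 * (q₀ / 2) + 1 = q₀ :=
    Nat.two_mul_div_two_add_one_of_odd (Nat.odd_iff.2 (FiniteField.odd_card_of_char_ne_two hchar))
  have hwq : w ^ q₀ = -w := by
    rw [← hodd, pow_add, pow_one, pow_mul, pow_two, hw, hpow, neg_one_mul]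
  have hiter : ∀ j, w ^ q₀ ^ j = (-1) ^ j * w := fun j => by
    induction j with
    | zero => simp
    | succ j ih =>
      rw [pow_succ, pow_mul, ih, mul_pow, hwq, ← pow_mul, pow_succ (-1 : F) j, mul_comm j,
        pow_mul (-1 : F), Odd.neg_one_pow ⟨q₀ / 2, hodd.symm⟩]
      ring
  have h3 := hiter k
  rw [← hqk, FiniteField.pow_card, hk.neg_one_pow, neg_one_mul, eq_neg_iff_add_eq_zero, ← two_mul] at h3
  exact mul_ne_zero h2 hw0 h3

/-- in characteristic three every unit is a cube -/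
theorem exists_cube [CharP F 3] (e : Fˣ) : ∃ c : Fˣ, c ^ 3 = e := by
  haveI : Fact (Nat.Prime 3) := ⟨Nat.prime_three⟩
  obtain ⟨d, hd⟩ : ∃ d : F, d ^ 3 = (e : F) := surjective_frobenius F 3 (e : F)
  refine ⟨Units.mk0 d (fun h => e.ne_zero (by rw [← hd, h]; simp)), Units.ext ?_⟩
  simp [hd]

/-- determinants of the centraliser together with those of the subfield fill everything -/
theorem det_fill [CharP F 3] (hn : 0 < n) (F₀ : Subfield F) (k : ℕ)
    (hqk : Fintype.card F = Nat.card ↥F₀ ^ k)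
    {g : GL (Fin n) F} (hg : Unip g) (hparts : ∀ a ∈ (partition g hg).parts, a ≤ 3)
    (hcase : Odd n ∨ Odd k) (e : Fˣ) :
    ∃ (C : GL (Fin n) F) (D : GL (Fin n) ↥F₀), C * g = g * C ∧
      Matrix.GeneralLinearGroup.det C *
        Matrix.GeneralLinearGroup.det (Matrix.GeneralLinearGroup.map F₀.subtype D) = e := by
  by_cases h2 : ∃ j ∈ (partition g hg).parts, j = 1 ∨ j = 3
  · obtain ⟨j, hj, hj'⟩ := h2
    obtain ⟨c, hc⟩ : ∃ c : Fˣ, c ^ j = e := by
      rcases hj' with rfl | rfl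
      · exact ⟨e, pow_one e⟩
      · exact exists_cube e
    obtain ⟨C, hC, hdet⟩ := exists_cent_det hg hj c
    exact ⟨C, 1, hC, by rw [hdet, hc, map_one, map_one, mul_one]⟩
  push Not at h2
  have hall : ∀ a ∈ (partition g hg).parts, a = 2 := fun a ha => by
    have := (partition g hg).parts_pos ha
    have := hparts a ha
    have := h2 a ha
    omega
  have hne : Odd k := by
    refine hcase.resolve_left fun ho => ?_
    have hs := (partition g hg).parts_sum
    rw [Multiset.eq_replicate_card.2 hall, Multiset.sum_replicate, smul_eq_mul] at hs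
    obtain ⟨m, hm⟩ := ho
    omega
  obtain ⟨j, hj⟩ : ∃ j, j ∈ (partition g hg).parts := by
    refine Multiset.exists_mem_of_ne_zero fun h0 => ?_
    have hs := (partition g hg).parts_sum
    rw [h0, Multiset.sum_zero] at hs
    omega
  obtain rfl := hall j hj
  obtain ⟨u, hu⟩ := exists_nonsquare_sub F₀ k hne hqk
  have hF : ringChar F ≠ 2 := by rw [ringChar.eq F 3]; omega
  let v : Fˣ := Units.map (F₀.subtype : ↥F₀ →+* F).toMonoidHom u
  have hv : ¬ IsSquare v := fun ⟨w, hw⟩ => hu ⟨w, (congrArg Units.val hw).symm⟩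
  obtain ⟨c, u', hcu⟩ : ∃ (c : Fˣ) (u' : (↥F₀)ˣ),
      c ^ 2 * Units.map (F₀.subtype : ↥F₀ →+* F).toMonoidHom u' = e := by
    by_cases he : IsSquare e
    · obtain ⟨c, hc⟩ := he
      exact ⟨c, 1, by rw [map_one, mul_one, pow_two, hc]⟩
    · have hneg : ∀ w : Fˣ, ¬ IsSquare w → w ^ (Fintype.card F / 2) = -1 := fun w hw => by
        rcases FiniteField.pow_dichotomy hF w.ne_zero with h | h
        · exact absurd ((FiniteField.unit_isSquare_iff hF w).2 (Units.ext (by simpa using h))) hw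
        · exact Units.ext (by simpa using h)
      obtain ⟨c, hc⟩ : IsSquare (e * v⁻¹) := by
        rw [FiniteField.unit_isSquare_iff hF, mul_pow, inv_pow, hneg e he, hneg v hv]
        simp
      exact ⟨c, u, by rw [pow_two, ← hc, inv_mul_cancel_right]⟩
  obtain ⟨C, hC, hdet⟩ := exists_cent_det hg hj c
  obtain ⟨D, hD⟩ := exists_det hn u'
  exact ⟨C, D, hC, by rw [hdet, Matrix.GeneralLinearGroup.map_det, hD]; exact hcu⟩

/-- sufficiency -/
theorem exists_conj_into [CharP F 3] (hn : 0 < n) (F₀ : Subfield F) (k : ℕ)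
    (hqk : Fintype.card F = Nat.card ↥F₀ ^ k) (hcase : Odd n ∨ Odd k)
    (x : Matrix.SpecialLinearGroup (Fin n) F) (z : F)
    (hz : ((x ^ 3 : Matrix.SpecialLinearGroup (Fin n) F) : Matrix (Fin n) (Fin n) F) = z • 1) :
    ∃ P : Matrix.SpecialLinearGroup (Fin n) F, P⁻¹ * x * P ∈
      (Cfsg.Geo.subfieldSubgroup F₀ 1).comap
        (Matrix.SpecialLinearGroup.toGL : Matrix.SpecialLinearGroup (Fin n) F →* GL (Fin n) F) := by
  haveI : Fact (Nat.Prime 3) := ⟨Nat.prime_three⟩
  haveI : Nonempty (Fin n) := ⟨⟨0, hn⟩⟩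
  have hz0 : z ≠ 0 := by
    rintro rfl
    have hdet := congrArg Matrix.det hz
    rw [(x ^ 3).2, zero_smul, Matrix.det_zero] at hdet
    exact one_ne_zero hdet
  obtain ⟨d, hd⟩ := exists_cube (Units.mk0 z hz0)
  set G : GL (Fin n) F := Matrix.SpecialLinearGroup.toGL x with hG
  set y : GL (Fin n) F := scal d⁻¹ * G with hy
  have hy3 : y ^ 3 ^ 1 = 1 := by
    rw [pow_one, hy, Commute.mul_pow (scal_comm _ G)]
    refine Units.ext ?_
    rw [Units.val_mul, Units.val_pow_eq_pow_val, Units.val_pow_eq_pow_val, scal_val,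
      _root_.smul_pow, one_pow]
    show ((d⁻¹ : Fˣ) : F) ^ 3 • 1 * (x : Matrix (Fin n) (Fin n) F) ^ 3 = 1
    rw [← Matrix.SpecialLinearGroup.coe_pow, hz, smul_mul_assoc, one_mul, smul_smul,
      ← Units.val_pow_eq_pow_val, inv_pow, hd]
    simp [hz0]
  have hnil := (pow_char_eq_one_iff 3 y 1).1 hy3
  have hU : Unip y := ⟨_, hnil⟩
  have hparts : ∀ a ∈ (partition y hU).parts, a ≤ 3 := (partition_pow_eq_zero hU 3).1 (by simpa using hnil)
  obtain ⟨M₀, hM₀, hM₀p⟩ := exists_unip (F := ↥F₀) (partition y hU)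
  have hM : IsConj y (Matrix.GeneralLinearGroup.map F₀.subtype M₀) :=
    (isConj_iff_partition hU (unip_map _ hM₀)).2 (by rw [partition_map _ hM₀, hM₀p])
  obtain ⟨c, hc⟩ := isConj_iff.1 hM
  obtain ⟨C, D, hC, hdet⟩ :=
    det_fill hn F₀ k hqk hU hparts hcase (Matrix.GeneralLinearGroup.det c)
  set R : GL (Fin n) F := C * c⁻¹ * Matrix.GeneralLinearGroup.map F₀.subtype D with hR
  have hRdet : Matrix.GeneralLinearGroup.det R = 1 := by
    rw [hR, map_mul, map_mul, map_inv, mul_right_comm, hdet, mul_inv_cancel]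
  let P : Matrix.SpecialLinearGroup (Fin n) F :=
    ⟨(R : Matrix (Fin n) (Fin n) F), by
      rw [← Matrix.GeneralLinearGroup.val_det_apply, hRdet, Units.val_one]⟩
  have hPR : Matrix.SpecialLinearGroup.toGL P = R := Units.ext rfl
  refine ⟨P, Subgroup.mem_comap.2 ((mem_subfield_iff F₀ _).2 ⟨D⁻¹ * M₀ * D, d, ?_⟩)⟩
  rw [map_mul, map_mul, map_inv, hPR, ← hG, map_mul, map_mul, map_inv]
  have hGy : G = y * scal d := by
    rw [hy, mul_assoc, ← scal_comm d G, ← mul_assoc, scal, scal, ← map_mul, inv_mul_cancel, map_one, one_mul]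
  have hCy : C⁻¹ * y * C = y := by rw [mul_assoc, ← hC, inv_mul_cancel_left]
  calc R⁻¹ * G * R = R⁻¹ * y * R * scal d := by
        conv_lhs => rw [hGy]
        simp only [mul_assoc, scal_comm d R]
    _ = (Matrix.GeneralLinearGroup.map F₀.subtype D)⁻¹ * (c * (C⁻¹ * y * C) * c⁻¹) *
          Matrix.GeneralLinearGroup.map F₀.subtype D * scal d := by
        rw [hR]; group
    _ = _ := by rw [hCy, hc]

/-- necessity for quadratic extensions -/
theorem exists_not_conj_into [CharP F 3] (hn : 0 < n) (he : Even n) (F₀ : Subfield F)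
    (hqk : Fintype.card F = Nat.card ↥F₀ ^ 2) :
    ∃ x : Matrix.SpecialLinearGroup (Fin n) F,
      (∃ z : F, ((x ^ 3 : Matrix.SpecialLinearGroup (Fin n) F) : Matrix (Fin n) (Fin n) F) = z • 1) ∧
      (∀ z : F, (x : Matrix (Fin n) (Fin n) F) ≠ z • 1) ∧
      ∀ P : Matrix.SpecialLinearGroup (Fin n) F, P⁻¹ * x * P ∉
        (Cfsg.Geo.subfieldSubgroup F₀ 1).comap
          (Matrix.SpecialLinearGroup.toGL : Matrix.SpecialLinearGroup (Fin n) F →* GL (Fin n) F) := by
  classical
  haveI : Fact (Nat.Prime 3) := ⟨Nat.prime_three⟩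
  haveI := Fintype.ofFinite ↥F₀
  haveI : CharP ↥F₀ 3 := F₀.subtype.charP Subtype.val_injective 3
  obtain ⟨m, hm⟩ := he
  let μ : Nat.Partition n := ⟨Multiset.replicate m 2,
    fun {a} ha => by rw [Multiset.eq_of_mem_replicate ha]; omega, by simp; omega⟩
  obtain ⟨M₀, hM₀, hM₀p⟩ := exists_unip (F := ↥F₀) μ
  set φ := Matrix.GeneralLinearGroup.map (n := Fin n) (F₀.subtype : ↥F₀ →+* F) with hφ
  set M := φ M₀ with hMd
  have hM : Unip M := unip_map _ hM₀
  have hMp : partition M hM = μ := by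
    rw [show partition M hM = partition M₀ hM₀ from partition_map _ hM₀ hM, hM₀p]
  have hM3 : M ^ 3 = 1 := by
    have := (pow_char_eq_one_iff 3 M 1).2 ((partition_pow_eq_zero hM (3 ^ 1)).2 fun a ha => by
      rw [hMp] at ha
      rw [Multiset.eq_of_mem_replicate ha]; norm_num)
    rwa [pow_one] at this
  have hMne : M ≠ 1 := fun h => by
    have h1 : nil M ^ 1 = 0 := by rw [pow_one, nil_eq_zero]; exact h
    have := (partition_pow_eq_zero hM 1).1 h1 2 (by
      rw [hMp]; exact Multiset.mem_replicate.2 ⟨by omega, rfl⟩)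
    omega
  have hchar : ringChar F ≠ 2 := by rw [ringChar.eq F 3]; omega
  obtain ⟨ε, hε⟩ := FiniteField.exists_nonsquare hchar
  have hε0 : ε ≠ 0 := by rintro rfl; exact hε ⟨0, by simp⟩
  obtain ⟨T, hT⟩ := exists_det hn (Units.mk0 ε hε0)
  have hT3 : (T⁻¹ * M * T) ^ 3 = 1 := by
    have := conj_pow (i := 3) (a := T⁻¹) (b := M)
    rw [inv_inv] at this
    rw [this, hM3, mul_one, inv_mul_cancel]
  have hdet : ((T⁻¹ * M * T : GL (Fin n) F) : Matrix (Fin n) (Fin n) F).det = 1 := by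
    have h1 := congrArg (fun g : GL (Fin n) F => (g : Matrix (Fin n) (Fin n) F).det) hT3
    simp only [Units.val_pow_eq_pow_val, Matrix.det_pow, Units.val_one, Matrix.det_one] at h1
    have h2 : (((T⁻¹ * M * T : GL (Fin n) F) : Matrix (Fin n) (Fin n) F).det - 1) ^ 3 = 0 := by
      rw [sub_pow_char, h1, one_pow, sub_self]
    exact sub_eq_zero.1 (eq_zero_of_pow_eq_zero h2)
  let x : Matrix.SpecialLinearGroup (Fin n) F := ⟨_, hdet⟩
  have hxGL : Matrix.SpecialLinearGroup.toGL x = T⁻¹ * M * T := Units.ext rfl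
  refine ⟨x, ⟨1, ?_⟩, fun z hz => ?_, fun P hP => ?_⟩
  · rw [Matrix.SpecialLinearGroup.coe_pow, one_smul]
    show ((T⁻¹ * M * T : GL (Fin n) F) : Matrix (Fin n) (Fin n) F) ^ 3 = 1
    rw [← Units.val_pow_eq_pow_val, hT3, Units.val_one]
  · change ((T⁻¹ * M * T : GL (Fin n) F) : Matrix (Fin n) (Fin n) F) = z • 1 at hz
    have hz1 : z = 1 := by
      have h1 := congrArg (fun g : GL (Fin n) F => (g : Matrix (Fin n) (Fin n) F) ⟨0, hn⟩ ⟨0, hn⟩) hT3
      simp only [Units.val_pow_eq_pow_val, hz, _root_.smul_pow, one_pow, Units.val_one] at h1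
      simp at h1
      exact sub_eq_zero.1 (eq_zero_of_pow_eq_zero (n := 3) (by rw [sub_pow_char, h1, one_pow, sub_self]))
    have h1 : T⁻¹ * M * T = 1 := Units.ext (by rw [hz, hz1, one_smul]; rfl)
    refine hMne ?_
    calc M = T * (T⁻¹ * M * T) * T⁻¹ := by group
      _ = 1 := by rw [h1, mul_one, mul_inv_cancel]
  · rw [Subgroup.mem_comap, map_mul, map_mul, map_inv, hxGL, mem_subfield_iff] at hP
    obtain ⟨h₁, c, hc⟩ := hP
    set R : GL (Fin n) F := T * Matrix.SpecialLinearGroup.toGL P with hR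
    have hc' : R⁻¹ * M * R = φ h₁ * scal c := by rw [← hc, hR]; group
    have hc3 : φ (h₁ ^ 3) * scal (c ^ 3) = 1 := by
      have h3 : scal (n := n) (c ^ 3) = scal c ^ 3 := map_pow _ _ _
      rw [map_pow, h3, ← Commute.mul_pow (scal_comm c _).symm, ← hc']
      have := conj_pow (i := 3) (a := R⁻¹) (b := M)
      rw [inv_inv] at this
      rw [this, hM3, mul_one, inv_mul_cancel]
    have hcF : (c : F) ∈ F₀ := by
      have h1 : φ (h₁ ^ 3) = scal (c ^ 3)⁻¹ := by
        rw [scal, map_inv]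
        exact eq_inv_of_mul_eq_one_left hc3
      have h2 : ((((h₁ ^ 3 : GL (Fin n) ↥F₀) : Matrix (Fin n) (Fin n) ↥F₀) ⟨0, hn⟩ ⟨0, hn⟩ : ↥F₀) : F) =
          (((c ^ 3)⁻¹ : Fˣ) : F) := by
        have := congrArg (fun g : GL (Fin n) F => (g : Matrix (Fin n) (Fin n) F) ⟨0, hn⟩ ⟨0, hn⟩) h1
        rw [scal_val] at this
        change ((((h₁ ^ 3 : GL (Fin n) ↥F₀) : Matrix (Fin n) (Fin n) ↥F₀) ⟨0, hn⟩ ⟨0, hn⟩ : ↥F₀) : F) = _ at this
        simpa using this
      obtain ⟨w, hw⟩ := surjective_frobenius ↥F₀ 3 (((h₁ ^ 3 : GL (Fin n) ↥F₀) : Matrix (Fin n) (Fin n) ↥F₀) ⟨0, hn⟩ ⟨0, hn⟩)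
      rw [← hw, frobenius_def] at h2
      have h4 : ((w : F) * (c : F) - 1) ^ 3 = 0 := by
        rw [sub_pow_char, mul_pow, one_pow]
        have : ((w : F)) ^ 3 = (((c ^ 3)⁻¹ : Fˣ) : F) := by simpa using h2
        rw [this, Units.val_inv_eq_inv_val, Units.val_pow_eq_pow_val,
          inv_mul_cancel₀ (pow_ne_zero _ c.ne_zero), sub_self]
      have h5 : (c : F) = (w : F)⁻¹ :=
        eq_inv_of_mul_eq_one_right (sub_eq_zero.1 (eq_zero_of_pow_eq_zero h4))
      rw [h5]
      exact F₀.inv_mem w.2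
    let u : (↥F₀)ˣ := Units.mk0 ⟨(c : F), hcF⟩ fun h => c.ne_zero (congrArg Subtype.val h)
    set M₁ : GL (Fin n) ↥F₀ := h₁ * scal u with hM₁
    have hM₁map : φ M₁ = R⁻¹ * M * R := by
      rw [hc', hM₁, map_mul]
      congr 1
      refine Units.ext (Matrix.ext fun i j => ?_)
      rw [hφ, Matrix.GeneralLinearGroup.map_apply, scal_val, scal_val]
      rcases eq_or_ne i j with rfl | hij
      · simp [u]
      · simp [hij]
    have hM₁3 : M₁ ^ 3 ^ 1 = 1 := by
      refine Units.ext (Matrix.map_injective (f := F₀.subtype) Subtype.val_injective ?_)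
      have h1 : φ (M₁ ^ 3 ^ 1) = φ 1 := by
        rw [map_pow, hM₁map, map_one, pow_one]
        have := conj_pow (i := 3) (a := R⁻¹) (b := M)
        rw [inv_inv] at this
        rw [this, hM3, mul_one, inv_mul_cancel]
      exact congrArg Units.val h1
    have hM₁U : Unip M₁ := ⟨_, (pow_char_eq_one_iff 3 M₁ 1).1 hM₁3⟩
    have hp1 : partition M₁ hM₁U = μ := by
      have h1 : partition (φ M₁) (unip_map _ hM₁U) = partition M hM :=
        (isConj_iff_partition _ hM).1 (isConj_iff.2 ⟨R, by rw [hM₁map]; group⟩)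
      rw [← partition_map F₀.subtype hM₁U (unip_map _ hM₁U), ← hMp]
      exact h1
    obtain ⟨Q, hQ⟩ := isConj_iff.1 ((isConj_iff_partition hM₁U hM₀).2 (by rw [hp1, hM₀p]))
    set S : GL (Fin n) F := φ Q * R⁻¹ with hS
    have hSM : S * M = M * S := by
      have h1 : φ Q * φ M₁ * (φ Q)⁻¹ = M := by rw [← map_inv, ← map_mul, ← map_mul, hQ]
      rw [hM₁map] at h1
      rw [hS]
      calc φ Q * R⁻¹ * M = φ Q * (R⁻¹ * M * R) * (φ Q)⁻¹ * (φ Q * R⁻¹) := by group
        _ = _ := by rw [h1]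
    obtain ⟨w, hw⟩ := cent_det_square hM (fun a ha => by
      rw [hMp] at ha; exact Multiset.eq_of_mem_replicate ha) hSM
    -- every element of the subfield is a square
    obtain ⟨a, ha⟩ : ∃ a : F, ((Q : Matrix (Fin n) (Fin n) ↥F₀).det : F) = a * a := by
      set e := (Q : Matrix (Fin n) (Fin n) ↥F₀).det with he'
      have he0 : (e : F) ≠ 0 := fun h =>
        Matrix.GeneralLinearGroup.det_ne_zero Q (Subtype.ext h)
      obtain ⟨a, ha⟩ : IsSquare (e : F) := by
        rw [FiniteField.isSquare_iff hchar he0, hqk, Nat.card_eq_fintype_card]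
        obtain ⟨b, hb⟩ : ∃ b, Fintype.card ↥F₀ = 2 * b + 1 := by
          refine Nat.odd_iff.2 (FiniteField.odd_card_of_char_ne_two ?_)
          rw [ringChar.eq ↥F₀ 3]; omega
        have h1 : e ^ (2 * b) = 1 := by
          have := FiniteField.pow_card_sub_one_eq_one e (Matrix.GeneralLinearGroup.det_ne_zero Q)
          rwa [hb, Nat.add_sub_cancel] at this
        have h2 : (Fintype.card ↥F₀ ^ 2) / 2 = 2 * b * (b + 1) := by
          rw [hb, show (2 * b + 1) ^ 2 = 2 * (2 * b * (b + 1)) + 1 by ring]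
          omega
        rw [h2, pow_mul, ← SubmonoidClass.coe_pow, h1]
        simp
      exact ⟨a, ha⟩
    have hdS : (S : Matrix (Fin n) (Fin n) F).det * ε = ((Q : Matrix (Fin n) (Fin n) ↥F₀).det : F) := by
      have h1 : S * R = φ Q := by rw [hS, inv_mul_cancel_right]
      have h2 := congrArg (fun g : GL (Fin n) F => (g : Matrix (Fin n) (Fin n) F).det) h1
      simp only [Units.val_mul, Matrix.det_mul, hR] at h2
      have hT' : (T : Matrix (Fin n) (Fin n) F).det = ε := by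
        have := congrArg Units.val hT
        simpa [Matrix.GeneralLinearGroup.val_det_apply] using this
      rw [hT', show ((Matrix.SpecialLinearGroup.toGL P : GL (Fin n) F) : Matrix (Fin n) (Fin n) F).det = 1
        from P.2, mul_one] at h2
      rw [h2]
      exact (RingHom.map_det F₀.subtype _).symm
    have hw0 : w ≠ 0 := by
      rintro rfl
      rw [mul_zero] at hw
      exact Matrix.GeneralLinearGroup.det_ne_zero S hw
    exact hε ⟨a / w, by
      rw [hw, ha] at hdS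
      field_simp
      linear_combination hdS⟩

end Cfsg.Agent.Forms.Elusive
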