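import Mathlib
import Cfsg.Agent.Lib.Forms.Elusive.LagrangianPairs
import Cfsg.Agent.Lib.Forms.Elusive.Semisimple
import Cfsg.Agent.Lib.Forms.Elusive.Models

/-!
# Elements of odd prime order fixing no pair of complementary Lagrangians
-/

set_option autoImplicit false
set_option linter.unusedSectionVars false

open Module Matrix

namespace Cfsg.Agent.Forms.Elusive

variable {F : Type*} [Field F] [Fintype F]

/-- the order of `q` modulo `r` is even and at most `2d` -/
theorem order_of_pairs (p : ℕ) [Fact p.Prime] [CharP F p] {r : ℕ} [hr : Fact r.Prime] (hrp : r ≠ p)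
    (hr2 : r ≠ 2) (hodd : Odd (Fintype.card F)) {d : ℕ} (hd : 0 < d)
    (h : r ∣ Nat.card (LPairs d F) / 2) :
    ∃ e, 0 < e ∧ e ≤ d ∧ orderOf ((Fintype.card F : ℕ) : ZMod r) = 2 * e := by
  obtain ⟨k, hk⟩ := natCard_pairs (F := F) (d := d)
  set q := Fintype.card F
  have heven : 2 ∣ Nat.card (LPairs d F) := by
    have h2 : 2 ∣ Nat.card (LPairs d F) * q ^ k := by
      rw [hk]
      refine Dvd.dvd.mul_left (dvd_trans ?_ (Finset.dvd_prod_of_mem _ (Finset.mem_range.2 hd))) _
      exact even_iff_two_dvd.1 ((hodd.pow).add_odd odd_one)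
    exact ((Nat.coprime_two_left.2 hodd.pow).dvd_of_dvd_mul_right h2)
  have hrd : r ∣ q ^ (d ^ 2) * ∏ i ∈ Finset.range d, (q ^ (i + 1) + 1) := by
    rw [← hk, ← Nat.div_mul_cancel heven]
    exact (h.mul_right 2).mul_right _
  have hrq : ¬ r ∣ q := fun hd => hrp ((charP_eq_of_cast_eq_zero (F := F) p r).1
    ((ZMod.natCast_eq_zero_iff _ _).2 hd))
  rcases hr.out.dvd_mul.1 hrd with h1 | h1
  · exact absurd (hr.out.dvd_of_dvd_pow h1) hrq
  obtain ⟨i, hi, hri⟩ := (hr.out.prime.dvd_finsetProd_iff _).1 h1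
  have hz : ((q : ZMod r)) ^ (i + 1) = -1 := by
    rw [eq_neg_iff_add_eq_zero, ← Nat.cast_pow, ← Nat.cast_one (R := ZMod r), ← Nat.cast_add,
      ZMod.natCast_eq_zero_iff]
    exact hri
  have hdvd : orderOf (q : ZMod r) ∣ 2 * (i + 1) :=
    orderOf_dvd_of_pow_eq_one (by rw [mul_comm, pow_mul, hz, neg_one_sq])
  have hndvd : ¬ orderOf (q : ZMod r) ∣ i + 1 := fun hd => by
    rw [orderOf_dvd_iff_pow_eq_one, hz] at hd
    haveI : Fact (2 < r) := ⟨lt_of_le_of_ne hr.out.two_le (Ne.symm hr2)⟩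
    exact ZMod.neg_one_ne_one hd
  obtain ⟨e, he⟩ : 2 ∣ orderOf (q : ZMod r) := by
    by_contra hne
    exact hndvd ((Nat.prime_two.coprime_iff_not_dvd.2 hne).symm.dvd_of_dvd_mul_left hdvd)
  rw [he] at hdvd
  have hed := Nat.dvd_of_mul_dvd_mul_left two_pos hdvd
  exact ⟨e, Nat.pos_of_dvd_of_pos hed (Nat.succ_pos i),
    (Nat.le_of_dvd (Nat.succ_pos i) hed).trans (Finset.mem_range.1 hi), he⟩

/-- an element of order `r` fixing a subspace of codimension at most the order of `q` -/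
theorem exists_small_element (p : ℕ) [Fact p.Prime] [CharP F p] {r : ℕ} [hr : Fact r.Prime]
    (hrp : r ≠ p) {d e : ℕ} (he0 : 0 < e) (hed : e ≤ d)
    (he : orderOf ((Fintype.card F : ℕ) : ZMod r) = 2 * e) :
    ∃ x : symplecticGroup (Fin d) F, orderOf x = r ∧
      2 * d ≤ finrank F (fixSp (Matrix.toLin' (x : Matrix (Fin d ⊕ Fin d) (Fin d ⊕ Fin d) F))) + 2 * e := by
  classical
  set q := Fintype.card F
  have hdvd : r ∣ q ^ (2 * e) - 1 := by
    rw [← Nat.modEq_iff_dvd' (Nat.one_le_pow _ _ Fintype.card_pos), ← ZMod.natCast_eq_natCast_iff,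
      Nat.cast_pow, Nat.cast_one, ← he]
    exact (pow_orderOf_eq_one _).symm
  have hc : r ∣ Nat.card (Classical.Symplectic.stabLow (d - e) : Subgroup (symplecticGroup (Fin d) F)) := by
    rw [Classical.Symplectic.natCard_stabLow_step (show d - e < d by omega), show d - (d - e) = e by omega]
    exact (hdvd.mul_right _).mul_right _
  obtain ⟨⟨x, hx⟩, hxo⟩ := exists_prime_orderOf_dvd_card' r hc
  refine ⟨x, by rw [← hxo, Subgroup.orderOf_mk], ?_⟩
  set k := d - e with hk
  let φ : Fin k ⊕ Fin k → Fin d ⊕ Fin d := Sum.map (Fin.castLE (by omega)) (Fin.castLE (by omega))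
  let v : Fin k ⊕ Fin k → (Fin d ⊕ Fin d → F) := (Pi.basisFun F (Fin d ⊕ Fin d)) ∘ φ
  have hφ : Function.Injective φ := Sum.map_injective.2 ⟨Fin.castLE_injective _, Fin.castLE_injective _⟩
  have hli : LinearIndependent F v := (Pi.basisFun F (Fin d ⊕ Fin d)).linearIndependent.comp φ hφ
  have hle : Submodule.span F (Set.range v) ≤
      fixSp (Matrix.toLin' (x : Matrix (Fin d ⊕ Fin d) (Fin d ⊕ Fin d) F)) := by
    rw [Submodule.span_le]
    rintro _ ⟨i, rfl⟩
    refine mem_fixSp.2 ?_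
    rw [Matrix.toLin'_apply]
    rcases i with i | i
    · simpa [v, φ] using (hx (Fin.castLE (by omega) i) (by simp)).1
    · simpa [v, φ] using (hx (Fin.castLE (by omega) i) (by simp)).2
  have h1 := Submodule.finrank_mono hle
  rw [finrank_span_eq_card hli, Fintype.card_sum, Fintype.card_fin] at h1
  omega

/-- such an element fixes no pair -/
theorem no_pair {V : Type*} [AddCommGroup V] [Module F V] [FiniteDimensional F V]
    {B : LinearMap.BilinForm F V} (hnd : B.Nondegenerate) {f : V →ₗ[F] V}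
    (hiso : ∀ u v, B (f u) (f v) = B u v) {r : ℕ} [hr : Fact r.Prime] (hr0 : (r : F) ≠ 0) (hodd : Odd r)
    (hf : ∀ v, (f ^ r) v = v) (hne : f ≠ 1)
    (hfix : finrank F V ≤ finrank F (fixSp f) + orderOf ((Fintype.card F : ℕ) : ZMod r))
    {U W : Submodule F V} (hc : IsCompl U W) (hU : IsoOn B U) (hW : IsoOn B W)
    (h : (U.map f = U ∧ W.map f = W) ∨ (U.map f = W ∧ W.map f = U)) : False := by
  have hfr : f ^ r = 1 := LinearMap.ext fun v => by rw [hf]; rfl
  have hinv : U.map f = U ∧ W.map f = W := by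
    rcases h with h | ⟨h1, h2⟩
    · exact h
    exfalso
    obtain ⟨m, rfl⟩ := hodd
    have hev : ∀ j, U.map (f ^ (2 * j)) = U := fun j => by
      induction j with
      | zero => rw [Nat.mul_zero, pow_zero, Module.End.one_eq_id, Submodule.map_id]
      | succ j ih =>
        rw [Nat.mul_succ, show 2 * j + 2 = 1 + (1 + 2 * j) by ring, pow_add, pow_add, pow_one,
          Module.End.mul_eq_comp, Submodule.map_comp, Module.End.mul_eq_comp, Submodule.map_comp, ih, h1, h2]
    have e : U = W := by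
      have := congrArg (fun g : V →ₗ[F] V => U.map g) hfr
      simp only [show 2 * m + 1 = 1 + 2 * m by ring, pow_add, pow_one, Module.End.mul_eq_comp,
        Submodule.map_comp, hev, h1, Module.End.one_eq_id, Submodule.map_id] at this
      exact this.symm
    subst e
    refine hne (LinearMap.ext fun v => ?_)
    have hbot : (⊤ : Submodule F V) = ⊥ := by
      rw [← hc.sup_eq_top, sup_idem]
      simpa using hc.disjoint
    have hv : ∀ w : V, w = 0 := fun w => (Submodule.mem_bot F).1 (hbot ▸ Submodule.mem_top)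
    rw [hv (f v), hv ((1 : V →ₗ[F] V) v)]
  obtain ⟨hUf, hWf⟩ := hinv
  obtain ⟨DU, hDU, -, hdU, hhU, hsU⟩ := exists_free_part hr0 hf (W := U) hUf.le
  obtain ⟨DW, hDW, -, hdW, hhW, hsW⟩ := exists_free_part hr0 hf (W := W) hWf.le
  obtain ⟨a, ha⟩ := hhU.dvd DU hhU.inv le_rfl
  obtain ⟨b, hb⟩ := hhW.dvd DW hhW.inv le_rfl
  have hsplit : fixSp f ≤ (fixSp f ⊓ U) ⊔ (fixSp f ⊓ W) := fun v hv => by
    obtain ⟨u, hu, w, hw, rfl⟩ := Submodule.mem_sup.1 (hc.sup_eq_top.symm ▸ Submodule.mem_top : v ∈ U ⊔ W)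
    rw [mem_fixSp, map_add] at hv
    have e1 : f u - u = w - f w := by rw [sub_eq_sub_iff_add_eq_add, hv, add_comm u w]
    have h0 : f u - u = 0 := Submodule.disjoint_def.1 hc.disjoint _
      (sub_mem (hUf.le ⟨u, hu, rfl⟩) hu) (e1 ▸ sub_mem hw (hWf.le ⟨w, hw, rfl⟩))
    rw [h0, eq_comm, sub_eq_zero] at e1
    exact Submodule.add_mem_sup ⟨mem_fixSp.2 (sub_eq_zero.1 h0), hu⟩ ⟨mem_fixSp.2 e1.symm, hw⟩
  have h1 := (Submodule.finrank_mono hsplit).trans (Submodule.finrank_add_le_finrank_add_finrank _ _)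
  have h2 := Submodule.finrank_add_eq_of_isCompl hc
  have h3 : finrank F DU = 0 ∨ finrank F DW = 0 := by
    rcases Nat.eq_zero_or_pos a with rfl | ha0
    · exact Or.inl (by rw [ha, mul_zero])
    rcases Nat.eq_zero_or_pos b with rfl | hb0
    · exact Or.inr (by rw [hb, mul_zero])
    have := Nat.le_mul_of_pos_right (orderOf ((Fintype.card F : ℕ) : ZMod r)) ha0
    have := Nat.le_mul_of_pos_right (orderOf ((Fintype.card F : ℕ) : ZMod r)) hb0
    omega
  have hid : ∀ S : Submodule F V, finrank F ↥(fixSp f ⊓ S) = finrank F S → ∀ u ∈ S, f u = u := by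
    intro S hS u hu
    have e := Submodule.eq_of_le_of_finrank_le (inf_le_right : fixSp f ⊓ S ≤ S) hS.ge
    rw [← e] at hu
    exact mem_fixSp.1 hu.1
  rcases h3 with h3 | h3
  · exact hne (LinearMap.ext fun v => eq_id_of_pair hnd hW hc f hiso (hid U (by omega)) hWf.le v)
  · exact hne (LinearMap.ext fun v => eq_id_of_pair hnd hU hc.symm f hiso (hid W (by omega)) hUf.le v)

end Cfsg.Agent.Forms.Elusive
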