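import Mathlib
import Cfsg.Agent.Lib.Classical.JordanFormsType
import Cfsg.Agent.Lib.Forms.Elusive.SympPieces
import Cfsg.Agent.Lib.Forms.Elusive.Unipotent

/-!
# Invariant non-degenerate subspaces of unipotent symplectic maps
-/

set_option autoImplicit false
set_option linter.unusedSectionVars false
set_option linter.unusedVariables false

namespace Cfsg.Agent.Forms.Elusive.SympUnipotent

open Module
open Cfsg.Agent.Classical
open Cfsg.Agent.Classical.JordanChains (Idx Chains ChainsOn parts)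

variable {F : Type*} [Field F] {V : Type*} [AddCommGroup V] [Module F V] [FiniteDimensional F V]
variable {B : LinearMap.BilinForm F V} {N : V →ₗ[F] V}

theorem span_eq {W : Submodule F V} {t : ℕ} {d : Fin t → ℕ} {v : Fin t → V} (h : ChainsOn N W d v)
    (hW : W.map N ≤ W) : Submodule.span F (Set.range fun i : Idx d => (N ^ (i.2 : ℕ)) (v i.1)) = W :=
  le_antisymm (Submodule.span_le.2 (by
    rintro _ ⟨i, rfl⟩; exact JordanChains.pow_mem (fun x hx => hW ⟨x, hx, rfl⟩) (h.mem _) _)) h.span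

theorem finrank_of_chainsOn {W : Submodule F V} {t : ℕ} {d : Fin t → ℕ} {v : Fin t → V} (h : ChainsOn N W d v)
    (hW : W.map N ≤ W) : finrank F W = (parts d).sum := by
  rw [← span_eq h hW, finrank_span_eq_card h.li, Fintype.card_sigma, parts, Finset.sum_map_val]
  simp

theorem restrict_pow {W : Submodule F V} (hW : ∀ x ∈ W, N x ∈ W) :
    ∀ (j : ℕ) (w : W), ((((N.restrict hW) ^ j) w : W) : V) = (N ^ j) (w : V) := fun j => by
  induction j with
  | zero => simp
  | succ j ih => intro w; rw [pow_succ', pow_succ', Module.End.mul_apply, Module.End.mul_apply, ← ih]; rfl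

/-- chains on an invariant subspace as chains of the restriction -/
theorem chains_restrict {W : Submodule F V} (hW : ∀ x ∈ W, N x ∈ W) {t : ℕ} {d : Fin t → ℕ} {v : Fin t → V}
    (h : ChainsOn N W d v) : Chains (N.restrict hW) d fun k => (⟨v k, h.mem k⟩ : W) := by
  refine ⟨h.pos, fun _ => trivial, fun k => Subtype.ext (by rw [restrict_pow hW]; exact h.kill k), ?_, ?_⟩
  · refine LinearIndependent.of_comp W.subtype ?_
    simp only [Function.comp_def, Submodule.subtype_apply, restrict_pow hW]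
    exact h.li
  · intro w _
    have hw : (w : V) ∈ Submodule.span F (Set.range fun i : Idx d => (N ^ (i.2 : ℕ)) (v i.1)) := h.span w.2
    rw [show (fun i : Idx d => (N ^ (i.2 : ℕ)) (v i.1)) = W.subtype ∘ fun i : Idx d =>
        ((N.restrict hW) ^ (i.2 : ℕ)) (⟨v i.1, h.mem i.1⟩ : W) from funext fun i => (restrict_pow hW (i.2 : ℕ) (⟨v i.1, h.mem i.1⟩ : W)).symm,
      Set.range_comp, Submodule.span_image] at hw
    obtain ⟨y, hy, hyw⟩ := hw
    rwa [Subtype.ext hyw] at hy

theorem parts_unique {W : Submodule F V} (hW : ∀ x ∈ W, N x ∈ W) {t t' : ℕ} {d : Fin t → ℕ} {v : Fin t → V}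
    {d' : Fin t' → ℕ} {v' : Fin t' → V} (h : ChainsOn N W d v) (h' : ChainsOn N W d' v') : parts d = parts d' :=
  (chains_restrict hW h).parts_eq (chains_restrict hW h')

/-- chains of a direct sum -/
theorem chainsOn_sup {U W : Submodule F V} (hd : Disjoint U W) (hU : U.map N ≤ U) (hW : W.map N ≤ W)
    {a b : ℕ} {d₁ : Fin a → ℕ} {v₁ : Fin a → V} (h₁ : ChainsOn N U d₁ v₁)
    {d₂ : Fin b → ℕ} {v₂ : Fin b → V} (h₂ : ChainsOn N W d₂ v₂) :
    ∃ (t : ℕ) (d : Fin t → ℕ) (v : Fin t → V), ChainsOn N (U ⊔ W) d v ∧ parts d = parts d₁ + parts d₂ := by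
  classical
  let d₃ : Fin (a + b) → ℕ := Fin.addCases d₁ d₂
  let v₃ : Fin (a + b) → V := Fin.addCases v₁ v₂
  let φ : Idx d₁ ⊕ Idx d₂ → Idx d₃ := Sum.elim
    (fun i => ⟨Fin.castAdd b i.1, Fin.cast (by simp [d₃]) i.2⟩)
    (fun i => ⟨Fin.natAdd a i.1, Fin.cast (by simp [d₃]) i.2⟩)
  have hφ : Function.Surjective φ := by
    rintro ⟨k, j⟩
    revert j
    refine Fin.addCases (fun k => ?_) (fun k => ?_) k
    · exact fun j => ⟨Sum.inl ⟨k, Fin.cast (by simp [d₃]) j⟩, rfl⟩
    · exact fun j => ⟨Sum.inr ⟨k, Fin.cast (by simp [d₃]) j⟩, rfl⟩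
  have hcard : Fintype.card (Idx d₁ ⊕ Idx d₂) = Fintype.card (Idx d₃) := by
    simp [Fintype.card_sigma, Fin.sum_univ_add, d₃]
  let e := Equiv.ofBijective φ ((Fintype.bijective_iff_surjective_and_card φ).2 ⟨hφ, hcard⟩)
  have hcomp : (fun i : Idx d₃ => (N ^ (i.2 : ℕ)) (v₃ i.1)) ∘ φ =
      Sum.elim (fun i : Idx d₁ => (N ^ (i.2 : ℕ)) (v₁ i.1)) (fun i : Idx d₂ => (N ^ (i.2 : ℕ)) (v₂ i.1)) := by
    funext i
    rcases i with i | i <;> simp [φ, v₃]
  refine ⟨a + b, d₃, v₃, ⟨fun k => ?_, fun k => ?_, fun k => ?_, ?_, ?_⟩, ?_⟩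
  · refine Fin.addCases (fun k => ?_) (fun k => ?_) k
    · simpa [d₃] using h₁.pos k
    · simpa [d₃] using h₂.pos k
  · refine Fin.addCases (fun k => ?_) (fun k => ?_) k
    · simpa [v₃] using Submodule.mem_sup_left (h₁.mem k)
    · simpa [v₃] using Submodule.mem_sup_right (h₂.mem k)
  · refine Fin.addCases (fun k => ?_) (fun k => ?_) k
    · simpa [d₃, v₃] using h₁.kill k
    · simpa [d₃, v₃] using h₂.kill k
  · rw [← linearIndependent_equiv e]
    show LinearIndependent F ((fun i : Idx d₃ => (N ^ (i.2 : ℕ)) (v₃ i.1)) ∘ φ)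
    rw [hcomp]
    exact h₁.li.sum_type h₂.li (by rw [span_eq h₁ hU, span_eq h₂ hW]; exact hd)
  · rw [← hφ.range_comp, hcomp, Set.Sum.elim_range, Submodule.span_union, span_eq h₁ hU, span_eq h₂ hW]
  · ext x
    rw [Multiset.count_add, JordanChains.count_parts, JordanChains.count_parts, JordanChains.count_parts,
      Finset.card_filter, Finset.card_filter, Finset.card_filter, Fin.sum_univ_add]
    simp [d₃]

/-- a family of chains of one length with invertible top pairing -/
theorem exists_block (halt : B.IsAlt) (hB : JordanForms.Inv (σ := RingHom.id F) B N) {W : Submodule F V}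
    (hW : W.map N ≤ W) {i k : ℕ} (hi : 1 ≤ i) (v : Fin k → V) (hv : ∀ l, v l ∈ W) (hkill : ∀ l, (N ^ i) (v l) = 0)
    (hT : ∀ c : Fin k → F, (∀ l', ∑ l, c l * B (v l) ((N ^ (i - 1)) (v l')) = 0) → c = 0) :
    ∃ P : Submodule F V, P ≤ W ∧ P.map N ≤ P ∧ NdOn B P ∧
      ∃ (d : Fin k → ℕ) (v' : Fin k → V), ChainsOn N P d v' ∧ parts d = Multiset.replicate k i := by
  classical
  let d : Fin k → ℕ := fun _ => i
  let g : Idx d → V := fun a => (N ^ (a.2 : ℕ)) (v a.1)
  set P := Submodule.span F (Set.range g) with hP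
  have hgP : ∀ (l : Fin k) (j : ℕ), (N ^ j) (v l) ∈ P := fun l j => by
    by_cases hj : j < i
    · exact Submodule.subset_span ⟨⟨l, ⟨j, hj⟩⟩, rfl⟩
    · rw [JordanChains.pow_eq_zero_of_le (hkill l) (by omega)]; exact P.zero_mem
  have hPW : P ≤ W := Submodule.span_le.2 (by
    rintro _ ⟨a, rfl⟩; exact JordanChains.pow_mem (fun x hx => hW ⟨x, hx, rfl⟩) (hv _) _)
  have hPN : P.map N ≤ P := by
    rw [hP, Submodule.map_span, Submodule.span_le]
    rintro _ ⟨_, ⟨a, rfl⟩, rfl⟩
    show N ((N ^ (a.2 : ℕ)) (v a.1)) ∈ P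
    rw [← Module.End.mul_apply, ← pow_succ']
    exact hgP _ _
  have key : ∀ c : Idx d → F, (∀ u ∈ P, B (∑ a, c a • g a) u = 0) → c = 0 := by
    intro c hc
    by_contra h0
    obtain ⟨a₀, ha₀⟩ : ∃ a, c a ≠ 0 := Function.ne_iff.1 h0
    have hex : ∃ j, ∃ (l : Fin k) (hj : j < i), c ⟨l, ⟨j, hj⟩⟩ ≠ 0 := ⟨a₀.2, a₀.1, a₀.2.2, ha₀⟩
    set j₀ := Nat.find hex with hj₀d
    obtain ⟨l₁, hj₀, hne⟩ := Nat.find_spec hex
    have hmin : ∀ (l : Fin k) (j : Fin i), (j : ℕ) < j₀ → c ⟨l, j⟩ = 0 := fun l j hj => by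
      by_contra h
      exact Nat.find_min hex hj ⟨l, j.2, h⟩
    have hz : (fun l => c ⟨l, ⟨j₀, hj₀⟩⟩) = 0 := by
      refine hT _ fun l' => ?_
      have h1 := hc _ (hgP l' (i - 1 - j₀))
      rw [map_sum, LinearMap.sum_apply, Fintype.sum_sigma] at h1
      have h2 : ∀ l : Fin k, (∑ j : Fin (d l), B (c ⟨l, j⟩ • g ⟨l, j⟩) ((N ^ (i - 1 - j₀)) (v l'))) =
          c ⟨l, ⟨j₀, hj₀⟩⟩ * ((-1) ^ j₀ * B (v l) ((N ^ (i - 1)) (v l'))) := fun l => by
        rw [Finset.sum_eq_single (⟨j₀, hj₀⟩ : Fin (d l))]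
        · rw [map_smul, LinearMap.smul_apply, smul_eq_mul]
          show _ * B ((N ^ j₀) (v l)) _ = _
          rw [hB.shift j₀ (i - 1 - j₀) (v l) (v l')
            (JordanChains.pow_eq_zero_of_le (hkill l') (by omega)),
            show j₀ + (i - 1 - j₀) = i - 1 by omega]
        · intro j _ hj
          rw [map_smul, LinearMap.smul_apply, smul_eq_mul]
          rcases lt_trichotomy (j : ℕ) j₀ with h | h | h
          · rw [hmin l j h, zero_mul]
          · exact absurd (Fin.ext h) hj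
          · show _ * B ((N ^ (j : ℕ)) (v l)) _ = 0
            rw [hB.vanish (j : ℕ) (i - 1 - j₀) (v l) (v l')
              (JordanChains.pow_eq_zero_of_le (hkill l') (by omega)), mul_zero]
        · simp
      simp only [h2] at h1
      have h3 : (-1 : F) ^ j₀ * ∑ l, c ⟨l, ⟨j₀, hj₀⟩⟩ * B (v l) ((N ^ (i - 1)) (v l')) = 0 := by
        rw [← h1, Finset.mul_sum]
        exact Finset.sum_congr rfl fun l _ => by ring
      exact (mul_eq_zero.1 h3).resolve_left (pow_ne_zero _ (neg_ne_zero.2 one_ne_zero))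
    exact hne (congrFun hz l₁)
  have hli : LinearIndependent F g := Fintype.linearIndependent_iff.2 fun c hc =>
    congrFun (key c fun u _ => by rw [hc, map_zero, LinearMap.zero_apply])
  refine ⟨P, hPW, hPN, fun y hy hy0 => ?_, d, v,
    ⟨fun _ => hi, fun l => by simpa using hgP l 0, hkill, hli, le_rfl⟩, ?_⟩
  · by_contra hcon
    push Not at hcon
    obtain ⟨c, rfl⟩ := (Submodule.mem_span_range_iff_exists_fun F).1 hy
    exact hy0 (by simp [key c hcon])
  · show (Finset.univ : Finset (Fin k)).val.map (fun _ => i) = _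
    rw [Multiset.map_const', Finset.card_val, Finset.card_univ, Fintype.card_fin]

theorem even_parts (halt : B.IsAlt) (hB : JordanForms.Inv (σ := RingHom.id F) B N) {W : Submodule F V}
    (hW : W.map N ≤ W) (hnd : NdOn B W) {t : ℕ} {d : Fin t → ℕ} {v : Fin t → V} (h : ChainsOn N W d v) :
    ∀ a, Odd a → Even ((parts d).count a) := by
  intro a ha
  have hW' : ∀ x ∈ W, N x ∈ W := fun x hx => hW ⟨x, hx, rfl⟩
  rw [JordanChains.count_parts]
  refine JordanForms.even_count_of_alt (C := LinearMap.compl₁₂ B W.subtype W.subtype) (chains_restrict hW' h)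
    (fun u w => ?_) (fun u hu => ?_) (fun u => halt _) ha
  · exact hB (u : V) (w : V)
  · by_contra h0
    obtain ⟨y, hy, hne⟩ := hnd u u.2 fun e => h0 (Subtype.ext e)
    exact hne (hu ⟨y, hy⟩)

/-- the non-degenerate piece of largest block size -/
theorem exists_top_piece (h2 : (2 : F) ≠ 0) (halt : B.IsAlt) (hB : JordanForms.Inv (σ := RingHom.id F) B N)
    {W : Submodule F V} (hW : W.map N ≤ W) (hnd : NdOn B W) {t : ℕ} {d : Fin t → ℕ} {v : Fin t → V}
    (h : ChainsOn N W d v) (ht : 0 < t) :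
    ∃ i k, i ∈ parts d ∧ 1 ≤ k ∧ ((Even i ∧ k = 1) ∨ (Odd i ∧ k = 2)) ∧ ∃ P : Submodule F V, P ≤ W ∧ P.map N ≤ P ∧ NdOn B P ∧
      ∃ (d' : Fin k → ℕ) (v' : Fin k → V), ChainsOn N P d' v' ∧ parts d' = Multiset.replicate k i := by
  classical
  obtain ⟨k₀, -, hk₀⟩ := Finset.exists_max_image Finset.univ d ⟨⟨0, ht⟩, Finset.mem_univ _⟩
  set i := d k₀ with hi
  have hi1 : 1 ≤ i := h.pos k₀
  have hkillW : ∀ x ∈ W, (N ^ i) x = 0 := by
    intro x hx
    have hsp : Submodule.span F (Set.range fun a : Idx d => (N ^ (a.2 : ℕ)) (v a.1)) ≤ LinearMap.ker (N ^ i) := by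
      rw [Submodule.span_le]
      rintro _ ⟨a, rfl⟩
      show (N ^ i) ((N ^ (a.2 : ℕ)) (v a.1)) = 0
      rw [← Module.End.mul_apply, ← pow_add]
      exact JordanChains.pow_eq_zero_of_le (h.kill a.1) (by have := hk₀ a.1 (Finset.mem_univ _); omega)
    exact hsp (h.span hx)
  have hsw : ∀ x y, x ∈ W → y ∈ W → B y ((N ^ (i - 1)) x) = -((-1) ^ (i - 1) * B x ((N ^ (i - 1)) y)) := by
    intro x y hx hy
    have hs := hB.shift (i - 1) 0 x y (by rw [Nat.add_zero, Nat.sub_add_cancel hi1]; exact hkillW y hy)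
    rw [pow_zero, Module.End.one_apply, Nat.add_zero] at hs
    rw [← LinearMap.IsAlt.neg halt ((N ^ (i - 1)) x) y, hs]
  have htop : (N ^ (i - 1)) (v k₀) ≠ 0 := h.li.ne_zero (⟨k₀, ⟨i - 1, by omega⟩⟩ : Idx d)
  obtain ⟨y, hy, hyne⟩ := hnd _ (JordanChains.pow_mem (fun x hx => hW ⟨x, hx, rfl⟩) (h.mem k₀) (i - 1)) htop
  have hT0 : B y ((N ^ (i - 1)) (v k₀)) ≠ 0 := fun e => hyne (by
    rw [← LinearMap.IsAlt.neg halt y, e, neg_zero])
  have hmem : i ∈ parts d := Multiset.mem_map_of_mem d (Finset.mem_univ k₀)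
  rcases Nat.even_or_odd i with hev | hodd
  · obtain ⟨w, hw, hw0⟩ : ∃ w ∈ W, B w ((N ^ (i - 1)) w) ≠ 0 := by
      by_contra hcon
      push Not at hcon
      have hsym := hsw (v k₀) y (h.mem k₀) hy
      rw [Odd.neg_one_pow (Nat.Even.sub_odd hi1 hev odd_one), neg_one_mul, neg_neg] at hsym
      have h1 := hcon (y + v k₀) (W.add_mem hy (h.mem k₀))
      simp only [map_add, LinearMap.add_apply, hcon y hy, hcon _ (h.mem k₀), zero_add, add_zero, ← hsym] at h1
      exact hT0 ((mul_eq_zero.1 (show (2 : F) * B y ((N ^ (i - 1)) (v k₀)) = 0 by linear_combination h1)).resolve_left h2)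
    refine ⟨i, 1, hmem, le_rfl, Or.inl ⟨hev, rfl⟩, exists_block halt hB hW hi1 (fun _ => w) (fun _ => hw)
      (fun _ => hkillW w hw) fun c hc => ?_⟩
    have h1 := hc 0
    simp only [Fin.sum_univ_one] at h1
    funext l
    rw [Fin.fin_one_eq_zero l]
    exact (mul_eq_zero.1 h1).resolve_right hw0
  · have hev' : (-1 : F) ^ (i - 1) = 1 := (Nat.Odd.sub_odd hodd odd_one).neg_one_pow
    have hdiag : ∀ w ∈ W, B w ((N ^ (i - 1)) w) = 0 := fun w hw => by
      have hs := hsw w w hw hw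
      rw [hev', one_mul] at hs
      exact (mul_eq_zero.1 (show (2 : F) * B w ((N ^ (i - 1)) w) = 0 by linear_combination hs)).resolve_left h2
    refine ⟨i, 2, hmem, by omega, Or.inr ⟨hodd, rfl⟩, exists_block halt hB hW hi1 ![y, v k₀]
      (by intro l; fin_cases l <;> simp [hy, h.mem k₀])
      (fun l => by fin_cases l <;> simp [hkillW y hy, hkillW _ (h.mem k₀)]) fun c hc => ?_⟩
    have e0 := hc 0
    have e1 := hc 1
    simp only [Fin.sum_univ_two, Matrix.cons_val_zero, Matrix.cons_val_one] at e0 e1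
    rw [hdiag y hy, mul_zero, zero_add] at e0
    rw [hdiag _ (h.mem k₀), mul_zero, add_zero] at e1
    have hsw' := hsw (v k₀) y (h.mem k₀) hy
    rw [hev', one_mul] at hsw'
    have hT1 : B (v k₀) ((N ^ (i - 1)) y) ≠ 0 := fun e => hT0 (by rw [hsw', e, neg_zero])
    funext l
    fin_cases l
    · exact (mul_eq_zero.1 e1).resolve_right hT0
    · exact (mul_eq_zero.1 e0).resolve_right hT1

/-- sub-partitions give invariant non-degenerate subspaces -/
theorem exists_select (h2 : (2 : F) ≠ 0) (halt : B.IsAlt) (hB : JordanForms.Inv (σ := RingHom.id F) B N) :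
    ∀ (n : ℕ) (W : Submodule F V), finrank F W = n → W.map N ≤ W → NdOn B W →
      ∀ {t : ℕ} {d : Fin t → ℕ} {v : Fin t → V}, ChainsOn N W d v →
      ∀ ν : Multiset ℕ, ν ≤ parts d → (∀ a, Odd a → Even (ν.count a)) →
        ∃ U : Submodule F V, U ≤ W ∧ U.map N ≤ U ∧ NdOn B U ∧ finrank F U = ν.sum := by
  classical
  intro n
  induction n using Nat.strong_induction_on with
  | _ n ih =>
    intro W hWn hW hnd t d v h ν hν hνe
    by_cases hν0 : ν = 0
    · exact ⟨⊥, bot_le, by simp, fun y hy hy0 => absurd ((Submodule.mem_bot F).1 hy) hy0, by simp [hν0]⟩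
    have ht : 0 < t := by
      by_contra hcon
      obtain rfl : t = 0 := by omega
      exact hν0 (Multiset.le_zero.1 (hν.trans (by simp [parts])))
    obtain ⟨i, k, hi, hk1, hik, P, hPW, hPN, hPnd, d', v', hP', hd'⟩ := exists_top_piece h2 halt hB hW hnd h ht
    obtain ⟨hsup, hdisj, hsum, hRnd, hort⟩ := Pieces.nd_split halt hnd hPnd hPW
    set R := W ⊓ B.orthogonal P with hR
    have hRN : R.map N ≤ R := by
      rintro _ ⟨y, hy, rfl⟩
      refine mem_perp.2 ⟨hW ⟨y, (mem_perp.1 hy).1, rfl⟩, fun p hp => ?_⟩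
      have hy' := (mem_perp.1 hy).2
      have hinj : Function.Injective (((LinearMap.id : V →ₗ[F] V) + N).restrict (show ∀ x ∈ P, ((LinearMap.id : V →ₗ[F] V) + N) x ∈ P from
          fun x hx => P.add_mem hx (hPN ⟨x, hx, rfl⟩))) := (injective_iff_map_eq_zero _).2 fun a ha => by
        refine Subtype.ext ?_
        by_contra h0
        obtain ⟨u, hu, hne⟩ := hPnd _ a.2 h0
        refine hne ?_
        rw [← hB, show (a : V) + N a = 0 from congrArg Subtype.val ha, map_zero, LinearMap.zero_apply]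
      obtain ⟨q, hq⟩ := LinearMap.injective_iff_surjective.1 hinj ⟨p, hp⟩
      have e : (q : V) + N q = p := congrArg Subtype.val hq
      have h1 := hB (q : V) y
      rw [e, map_add, hy' p hp, zero_add, hy' q q.2] at h1
      exact h1
    have hnil : IsNilpotent (N.restrict (fun x (hx : x ∈ R) => hRN ⟨x, hx, rfl⟩)) := by
      refine ⟨∑ l, d l, LinearMap.ext fun w => Subtype.ext ?_⟩
      rw [restrict_pow]
      have hsp : Submodule.span F (Set.range fun a : Idx d => (N ^ (a.2 : ℕ)) (v a.1)) ≤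
          LinearMap.ker (N ^ (∑ l, d l)) := by
        rw [Submodule.span_le]
        rintro _ ⟨a, rfl⟩
        show (N ^ _) ((N ^ (a.2 : ℕ)) (v a.1)) = 0
        rw [← Module.End.mul_apply, ← pow_add]
        refine JordanChains.pow_eq_zero_of_le (h.kill a.1) ?_
        have := Finset.single_le_sum (f := d) (fun j _ => Nat.zero_le _) (Finset.mem_univ a.1)
        omega
      exact hsp (h.span (mem_perp.1 w.2).1)
    obtain ⟨t₂, d₂, w₂, h₂⟩ := JordanChains.exists_chains _ hnil
    have h₂' : ChainsOn N R d₂ fun l => (w₂ l : V) := by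
      refine ⟨h₂.pos, fun l => (w₂ l).2, fun l => ?_, ?_, ?_⟩
      · rw [← restrict_pow (fun x (hx : x ∈ R) => hRN ⟨x, hx, rfl⟩), h₂.kill]; rfl
      · simp only [← restrict_pow (fun x (hx : x ∈ R) => hRN ⟨x, hx, rfl⟩)]
        exact h₂.li.map' R.subtype R.ker_subtype
      · simp only [← restrict_pow (fun x (hx : x ∈ R) => hRN ⟨x, hx, rfl⟩)]
        intro x hx
        have := Submodule.mem_map_of_mem (f := R.subtype) (h₂.span (Submodule.mem_top : (⟨x, hx⟩ : R) ∈ ⊤))
        rw [Submodule.map_span, ← Set.range_comp] at this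
        exact this
    obtain ⟨t₃, d₃, w₃, h₃, hp₃⟩ := chainsOn_sup hdisj hPN hRN hP' h₂'
    rw [hsup] at h₃
    have hparts : parts d = Multiset.replicate k i + parts d₂ := by
      rw [parts_unique (fun x hx => hW ⟨x, hx, rfl⟩) h h₃, hp₃, hd']
    have hRn : finrank F R < n := by
      have := finrank_of_chainsOn hP' hPN
      rw [hd', Multiset.sum_replicate, smul_eq_mul] at this
      have hi1 : 1 ≤ i := by
        obtain ⟨l, -, rfl⟩ := Multiset.mem_map.1 hi; exact h.pos l
      have h4 : 1 ≤ k * i := Nat.one_le_iff_ne_zero.2 (Nat.mul_ne_zero (by omega) (by omega))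
      omega
    have heven_rep : ∀ a, Odd a → Even ((Multiset.replicate k i).count a) := by
      intro a ha
      rw [Multiset.count_replicate]
      split_ifs with hai
      · subst hai
        rcases hik with ⟨hev, -⟩ | ⟨-, rfl⟩
        · exact absurd ha (Nat.not_odd_iff_even.2 hev)
        · exact even_two
      · exact ⟨0, rfl⟩
    rw [hparts] at hν
    by_cases hle : Multiset.replicate k i ≤ ν
    · obtain ⟨ν', rfl⟩ := Multiset.le_iff_exists_add.1 hle
      have hν'e : ∀ a, Odd a → Even (ν'.count a) := fun a ha => by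
        have := hνe a ha
        rw [Multiset.count_add, Nat.even_add] at this
        exact this.1 (heven_rep a ha)
      obtain ⟨U, hUR, hUN, hUnd, hUd⟩ := ih _ hRn R rfl hRN hRnd h₂' ν' (by
        exact le_of_add_le_add_left hν) hν'e
      obtain ⟨hnd', hd2⟩ := Pieces.nd_sup halt hPnd hUnd fun u hu w hw => hort u hu w (hUR hw)
      refine ⟨P ⊔ U, sup_le hPW (hUR.trans inf_le_left), ?_, hnd', ?_⟩
      · rw [Submodule.map_sup]; exact sup_le_sup hPN hUN
      · rw [finrank_sup_of_disjoint hd2, finrank_of_chainsOn hP' hPN, hd', hUd, Multiset.sum_add]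
    · have hν' : ν ≤ parts d₂ := by
        rw [Multiset.le_iff_count]
        intro a
        have h1 := Multiset.le_iff_count.1 hν a
        rw [Multiset.count_add, Multiset.count_replicate] at h1
        by_cases hai : i = a
        · subst hai
          rw [← Multiset.le_count_iff_replicate_le] at hle
          rcases hik with ⟨-, rfl⟩ | ⟨hodd, rfl⟩
          · omega
          · obtain ⟨j, hj⟩ := hνe i hodd
            omega
        · rw [if_neg hai] at h1; omega
      obtain ⟨U, hUR, hUN, hUnd, hUd⟩ := ih _ hRn R rfl hRN hRnd h₂' ν hν' hνe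
      exact ⟨U, hUR.trans inf_le_left, hUN, hUnd, hUd⟩

end Cfsg.Agent.Forms.Elusive.SympUnipotent
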