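import Mathlib
import Cfsg.Agent.Lib.Forms.Elusive.Unipotent
import Cfsg.Prelude.Def_GeometricClasses

/-!
# Decompositions permuted by a unipotent map
-/

set_option autoImplicit false
set_option linter.unusedSectionVars false

open Module

namespace Cfsg.Agent.Forms.Elusive

open Cfsg.Agent.Classical.JordanChains

variable {F : Type*} [Field F] [Fintype F] {n : ℕ}

/-- an element of order `p` of given Jordan type in the special linear group -/
theorem exists_special_unip (p : ℕ) [hp : Fact p.Prime] [CharP F p] (hn : 0 < n) (μ : Multiset ℕ)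
    (hμ : ∀ a ∈ μ, 0 < a ∧ a ≤ p) (hsum : μ.sum = n) (hone : ¬ ∀ a ∈ μ, a = 1) :
    ∃ (x : Matrix.SpecialLinearGroup (Fin n) F),
      (∃ c : F, ((x ^ p : Matrix.SpecialLinearGroup (Fin n) F) : Matrix (Fin n) (Fin n) F) = c • 1) ∧
      (∀ c : F, (x : Matrix (Fin n) (Fin n) F) ≠ c • 1) ∧
      (Matrix.toLin' (x : Matrix (Fin n) (Fin n) F)) ^ p = 1 ∧
      ∃ (t : ℕ) (d : Fin t → ℕ) (v : Fin t → Fin n → F),
        Chains (Matrix.toLin' (x : Matrix (Fin n) (Fin n) F) - 1) d v ∧ parts d = μ := by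
  classical
  obtain ⟨g, hg, hpart⟩ := exists_unip (F := F) (n := n) ⟨μ, fun {a} ha => (hμ a ha).1, hsum⟩
  have hparts : (partition g hg).parts = μ := by rw [hpart]
  have hgp : g ^ p = 1 := by
    have := (pow_char_eq_one_iff p g 1).2 ((partition_pow_eq_zero hg (p ^ 1)).2 fun a ha => by
      rw [hparts] at ha; rw [pow_one]; exact (hμ a ha).2)
    rwa [pow_one] at this
  have hdet : (g : Matrix (Fin n) (Fin n) F).det = 1 := by
    have h1 := congrArg (fun u : GL (Fin n) F => (u : Matrix (Fin n) (Fin n) F).det) hgp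
    simp only [Units.val_pow_eq_pow_val, Matrix.det_pow, Units.val_one, Matrix.det_one] at h1
    have h2 : ((g : Matrix (Fin n) (Fin n) F).det - 1) ^ p = 0 := by rw [sub_pow_char, h1, one_pow, sub_self]
    exact sub_eq_zero.1 (eq_zero_of_pow_eq_zero h2)
  have hgp' : (g : Matrix (Fin n) (Fin n) F) ^ p = 1 := by
    rw [← Units.val_pow_eq_pow_val, hgp, Units.val_one]
  refine ⟨⟨g, hdet⟩, ⟨1, ?_⟩, fun c hc => ?_, ?_, ?_⟩
  · refine (Matrix.SpecialLinearGroup.coe_pow _ p).trans ?_
    show (g : Matrix (Fin n) (Fin n) F) ^ p = _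
    rw [hgp', one_smul]
  · change (g : Matrix (Fin n) (Fin n) F) = c • 1 at hc
    have hc1 : c = 1 := by
      have h1 := congrArg (fun M : Matrix (Fin n) (Fin n) F => M ⟨0, hn⟩ ⟨0, hn⟩) hgp'
      simp only [hc, _root_.smul_pow, one_pow] at h1
      simp at h1
      exact sub_eq_zero.1 (eq_zero_of_pow_eq_zero (n := p) (by rw [sub_pow_char, h1, one_pow, sub_self]))
    refine hone fun a ha => ?_
    have h0 : nil g ^ 1 = 0 := by
      rw [pow_one, nil_eq_zero]; exact Units.ext (by rw [hc, hc1, one_smul]; rfl)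
    have := (partition_pow_eq_zero hg 1).1 h0 a (hparts.symm ▸ ha)
    have := (hμ a ha).1
    omega
  · show Matrix.toLin' (g : Matrix (Fin n) (Fin n) F) ^ p = 1
    rw [← Matrix.toLin'_pow, hgp', Matrix.toLin'_one]
    rfl
  · obtain ⟨t, d, v, hch⟩ := exists_chains (nil g) hg
    refine ⟨t, d, v, ?_, by rw [← hparts, partition_eq hg hch]⟩
    have e : Matrix.toLin' (g : Matrix (Fin n) (Fin n) F) - 1 = nil g := by
      rw [nil, map_sub, Matrix.toLin'_one]; rfl
    show Chains (Matrix.toLin' (g : Matrix (Fin n) (Fin n) F) - 1) d v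
    rw [e]
    exact hch

variable {V : Type*} [AddCommGroup V] [Module F V] [FiniteDimensional F V]

/-- the sum of the powers below `p` -/
theorem sub_one_pow_pred (p : ℕ) [hp : Fact p.Prime] [CharP F p] (f : V →ₗ[F] V) :
    (f - 1) ^ (p - 1) = ∑ i ∈ Finset.range p, f ^ i := by
  have h : ((Polynomial.X - 1 : Polynomial F)) ^ (p - 1) = ∑ i ∈ Finset.range p, Polynomial.X ^ i := by
    have hX : (Polynomial.X - 1 : Polynomial F) ≠ 0 := by
      simpa using Polynomial.X_sub_C_ne_zero (1 : F)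
    refine mul_right_cancel₀ hX ?_
    rw [← pow_succ, Nat.sub_add_cancel hp.out.one_le, geom_sum_mul, sub_pow_char, one_pow]
  simpa using congrArg (Polynomial.aeval f) h

/-- a map of order `p` permuting a decomposition fixes every part if its Jordan type has few parts
equal to `p` -/
theorem sigma_eq_one (p : ℕ) [hp : Fact p.Prime] [CharP F p] {n a t : ℕ}
    {f : (Fin n → F) →ₗ[F] (Fin n → F)} (hf : f ^ p = 1) {D : Fin t → Submodule F (Fin n → F)}
    (hD : Cfsg.Geo.IsMDecomposition a D) {σ : Equiv.Perm (Fin t)} (hσ : ∀ j, (D j).map f = D (σ j))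
    {k : ℕ} {d : Fin k → ℕ} {v : Fin k → Fin n → F} (hch : Chains (f - 1) d v)
    (hcount : (parts d).count p < a) : σ = 1 := by
  classical
  have hpow : ∀ i j, (D j).map (f ^ i) = D ((σ ^ i) j) := fun i => by
    induction i with
    | zero => intro j; simp [Module.End.one_eq_id]
    | succ i ih =>
      intro j
      rw [pow_succ', Module.End.mul_eq_comp, Submodule.map_comp, ih, hσ, pow_succ', Equiv.Perm.mul_apply]
  have hinj : Function.Injective D := fun i j hij => by
    by_contra hne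
    have h1 : Disjoint (D i) (D j) := hD.indep.pairwiseDisjoint hne
    rw [hij] at h1
    have h2 := hD.finrank_eq j
    rw [disjoint_self.1 h1, finrank_bot] at h2
    exact hD.pos.ne h2
  have hσp : σ ^ p = 1 := Equiv.ext fun j => hinj (by
    rw [← hpow, hf, Module.End.one_eq_id, Submodule.map_id, Equiv.Perm.one_apply])
  by_contra hne
  obtain ⟨j₀, hj₀⟩ : ∃ j, σ j ≠ j := by
    by_contra hh
    push Not at hh
    exact hne (Equiv.ext hh)
  have hper : ∀ i, 0 < i → i < p → (σ ^ i) j₀ ≠ j₀ := fun i hi hip he => by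
    have h1 : Function.IsPeriodicPt σ i j₀ := by
      show (⇑σ)^[i] j₀ = j₀
      rw [← Equiv.Perm.coe_pow]; exact he
    have h2 : Function.IsPeriodicPt σ p j₀ := by
      show (⇑σ)^[p] j₀ = j₀
      rw [← Equiv.Perm.coe_pow, hσp, Equiv.Perm.one_apply]
    have h3 := h2.gcd h1
    rw [(hp.out.coprime_iff_not_dvd.2 fun hd => Nat.not_le.2 hip (Nat.le_of_dvd hi hd)).gcd_eq_one] at h3
    exact hj₀ h3
  have hker : ∀ x ∈ D j₀, ((f - 1) ^ (p - 1)) x = 0 → x = 0 := fun x hx h0 => by
    rw [sub_one_pow_pred, LinearMap.sum_apply,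
      ← Finset.add_sum_erase _ _ (Finset.mem_range.2 hp.out.pos), pow_zero, Module.End.one_apply] at h0
    refine Submodule.disjoint_def.1 (hD.indep j₀) x hx ?_
    rw [eq_neg_of_add_eq_zero_left h0]
    refine neg_mem (sum_mem fun i hi => ?_)
    obtain ⟨hi0, hip⟩ := Finset.mem_erase.1 hi
    have hmem : (f ^ i) x ∈ D ((σ ^ i) j₀) := by rw [← hpow]; exact ⟨x, hx, rfl⟩
    exact Submodule.mem_iSup_of_mem ((σ ^ i) j₀)
      (Submodule.mem_iSup_of_mem (hper i (Nat.pos_of_ne_zero hi0) (Finset.mem_range.1 hip)) hmem)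
  have hle : a ≤ finrank F (LinearMap.range ((f - 1) ^ (p - 1))) := by
    rw [← hD.finrank_eq j₀]
    refine LinearMap.finrank_le_finrank_of_injective
      (f := ((f - 1) ^ (p - 1)).rangeRestrict.comp (D j₀).subtype) ?_
    rw [← LinearMap.ker_eq_bot, LinearMap.ker_eq_bot']
    exact fun x hx => Subtype.ext (hker x x.2 (congrArg Subtype.val hx))
  have hdp : ∀ i, d i ≤ p := (hch.pow_eq_zero_iff p).1 (by
    have h := congrArg (Polynomial.aeval f) (sub_pow_char (Polynomial.X : Polynomial F) 1 (p := p))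
    simpa [hf] using h)
  have hsum : finrank F (LinearMap.range ((f - 1) ^ (p - 1))) = (parts d).count p := by
    rw [hch.finrank_range_pow, count_parts, Finset.card_filter]
    refine Finset.sum_congr rfl fun i _ => ?_
    have := hdp i
    have := hp.out.pos
    split_ifs <;> omega
  omega

end Cfsg.Agent.Forms.Elusive
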